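import Mathlib

/-!
# Polynomial sequences with respect to a filtration, and the Hall-Petrescu formula

A sequence `f : ℕ → G` is polynomial of shift `k` for a filtration `F` when its `i`-th finite
difference takes values in `F (k + i)` for every `i`. Products, inverses and commutators of
polynomial sequences are polynomial (Lazard); their Taylor expansion gives the Hall-Petrescu
formula `x ^ n * y ^ n = (x * y) ^ n * ∏ c_i ^ C(n, i)` with `c_i` in the `i`-th term of the lower
central series of `⟨x, y⟩`.
-/

namespace Cfsg.Agent.Lib.PGroupTheory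

open scoped commutatorElement

variable {G : Type*} [Group G]

/-- A filtration compatible with commutators. -/
structure CommFiltration (G : Type*) [Group G] where
  /-- the terms -/
  toFun : ℕ → Subgroup G
  anti : Antitone toFun
  comm : ∀ i j, ∀ a ∈ toFun i, ∀ b ∈ toFun j, ⁅a, b⁆ ∈ toFun (i + j)

/-- The finite difference of a sequence. -/
def delta (f : ℕ → G) : ℕ → G := fun n => (f n)⁻¹ * f (n + 1)

/-- The first `m` differences of `f` lie in the filtration, shifted by `k`. -/
def IsPoly (F : CommFiltration G) : ℕ → ℕ → (ℕ → G) → Prop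
  | 0, k, f => ∀ n, f n ∈ F.toFun k
  | m + 1, k, f => (∀ n, f n ∈ F.toFun k) ∧ IsPoly F m (k + 1) (delta f)

namespace IsPoly

variable {F : CommFiltration G}

theorem mem : ∀ {m k : ℕ} {f : ℕ → G}, IsPoly F m k f → ∀ n, f n ∈ F.toFun k
  | 0, _, _, h => h
  | _ + 1, _, _, h => h.1

theorem pred : ∀ {m k : ℕ} {f : ℕ → G}, IsPoly F (m + 1) k f → IsPoly F m k f
  | 0, _, _, h => h.1
  | _ + 1, _, _, h => ⟨h.1, pred h.2⟩

theorem mono : ∀ {m k l : ℕ} {f : ℕ → G}, IsPoly F m k f → l ≤ k → IsPoly F m l f
  | 0, _, _, _, h, hl => fun n => F.anti hl (h n)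
  | _ + 1, _, _, _, h, hl => ⟨fun n => F.anti hl (h.1 n), mono h.2 (by omega)⟩

theorem closed : ∀ m,
    (∀ k (f g : ℕ → G), IsPoly F m k f → IsPoly F m k g → IsPoly F m k (fun n => f n * g n)) ∧
    (∀ k (f : ℕ → G), IsPoly F m k f → IsPoly F m k (fun n => (f n)⁻¹)) ∧
    (∀ a b (f g : ℕ → G), IsPoly F m a f → IsPoly F m b g →
      IsPoly F m (a + b) (fun n => ⁅f n, g n⁆)) := by
  intro m
  induction m with
  | zero =>
    exact ⟨fun k f g hf hg n => mul_mem (hf n) (hg n), fun k f hf n => inv_mem (hf n),
      fun a b f g hf hg n => F.comm a b _ (hf n) _ (hg n)⟩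
  | succ m ih =>
    obtain ⟨hmul, hinv, hcomm⟩ := ih
    refine ⟨fun k f g hf hg => ⟨fun n => mul_mem (hf.1 n) (hg.1 n), ?_⟩,
      fun k f hf => ⟨fun n => inv_mem (hf.1 n), ?_⟩,
      fun a b f g hf hg => ⟨fun n => F.comm a b _ (hf.1 n) _ (hg.1 n), ?_⟩⟩
    · have h := hmul _ _ _ (hmul _ _ _ hf.2
        ((hcomm _ _ _ _ (hinv _ _ hf.2) (hinv _ _ hg.pred)).mono (l := k + 1) (by omega))) hg.2
      convert h using 1
      funext n
      simp only [delta, commutatorElement_def]
      group
    · have h := hmul _ _ _ ((hcomm _ _ _ _ hf.pred (hinv _ _ hf.2)).mono (l := k + 1) (by omega))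
        (hinv _ _ hf.2)
      convert h using 1
      funext n
      simp only [delta, commutatorElement_def]
      group
    · have hgv := hmul _ _ _ hg.pred (hg.2.mono (Nat.le_succ b))
      have hx0 := (hcomm _ _ _ _ hf.2 hgv).mono (l := a + b + 1) (by omega)
      have hX := hmul _ _ _
        ((hcomm _ _ _ _ hf.pred hx0).mono (l := a + b + 1) (by omega)) hx0
      have hy0 := (hcomm _ _ _ _ hf.pred hg.2).mono (l := a + b + 1) (by omega)
      have hY := hmul _ _ _
        ((hcomm _ _ _ _ hg.pred hy0).mono (l := a + b + 1) (by omega)) hy0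
      have hF := hcomm _ _ _ _ hf.pred hg.pred
      have h := hmul _ _ _ (hmul _ _ _ hX
        ((hcomm _ _ _ _ (hinv _ _ hX) (hinv _ _ hF)).mono (l := a + b + 1) (by omega))) hY
      convert h using 1
      funext n
      simp only [delta, commutatorElement_def]
      group

theorem mul {m k : ℕ} {f g : ℕ → G} (hf : IsPoly F m k f) (hg : IsPoly F m k g) :
    IsPoly F m k (fun n => f n * g n) :=
  (closed m).1 k f g hf hg

theorem inv {m k : ℕ} {f : ℕ → G} (hf : IsPoly F m k f) : IsPoly F m k (fun n => (f n)⁻¹) :=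
  (closed m).2.1 k f hf

theorem powChoose : ∀ (m k i : ℕ) {c : G}, c ∈ F.toFun (k + i) →
    IsPoly F m k (fun n => c ^ n.choose i) := by
  intro m
  induction m with
  | zero => intro k i c hc n; exact pow_mem (F.anti (by omega) hc) _
  | succ m ih =>
    intro k i c hc
    refine ⟨fun n => pow_mem (F.anti (by omega) hc) _, ?_⟩
    cases i with
    | zero =>
      have h := ih (k + 1) 0 (c := (1 : G)) (one_mem _)
      convert h using 1
      funext n
      simp [delta]
    | succ i =>
      have h := ih (k + 1) i (c := c) (by simpa [Nat.add_assoc, Nat.add_comm 1 i] using hc)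
      convert h using 1
      funext n
      simp only [delta, Nat.choose_succ_succ]
      rw [pow_add, inv_mul_eq_iff_eq_mul]
      exact (Commute.pow_pow (Commute.refl c) _ _).eq

theorem apply_mem_of_vanish : ∀ (i : ℕ) {k : ℕ} {g : ℕ → G}, IsPoly F i k g →
    (∀ j < i, g j = 1) → g i ∈ F.toFun (k + i) := by
  intro i
  induction i with
  | zero => intro k g h _; exact h 0
  | succ i ih =>
    intro k g h hv
    have h1 := ih h.2 fun j hj => by simp [delta, hv j (by omega), hv (j + 1) (by omega)]
    simpa [delta, hv i (by omega), Nat.add_assoc, Nat.add_comm 1 i] using h1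

end IsPoly

/-- Taylor expansion of a polynomial sequence vanishing below `i`. -/
theorem exists_taylor (F : CommFiltration G) : ∀ (d i k : ℕ) (g : ℕ → G),
    (∀ m, IsPoly F m k g) → (∀ j < i, g j = 1) →
    ∃ c : ℕ → G, (∀ j, c j ∈ F.toFun (k + j)) ∧
      ∀ n < i + d, g n = ((List.range' i d).map fun j => c j ^ n.choose j).prod := by
  intro d
  induction d with
  | zero =>
    intro i k g _ hv
    exact ⟨fun _ => 1, fun j => one_mem _, fun n hn => by simp [hv n (by omega)]⟩
  | succ d ih =>
    intro i k g hg hv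
    have hc : g i ∈ F.toFun (k + i) := IsPoly.apply_mem_of_vanish i (hg i) hv
    obtain ⟨c, hc1, hc2⟩ := ih (i + 1) k (fun n => (g i ^ n.choose i)⁻¹ * g n)
      (fun m => (IsPoly.powChoose m k i hc).inv.mul (hg m)) (fun j hj => by
        rcases Nat.lt_succ_iff_lt_or_eq.1 hj with h | rfl
        · simp [hv j h, Nat.choose_eq_zero_of_lt h]
        · simp)
    refine ⟨Function.update c i (g i), fun j => ?_, fun n hn => ?_⟩
    · by_cases h : j = i
      · subst h; simpa using hc
      · simpa [h] using hc1 j
    · have e : ((List.range' (i + 1) d).map fun j => Function.update c i (g i) j ^ n.choose j) =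
          ((List.range' (i + 1) d).map fun j => c j ^ n.choose j) := by
        refine List.map_congr_left fun j hj => ?_
        have : j ≠ i := by have := (List.mem_range'_1.1 hj).1; omega
        simp [this]
      rw [List.range'_succ, List.map_cons, List.prod_cons, e, Function.update_self,
        ← hc2 n (by omega)]
      group

theorem commutator_top_lowerCentralSeries_le : ∀ (b a : ℕ),
    ⁅(⊤ : Subgroup G).lowerCentralSeries a, (⊤ : Subgroup G).lowerCentralSeries b⁆ ≤
      (⊤ : Subgroup G).lowerCentralSeries (a + b + 1) := by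
  intro b
  induction b with
  | zero => intro a; exact le_rfl
  | succ b ih =>
    intro a
    set N := (⊤ : Subgroup G).lowerCentralSeries (a + (b + 1) + 1) with hN
    let π := QuotientGroup.mk' N
    have key : ∀ S : Subgroup G, S ≤ N ↔ S.map π = ⊥ := fun S => by
      rw [Subgroup.map_eq_bot_iff, QuotientGroup.ker_mk']
    rw [key, Subgroup.map_commutator, Subgroup.lowerCentralSeries_succ, Subgroup.map_commutator,
      Subgroup.commutator_comm]
    apply Subgroup.commutator_commutator_eq_bot_of_rotate
    · rw [← Subgroup.map_commutator, ← Subgroup.map_commutator, ← key, Subgroup.commutator_comm ⊤,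
        ← Subgroup.lowerCentralSeries_succ]
      exact (ih (a + 1)).trans ((⊤ : Subgroup G).lowerCentralSeries_antitone (by omega))
    · rw [← Subgroup.map_commutator, ← Subgroup.map_commutator, ← key, hN,
        show a + (b + 1) + 1 = (a + b + 1) + 1 by omega, Subgroup.lowerCentralSeries_succ]
      exact Subgroup.commutator_mono (ih a) le_rfl

theorem commutator_lowerCentralSeries_le (H : Subgroup G) (a b : ℕ) :
    ⁅H.lowerCentralSeries a, H.lowerCentralSeries b⁆ ≤ H.lowerCentralSeries (a + b + 1) := by
  rw [← Subgroup.top_subtype_lowerCentralSeries H a, ← Subgroup.top_subtype_lowerCentralSeries H b,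
    ← Subgroup.top_subtype_lowerCentralSeries H (a + b + 1), ← Subgroup.map_commutator]
  exact Subgroup.map_mono (commutator_top_lowerCentralSeries_le b a)

/-- The lower central series of a subgroup, indexed from one, as a filtration. -/
def lcsFiltration (H : Subgroup G) : CommFiltration G where
  toFun i := H.lowerCentralSeries (i - 1)
  anti _ _ h := H.lowerCentralSeries_antitone (by omega)
  comm i j a ha b hb := by
    have h := commutator_lowerCentralSeries_le H (i - 1) (j - 1)
      (Subgroup.commutator_mem_commutator ha hb)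
    have hle : i + j - 1 ≤ i - 1 + (j - 1) + 1 := by omega
    exact H.lowerCentralSeries_antitone hle h

/-- The Hall-Petrescu formula. -/
theorem hallPetrescu (x y : G) (n : ℕ) :
    ∃ c : ℕ → G, (∀ i, c i ∈ (Subgroup.closure ({x, y} : Set G)).lowerCentralSeries (i - 1)) ∧
      x ^ n * y ^ n = (x * y) ^ n * ((List.range' 2 (n - 1)).map fun i => c i ^ n.choose i).prod := by
  set H := Subgroup.closure ({x, y} : Set G)
  let F := lcsFiltration H
  have hpow : ∀ z ∈ H, ∀ m, IsPoly F m 0 fun k => z ^ k := by
    intro z hz m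
    simpa using IsPoly.powChoose (F := F) m 0 1 (c := z) (by simpa [F, lcsFiltration] using hz)
  have hx : x ∈ H := Subgroup.subset_closure (by simp)
  have hy : y ∈ H := Subgroup.subset_closure (by simp)
  obtain ⟨c, hc1, hc2⟩ := exists_taylor F (n - 1) 2 0
    (fun k => ((x * y) ^ k)⁻¹ * (x ^ k * y ^ k))
    (fun m => (hpow _ (mul_mem hx hy) m).inv.mul ((hpow _ hx m).mul (hpow _ hy m)))
    (fun j hj => by interval_cases j <;> simp)
  refine ⟨c, fun i => by simpa [F, lcsFiltration] using hc1 i, ?_⟩
  rw [← hc2 n (by omega)]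
  group

/-- `n * C(n-1, i-1) = i * C(n, i)` gives divisibility by prime powers. -/
theorem primePow_dvd_choose {p : ℕ} (hp : p.Prime) (e i : ℕ) (h1 : 1 ≤ i) (h2 : i < p) :
    p ^ e ∣ (p ^ e).choose i := by
  obtain ⟨j, rfl⟩ : ∃ j, i = j + 1 := ⟨i - 1, by omega⟩
  obtain ⟨m, hm⟩ : ∃ m, p ^ e = m + 1 :=
    ⟨p ^ e - 1, by have := Nat.one_le_pow e p hp.pos; omega⟩
  rw [hm]
  refine (Nat.Coprime.dvd_mul_right ?_).1 ⟨_, (Nat.add_one_mul_choose_eq m j).symm⟩
  rw [← hm]
  exact Nat.Coprime.pow_left _
    ((Nat.Prime.coprime_iff_not_dvd hp).2 (Nat.not_dvd_of_pos_of_lt (by omega) h2))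

end Cfsg.Agent.Lib.PGroupTheory
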