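import Cfsg.Prelude.Def_PLocal
import Cfsg.Agent.Lib.PGroupTheory.Poly

/-!
# Regular `p`-groups

`RegularAt p e G`: for all `a b`, `(ab)^(p^e) = a^(p^e) b^(p^e) c` with `c` a product of `p^e`-th powers
of elements of the derived subgroup of `⟨a, b⟩`. So `Cfsg.IsRegularPGroup p G` is `IsPGroup p G` and
`RegularAt p e G` for every `e`.
-/

namespace Cfsg.Agent.Lib.PGroupTheory

open scoped commutatorElement
open Cfsg

variable {G : Type*} [Group G] {p e : ℕ}

/-- The regularity condition at level `e`. -/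
def RegularAt (p e : ℕ) (G : Type*) [Group G] : Prop :=
  ∀ a b : G, ∃ c ∈ powerClosure p e ⁅Subgroup.closure ({a, b} : Set G), Subgroup.closure ({a, b} : Set G)⁆,
    (a * b) ^ (p ^ e) = a ^ (p ^ e) * b ^ (p ^ e) * c

theorem isRegularPGroup_iff : IsRegularPGroup p G ↔ IsPGroup p G ∧ ∀ e, RegularAt p e G :=
  ⟨fun h => ⟨h.1, fun e a b => h.2 a b e⟩, fun h => ⟨h.1, fun a b e => h.2 e a b⟩⟩

theorem powerClosure_mono {H K : Subgroup G} (h : H ≤ K) :
    powerClosure p e H ≤ powerClosure p e K :=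
  Subgroup.closure_mono fun _ ⟨x, hx, hy⟩ => ⟨x, h hx, hy⟩

theorem pow_mem_powerClosure {H : Subgroup G} {x : G} (hx : x ∈ H) :
    x ^ p ^ e ∈ powerClosure p e H :=
  Subgroup.subset_closure ⟨x, hx, rfl⟩

theorem powerClosure_le (H : Subgroup G) : powerClosure p e H ≤ H :=
  (Subgroup.closure_le _).2 fun _ ⟨_, hx, hy⟩ => hy ▸ pow_mem hx _

theorem powerClosure_eq_bot {H : Subgroup G} (h : ∀ x ∈ H, x ^ p ^ e = 1) :
    powerClosure p e H = ⊥ := by
  rw [powerClosure, Subgroup.closure_eq_bot_iff]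
  rintro _ ⟨x, hx, rfl⟩
  exact h x hx

theorem map_powerClosure {G' : Type*} [Group G'] (f : G →* G') (H : Subgroup G) :
    (powerClosure p e H).map f = powerClosure p e (H.map f) := by
  rw [powerClosure, powerClosure, MonoidHom.map_closure]
  congr 1
  ext y
  constructor
  · rintro ⟨_, ⟨x, hx, rfl⟩, rfl⟩
    exact ⟨f x, Subgroup.mem_map_of_mem f hx, map_pow f x _⟩
  · rintro ⟨_, ⟨x, hx, rfl⟩, rfl⟩
    exact ⟨x ^ p ^ e, ⟨x, hx, rfl⟩, map_pow f x _⟩

theorem conj_mem_powerClosure {H : Subgroup G} {k z : G} (hk : k ∈ Subgroup.normalizer (H : Set G))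
    (hz : z ∈ powerClosure p e H) : k * z * k⁻¹ ∈ powerClosure p e H := by
  have h : (powerClosure p e H).map (MulAut.conj k).toMonoidHom ≤ powerClosure p e H := by
    rw [map_powerClosure]
    refine powerClosure_mono ?_
    rintro _ ⟨x, hx, rfl⟩
    exact (Subgroup.mem_normalizer_iff.1 hk x).1 hx
  exact h ⟨z, hz, rfl⟩

theorem RegularAt.quotient (h : RegularAt p e G) (N : Subgroup G) [N.Normal] :
    RegularAt p e (G ⧸ N) := by
  intro a b
  obtain ⟨a, rfl⟩ := QuotientGroup.mk'_surjective N a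
  obtain ⟨b, rfl⟩ := QuotientGroup.mk'_surjective N b
  obtain ⟨c, hc, hab⟩ := h a b
  refine ⟨QuotientGroup.mk' N c, ?_, by rw [← map_mul, ← map_pow, hab]; simp⟩
  have := Subgroup.mem_map_of_mem (QuotientGroup.mk' N) hc
  rwa [map_powerClosure, Subgroup.map_commutator, MonoidHom.map_closure, Set.image_pair] at this

theorem RegularAt.subgroup (h : RegularAt p e G) (H : Subgroup G) : RegularAt p e H := by
  intro a b
  obtain ⟨c, hc, hab⟩ := h a b
  have heq : powerClosure p e ⁅Subgroup.closure ({(a : G), (b : G)} : Set G),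
      Subgroup.closure ({(a : G), (b : G)} : Set G)⁆ =
      (powerClosure p e ⁅Subgroup.closure ({a, b} : Set H), Subgroup.closure ({a, b} : Set H)⁆).map
        H.subtype := by
    rw [map_powerClosure, Subgroup.map_commutator, MonoidHom.map_closure, Set.image_pair]
    rfl
  rw [heq] at hc
  obtain ⟨c', hc', rfl⟩ := hc
  exact ⟨c', hc', Subtype.ext (by simpa using hab)⟩

theorem isRegularPGroup_quotient (h : IsRegularPGroup p G) (N : Subgroup G) [N.Normal] :
    IsRegularPGroup p (G ⧸ N) := by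
  rw [isRegularPGroup_iff] at h ⊢
  exact ⟨h.1.to_quotient N, fun e => (h.2 e).quotient N⟩

theorem isRegularPGroup_subgroup (h : IsRegularPGroup p G) (H : Subgroup G) :
    IsRegularPGroup p H := by
  rw [isRegularPGroup_iff] at h ⊢
  exact ⟨h.1.to_subgroup H, fun e => (h.2 e).subgroup H⟩

/-! ### Proper subgroups of two-generated nilpotent groups -/

theorem commutator_le_of_isCoatom {K : Type*} [Group K] [Finite K] [Group.IsNilpotent K]
    {M : Subgroup K} (hM : IsCoatom M) : commutator K ≤ M := by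
  have : M.Normal :=
    Subgroup.NormalizerCondition.normal_of_coatom M Group.normalizerCondition_of_isNilpotent hM
  obtain ⟨x, hx⟩ : ∃ x, x ∉ M := by
    by_contra h
    push Not at h
    exact hM.1 (eq_top_iff.2 fun x _ => h x)
  exact Subgroup.Normal.commutator_le_of_self_sup_commutative_eq_top
    (hM.2 (M ⊔ Subgroup.zpowers x) (left_lt_sup.2 fun h => hx (h (Subgroup.mem_zpowers x))))
    inferInstance

theorem zpowers_sup_commutator_ne_top {K : Type*} [Group K] [Finite K] [Group.IsNilpotent K]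
    (a : K) (hK : commutator K ≠ ⊥) : Subgroup.zpowers a ⊔ commutator K ≠ ⊤ := by
  intro h
  apply hK
  have htop : Subgroup.zpowers a = ⊤ := by
    by_contra hne
    obtain ⟨M, hM, hle⟩ := (eq_top_or_exists_le_coatom (Subgroup.zpowers a)).resolve_left hne
    exact hM.1 (eq_top_iff.2 (h ▸ sup_le hle (commutator_le_of_isCoatom hM)))
  rw [commutator_eq_bot_iff]
  refine ⟨⟨fun x y => ?_⟩⟩
  obtain ⟨i, rfl⟩ := Subgroup.mem_zpowers_iff.1 (htop.symm ▸ Subgroup.mem_top x : x ∈ Subgroup.zpowers a)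
  obtain ⟨j, rfl⟩ := Subgroup.mem_zpowers_iff.1 (htop.symm ▸ Subgroup.mem_top y : y ∈ Subgroup.zpowers a)
  exact (Commute.zpow_zpow (Commute.refl a) i j).eq

variable [Finite G] [hp : Fact p.Prime]

theorem card_sup_commutator_lt (hG : IsPGroup p G) {K : Subgroup G} {a : G} (ha : a ∈ K)
    (hK : ⁅K, K⁆ ≠ ⊥) : Nat.card ↥(Subgroup.zpowers a ⊔ ⁅K, K⁆) < Nat.card ↥K := by
  have : Group.IsNilpotent K := (hG.to_subgroup K).isNilpotent
  have hsub : commutator K ≠ ⊥ := fun h => hK (by
    rw [← Subgroup.map_subtype_commutator, h, Subgroup.map_bot])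
  have hlt := zpowers_sup_commutator_ne_top (⟨a, ha⟩ : K) hsub
  refine lt_of_le_of_ne ?_ fun h => hlt ?_
  · exact Subgroup.card_le_of_le (sup_le (Subgroup.zpowers_le.2 ha) (Subgroup.commutator_le_self K))
  · apply Subgroup.map_injective K.subtype_injective
    rw [Subgroup.map_sup, MonoidHom.map_zpowers, Subgroup.map_subtype_commutator,
      ← MonoidHom.range_eq_map, Subgroup.range_subtype]
    exact Subgroup.eq_of_le_of_card_ge
      (sup_le (Subgroup.zpowers_le.2 ha) (Subgroup.commutator_le_self K)) h.ge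

theorem card_commutator_lt (hG : IsPGroup p G) {K : Subgroup G} (hK : ⁅K, K⁆ ≠ ⊥) :
    Nat.card ↥⁅K, K⁆ < Nat.card ↥K :=
  lt_of_le_of_lt (Subgroup.card_le_of_le le_sup_right) (card_sup_commutator_lt hG (one_mem K) hK)

omit [Finite G] hp in
/-- If `⁅a, b⁆ ∈ T` and `a, b` normalize `T` then `T` contains the derived subgroup of `⟨a, b⟩`. -/
theorem commutator_closure_pair_le {a b : G} {T : Subgroup G}
    (ha : a ∈ Subgroup.normalizer (T : Set G)) (hb : b ∈ Subgroup.normalizer (T : Set G))
    (hab : ⁅a, b⁆ ∈ T) :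
    ⁅Subgroup.closure ({a, b} : Set G), Subgroup.closure ({a, b} : Set G)⁆ ≤ T := by
  set L := Subgroup.normalizer (T : Set G)
  have : (T.subgroupOf L).Normal := inferInstance
  let π := QuotientGroup.mk' (T.subgroupOf L)
  have hc : Commute (π ⟨a, ha⟩) (π ⟨b, hb⟩) := by
    rw [← commutatorElement_eq_one_iff_commute, ← map_commutatorElement, ← MonoidHom.mem_ker,
      QuotientGroup.ker_mk', Subgroup.mem_subgroupOf]
    simpa [commutatorElement_def] using hab
  let S : Set ↥L := {⟨a, ha⟩, ⟨b, hb⟩}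
  have hS : (Subgroup.closure S).map L.subtype = Subgroup.closure ({a, b} : Set G) := by
    rw [MonoidHom.map_closure, Set.image_pair]; rfl
  have hcomm : ⁅Subgroup.closure S, Subgroup.closure S⁆ ≤ T.subgroupOf L := by
    rw [← QuotientGroup.ker_mk' (T.subgroupOf L), ← Subgroup.map_eq_bot_iff, Subgroup.map_commutator,
      MonoidHom.map_closure, Set.image_pair, Subgroup.commutator_eq_bot_iff_le_centralizer,
      Subgroup.closure_le]
    rintro x hx
    rw [SetLike.mem_coe, Subgroup.mem_centralizer_iff]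
    intro y hy
    refine Subgroup.closure_induction (p := fun z _ => z * x = x * z) ?_ (by simp) ?_ ?_ hy
    · intro z hz
      rcases hz with rfl | rfl <;> rcases hx with rfl | rfl <;>
        first | rfl | exact hc.eq | exact hc.eq.symm
    · intro u v _ _ hu hv; exact (Commute.mul_left hu hv).eq
    · intro u _ hu; exact (Commute.inv_left hu).eq
  rw [← hS, ← Subgroup.map_commutator]
  exact (Subgroup.map_mono hcomm).trans (by rw [Subgroup.subgroupOf_map_subtype]; exact inf_le_left)

omit [Finite G] hp in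
theorem closure_pair_le {a b : G} {H : Subgroup G} (ha : a ∈ H) (hb : b ∈ H) :
    Subgroup.closure ({a, b} : Set G) ≤ H :=
  (Subgroup.closure_le _).2 (by rintro x (rfl | rfl) <;> assumption)

/-- The subgroup of elements of exponent dividing `p ^ e` of a subgroup closed under this. -/
theorem pow_eq_one_facts (hG : IsPGroup p G) (hR : RegularAt p e G) :
    ∀ (H : Subgroup G), (∀ a ∈ H, ∀ b ∈ H, a ^ p ^ e = 1 → b ^ p ^ e = 1 → (a * b) ^ p ^ e = 1) ∧
      (∀ a ∈ H, ∀ b ∈ H, a ^ p ^ e = b ^ p ^ e → (a⁻¹ * b) ^ p ^ e = 1) := by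
  intro H
  induction hn : Nat.card H using Nat.strong_induction_on generalizing H with
  | _ n ih =>
    subst hn
    have main : ∀ a b : G, a ∈ H → b ∈ H → a ^ p ^ e = b ^ p ^ e ∨
        (a ^ p ^ e = 1 ∧ b ^ p ^ e = 1) →
        ∀ c ∈ powerClosure p e ⁅Subgroup.closure ({a, b} : Set G), Subgroup.closure ({a, b} : Set G)⁆,
          c = 1 := by
      intro a b ha hb hab c hc
      set K := Subgroup.closure ({a, b} : Set G) with hKdef
      have haK : a ∈ K := Subgroup.subset_closure (by simp)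
      have hbK : b ∈ K := Subgroup.subset_closure (by simp)
      have hKH : K ≤ H := closure_pair_le ha hb
      by_cases hK : ⁅K, K⁆ = ⊥
      · rw [hK, powerClosure_eq_bot (fun x hx => by rw [Subgroup.mem_bot.1 hx, one_pow])] at hc
        exact hc
      obtain ⟨h1, h2⟩ := ih (Nat.card ↥(Subgroup.zpowers a ⊔ ⁅K, K⁆))
        ((card_sup_commutator_lt hG haK hK).trans_le (Subgroup.card_le_of_le hKH)) _ rfl
      set L := Subgroup.zpowers a ⊔ ⁅K, K⁆
      have hD : ⁅K, K⁆ ≤ L := le_sup_right
      have haL : a ∈ L := le_sup_left (a := Subgroup.zpowers a) (Subgroup.mem_zpowers a)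
      have hconj : b * a * b⁻¹ ∈ L := by
        have : ⁅b, a⁆ * a = b * a * b⁻¹ := by simp [commutatorElement_def, mul_assoc]
        rw [← this]
        exact mul_mem (hD (Subgroup.commutator_mem_commutator hbK haK)) haL
      let T : Subgroup G :=
        { carrier := {z | z ∈ ⁅K, K⁆ ∧ z ^ p ^ e = 1}
          one_mem' := ⟨one_mem _, one_pow _⟩
          mul_mem' := fun {x y} hx hy =>
            ⟨mul_mem hx.1 hy.1, h1 x (hD hx.1) y (hD hy.1) hx.2 hy.2⟩
          inv_mem' := fun {x} hx => ⟨inv_mem hx.1, by rw [inv_pow, hx.2, inv_one]⟩ }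
      have hnorm : K ≤ Subgroup.normalizer (T : Set G) := by
        intro k hk
        rw [Subgroup.mem_normalizer_iff]
        intro z
        have hkn := Subgroup.normalizer_commutator_ge_right K K hk
        change z ∈ ⁅K, K⁆ ∧ z ^ p ^ e = 1 ↔ k * z * k⁻¹ ∈ ⁅K, K⁆ ∧ (k * z * k⁻¹) ^ p ^ e = 1
        rw [Subgroup.mem_normalizer_iff.1 hkn z, conj_pow]
        simp [mul_inv_eq_one]
      have hT : ⁅K, K⁆ ≤ T := by
        rcases hab with hab | ⟨ha1, hb1⟩
        · have h3 := h2 a haL (b * a * b⁻¹) hconj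
            (by rw [conj_pow, hab, (Commute.self_pow b _).eq, mul_inv_cancel_right])
          have h4 : ⁅a⁻¹, b⁆ ∈ T := by
            refine ⟨Subgroup.commutator_mem_commutator (inv_mem haK) hbK, ?_⟩
            convert h3 using 2
            simp [commutatorElement_def, mul_assoc]
          have := commutator_closure_pair_le (hnorm (inv_mem haK)) (hnorm hbK) h4
          have heq : Subgroup.closure ({a⁻¹, b} : Set G) = K :=
            le_antisymm (closure_pair_le (inv_mem haK) hbK)
              (closure_pair_le (inv_mem_iff.1 (Subgroup.subset_closure (by simp)))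
                (Subgroup.subset_closure (by simp)))
          rwa [heq] at this
        · refine commutator_closure_pair_le (hnorm haK) (hnorm hbK)
            ⟨Subgroup.commutator_mem_commutator haK hbK, ?_⟩
          have h3 := h1 a haL (b * a⁻¹ * b⁻¹)
            (by simpa [mul_assoc] using inv_mem hconj) ha1
            (by rw [conj_pow, inv_pow, ha1]; simp)
          simpa [commutatorElement_def, mul_assoc] using h3
      rw [powerClosure_eq_bot (fun x hx => (hT hx).2)] at hc
      exact hc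
    refine ⟨fun a ha b hb ha1 hb1 => ?_, fun a ha b hb hab => ?_⟩
    · obtain ⟨c, hc, h⟩ := hR a b
      rw [h, main a b ha hb (Or.inr ⟨ha1, hb1⟩) c hc, ha1, hb1]
      simp
    · obtain ⟨c, hc, h⟩ := hR a⁻¹ b
      have heq : Subgroup.closure ({a⁻¹, b} : Set G) = Subgroup.closure ({a, b} : Set G) :=
        le_antisymm (closure_pair_le (inv_mem (Subgroup.subset_closure (by simp))) (Subgroup.subset_closure (by simp)))
          (closure_pair_le (inv_mem_iff.1 (Subgroup.subset_closure (by simp))) (Subgroup.subset_closure (by simp)))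
      rw [heq] at hc
      rw [h, main a b ha hb (Or.inl hab) c hc, inv_pow, hab]
      simp

/-- `Ω_e` of a regular `p`-group has exponent dividing `p ^ e`. -/
theorem pow_mul_eq_one (hG : IsPGroup p G) (hR : RegularAt p e G) {a b : G}
    (ha : a ^ p ^ e = 1) (hb : b ^ p ^ e = 1) : (a * b) ^ p ^ e = 1 :=
  (pow_eq_one_facts hG hR ⊤).1 a trivial b trivial ha hb

theorem pow_eq_one_of_mem_closure (hG : IsPGroup p G) (hR : RegularAt p e G) {g : G}
    (hg : g ∈ Subgroup.closure {x : G | x ^ p ^ e = 1}) : g ^ p ^ e = 1 :=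
  Subgroup.closure_induction (fun _ hx => hx) (one_pow _)
    (fun _ _ _ _ hx hy => pow_mul_eq_one hG hR hx hy) (fun x _ hx => by rw [inv_pow, hx, inv_one]) hg

theorem pow_eq_pow_iff (hG : IsPGroup p G) (hR : RegularAt p e G) {a b : G} :
    a ^ p ^ e = b ^ p ^ e ↔ (a⁻¹ * b) ^ p ^ e = 1 := by
  refine ⟨fun h => (pow_eq_one_facts hG hR ⊤).2 a trivial b trivial h, fun h => ?_⟩
  set z := a⁻¹ * b
  set K := Subgroup.closure ({a, z} : Set G)
  have haK : a ∈ K := Subgroup.subset_closure (by simp)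
  have hzK : z ∈ K := Subgroup.subset_closure (by simp)
  let T : Subgroup G :=
    { carrier := {w | w ^ p ^ e = 1}
      one_mem' := one_pow _
      mul_mem' := fun hx hy => pow_mul_eq_one hG hR hx hy
      inv_mem' := fun {x} hx => by simpa using hx }
  have : T.Normal := ⟨fun w hw g => by
    change (g * w * g⁻¹) ^ p ^ e = 1
    rw [conj_pow, hw]; simp⟩
  have hT : ⁅K, K⁆ ≤ T := by
    refine commutator_closure_pair_le ?_ ?_ ?_
    · rw [Subgroup.normalizer_eq_top]; trivial
    · rw [Subgroup.normalizer_eq_top]; trivial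
    · have h1 : (a * z * a⁻¹) ^ p ^ e = 1 := by rw [conj_pow, h]; simp
      exact pow_mul_eq_one hG hR h1 (by rw [inv_pow, h, inv_one])
  obtain ⟨c, hc, hpow⟩ := hR a z
  rw [powerClosure_eq_bot (fun x hx => hT hx)] at hc
  rw [Subgroup.mem_bot.1 hc, h] at hpow
  simpa [z] using hpow.symm

/-- Products of `p ^ e`-th powers are `p ^ e`-th powers. -/
theorem exists_eq_pow_of_mem_powerClosure (hG : IsPGroup p G) (hR : RegularAt p e G)
    {H : Subgroup G} {z : G} (hz : z ∈ powerClosure p e H) : ∃ x ∈ H, z = x ^ p ^ e := by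
  induction hn : Nat.card H using Nat.strong_induction_on generalizing H z with
  | _ n ih =>
    subst hn
    have pair : ∀ a ∈ H, ∀ b ∈ H, ∃ x ∈ H, a ^ p ^ e * b ^ p ^ e = x ^ p ^ e := by
      intro a ha b hb
      obtain ⟨c, hc, hab⟩ := hR a b
      set K := Subgroup.closure ({a, b} : Set G)
      have hKH : K ≤ H := closure_pair_le ha hb
      have habK : a * b ∈ K :=
        mul_mem (Subgroup.subset_closure (by simp)) (Subgroup.subset_closure (by simp))
      by_cases hK : ⁅K, K⁆ = ⊥
      · rw [hK, powerClosure_eq_bot (fun x hx => by rw [Subgroup.mem_bot.1 hx, one_pow])] at hc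
        rw [Subgroup.mem_bot.1 hc, mul_one] at hab
        exact ⟨a * b, hKH habK, hab.symm⟩
      obtain ⟨d, hd, hdc⟩ := ih _ ((card_commutator_lt hG hK).trans_le (Subgroup.card_le_of_le hKH))
        (inv_mem hc) rfl
      obtain ⟨x, hx, hxd⟩ := ih _ ((card_sup_commutator_lt hG habK hK).trans_le
        (Subgroup.card_le_of_le hKH))
        (H := Subgroup.zpowers (a * b) ⊔ ⁅K, K⁆) (z := (a * b) ^ p ^ e * d ^ p ^ e)
        (mul_mem (pow_mem_powerClosure (le_sup_left (a := Subgroup.zpowers (a * b))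
          (Subgroup.mem_zpowers _))) (pow_mem_powerClosure (le_sup_right (a := Subgroup.zpowers (a * b)) hd)))
        rfl
      refine ⟨x, ?_, ?_⟩
      · exact hKH (sup_le (Subgroup.zpowers_le.2 habK) (Subgroup.commutator_le_self K) hx)
      · rw [← hxd, ← hdc, hab]; group
    refine Subgroup.closure_induction (p := fun z _ => ∃ x ∈ H, z = x ^ p ^ e) ?_
      ⟨1, one_mem _, by simp⟩ ?_ ?_ hz
    · intro y hy; exact hy
    · rintro _ _ _ _ ⟨a, ha, rfl⟩ ⟨b, hb, rfl⟩
      exact pair a ha b hb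
    · rintro _ _ ⟨a, ha, rfl⟩
      exact ⟨a⁻¹, inv_mem ha, by simp⟩

omit [Finite G] hp in
theorem commutatorElement_pow_mem (hR : RegularAt p e G) {H : Subgroup G} {a b : G} (ha : a ∈ H)
    (hb : b ∈ H) : ⁅a ^ p ^ e, b⁆ ∈ powerClosure p e ⁅H, H⁆ := by
  set z := a⁻¹ * (b * a * b⁻¹)
  have hz : z ∈ ⁅H, H⁆ := by
    have : z = ⁅a⁻¹, b⁆ := by simp [z, commutatorElement_def, mul_assoc]
    rw [this]; exact Subgroup.commutator_mem_commutator (inv_mem ha) hb
  obtain ⟨c, hc, hpow⟩ := hR a z
  have hc' : c ∈ powerClosure p e ⁅H, H⁆ :=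
    powerClosure_mono (Subgroup.commutator_mono (closure_pair_le ha (Subgroup.commutator_le_self H hz))
      (closure_pair_le ha (Subgroup.commutator_le_self H hz))) hc
  have hmem : (a ^ p ^ e)⁻¹ * (b * a ^ p ^ e * b⁻¹) ∈ powerClosure p e ⁅H, H⁆ := by
    have : (a * z) ^ p ^ e = b * a ^ p ^ e * b⁻¹ := by rw [show a * z = b * a * b⁻¹ by simp [z], conj_pow]
    rw [← this, hpow, mul_assoc, inv_mul_cancel_left]
    exact mul_mem (pow_mem_powerClosure hz) hc'
  have hn : a ^ p ^ e ∈ Subgroup.normalizer ((⁅H, H⁆ : Subgroup G) : Set G) :=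
    pow_mem (Subgroup.normalizer_commutator_ge_right H H ha) _
  have h := conj_mem_powerClosure hn (inv_mem hmem)
  convert h using 1
  simp [commutatorElement_def, mul_assoc]

omit [Finite G] hp in
theorem commutator_powerClosure_le (hR : RegularAt p e G) (H : Subgroup G) :
    ⁅powerClosure p e H, H⁆ ≤ powerClosure p e ⁅H, H⁆ := by
  rw [Subgroup.commutator_le]
  intro u hu b hb
  refine Subgroup.closure_induction
    (p := fun u _ => ⁅u, b⁆ ∈ powerClosure p e ⁅H, H⁆) ?_ (by simp) ?_ ?_ hu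
  · rintro _ ⟨a, ha, rfl⟩
    exact commutatorElement_pow_mem hR ha hb
  · intro x y hx _ hxb hyb
    rw [commutatorElement_mul_left_eq_conj_mul]
    refine mul_mem (conj_mem_powerClosure ?_ hyb) hxb
    exact Subgroup.normalizer_commutator_ge_right H H (powerClosure_le H hx)
  · intro x hx hxb
    rw [commutatorElement_inv_left, ← commutatorElement_inv]
    have := conj_mem_powerClosure
      (inv_mem (Subgroup.normalizer_commutator_ge_right H H (powerClosure_le (p := p) (e := e) H hx)))
      (inv_mem hxb)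
    simpa using this

/-- Regularity at level one implies regularity. -/
theorem isRegularPGroup_of_regularAt_one (hG : IsPGroup p G) (h1 : RegularAt p 1 G) :
    IsRegularPGroup p G := by
  rw [isRegularPGroup_iff]
  refine ⟨hG, fun e => ?_⟩
  induction e with
  | zero => exact fun a b => ⟨1, one_mem _, by simp⟩
  | succ e ih =>
    intro a b
    set K := Subgroup.closure ({a, b} : Set G)
    have haK : a ∈ K := Subgroup.subset_closure (by simp)
    have hbK : b ∈ K := Subgroup.subset_closure (by simp)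
    obtain ⟨c, hc, hab⟩ := h1 a b
    obtain ⟨c0, hc0, rfl⟩ := exists_eq_pow_of_mem_powerClosure hG h1 hc
    set U := powerClosure p 1 K
    have hU : ∀ x ∈ U, ∀ y ∈ U, ∀ d ∈ powerClosure p e
        ⁅Subgroup.closure ({x, y} : Set G), Subgroup.closure ({x, y} : Set G)⁆,
        d ∈ powerClosure p (e + 1) ⁅K, K⁆ := by
      intro x hx y hy d hd
      have hle : ⁅Subgroup.closure ({x, y} : Set G), Subgroup.closure ({x, y} : Set G)⁆ ≤
          powerClosure p 1 ⁅K, K⁆ :=
        (Subgroup.commutator_mono (closure_pair_le hx hy)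
          ((closure_pair_le hx hy).trans (powerClosure_le K))).trans (commutator_powerClosure_le h1 K)
      refine (Subgroup.closure_le _).2 ?_ (powerClosure_mono hle hd)
      rintro _ ⟨w, hw, rfl⟩
      obtain ⟨v, hv, rfl⟩ := exists_eq_pow_of_mem_powerClosure hG h1 hw
      rw [SetLike.mem_coe, ← pow_mul, ← pow_add, add_comm]
      exact pow_mem_powerClosure hv
    have hpa : a ^ p ^ 1 ∈ U := pow_mem_powerClosure haK
    have hpb : b ^ p ^ 1 ∈ U := pow_mem_powerClosure hbK
    have hpc : c0 ^ p ^ 1 ∈ U := pow_mem_powerClosure (Subgroup.commutator_le_self K hc0)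
    obtain ⟨d1, hd1, he1⟩ := ih (a ^ p ^ 1 * b ^ p ^ 1) (c0 ^ p ^ 1)
    obtain ⟨d2, hd2, he2⟩ := ih (a ^ p ^ 1) (b ^ p ^ 1)
    have hq : ∀ x : G, (x ^ p ^ 1) ^ p ^ e = x ^ p ^ (e + 1) := fun x => by
      rw [← pow_mul, ← pow_add, add_comm]
    refine ⟨d2 * c0 ^ p ^ (e + 1) * d1, mul_mem (mul_mem (hU _ hpa _ hpb _ hd2)
      (pow_mem_powerClosure hc0)) (hU _ (mul_mem hpa hpb) _ hpc _ hd1), ?_⟩
    rw [← hq, hab, he1, he2, hq, hq, hq]
    simp only [mul_assoc]

/-! ### Sufficient conditions -/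

omit [Finite G] in
/-- If the product of `p^e`-th powers of `⟨a,b⟩'` absorbs the terms `γ_i`, `i ≥ p`, then regular at `e`. -/
theorem regularAt_of_lowerCentralSeries_le
    (h : ∀ a b : G, (Subgroup.closure ({a, b} : Set G)).lowerCentralSeries (p - 1) ≤
      powerClosure p e ⁅Subgroup.closure ({a, b} : Set G), Subgroup.closure ({a, b} : Set G)⁆) :
    RegularAt p e G := by
  intro a b
  obtain ⟨c, hc, hab⟩ := hallPetrescu a b (p ^ e)
  set K := Subgroup.closure ({a, b} : Set G)
  set d := ((List.range' 2 (p ^ e - 1)).map fun i => c i ^ (p ^ e).choose i).prod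
  have hd : d ∈ powerClosure p e ⁅K, K⁆ := by
    refine Subgroup.list_prod_mem _ fun x hx => ?_
    obtain ⟨i, hi, rfl⟩ := List.mem_map.1 hx
    have h2 : 2 ≤ i := (List.mem_range'_1.1 hi).1
    rcases lt_or_ge i p with hip | hip
    · obtain ⟨k, hk⟩ := primePow_dvd_choose hp.out e i (by omega) hip
      rw [hk, mul_comm, pow_mul]
      refine pow_mem_powerClosure (pow_mem ?_ _)
      have := K.lowerCentralSeries_antitone (show 1 ≤ i - 1 by omega) (hc i)
      simpa using this
    · exact pow_mem (h a b (K.lowerCentralSeries_antitone (by omega) (hc i))) _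
  refine ⟨d⁻¹, inv_mem hd, ?_⟩
  rw [hab]; group

omit [Finite G] in
/-- A `p`-group of class less than `p` is regular. -/
theorem isRegularPGroup_of_lowerCentralSeries_eq_bot (hG : IsPGroup p G)
    (h : (⊤ : Subgroup G).lowerCentralSeries (p - 1) = ⊥) : IsRegularPGroup p G := by
  rw [isRegularPGroup_iff]
  refine ⟨hG, fun e => regularAt_of_lowerCentralSeries_le fun a b => ?_⟩
  exact ((Subgroup.lowerCentralSeries_mono _ le_top).trans h.le).trans bot_le

/-- A `p`-group, `p` odd, whose two-generated subgroups have cyclic derived subgroup is regular. -/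
theorem isRegularPGroup_of_commutator_cyclic (hG : IsPGroup p G) (hp2 : p ≠ 2)
    (h : IsCyclic ↥(commutator G)) : IsRegularPGroup p G := by
  refine isRegularPGroup_of_regularAt_one hG (regularAt_of_lowerCentralSeries_le fun a b => ?_)
  set K := Subgroup.closure ({a, b} : Set G)
  have : Group.IsNilpotent K := (hG.to_subgroup K).isNilpotent
  have hp3 : 3 ≤ p := by have := hp.out.two_le; omega
  refine (K.lowerCentralSeries_antitone (show 2 ≤ p - 1 by omega)).trans ?_
  by_cases hbot : K.lowerCentralSeries 1 = ⊥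
  · exact ((K.lowerCentralSeries_antitone (show 1 ≤ 2 by omega)).trans hbot.le).trans bot_le
  have hD : K.lowerCentralSeries 1 = ⁅K, K⁆ := by simp
  have : IsCyclic ↥⁅K, K⁆ := Subgroup.isCyclic_of_le
    (show ⁅K, K⁆ ≤ commutator G from Subgroup.commutator_mono le_top le_top)
  obtain ⟨g, hg⟩ := IsCyclic.exists_generator (α := ↥⁅K, K⁆)
  intro z hz
  have hzD : z ∈ ⁅K, K⁆ := hD ▸ K.lowerCentralSeries_antitone (show 1 ≤ 2 by omega) hz
  obtain ⟨k, hk⟩ := Subgroup.mem_zpowers_iff.1 (hg ⟨z, hzD⟩)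
  by_cases hpk : (p : ℤ) ∣ k
  · obtain ⟨l, rfl⟩ := hpk
    have : z = ((g : G) ^ l) ^ p ^ 1 := by
      have := congrArg (Subtype.val) hk
      simp only [SubgroupClass.coe_zpow] at this
      rw [← this, pow_one, ← zpow_natCast, ← zpow_mul, mul_comm]
    rw [this]
    exact pow_mem_powerClosure (zpow_mem g.2 _)
  · exfalso
    have hgen : (⁅K, K⁆ : Subgroup G) ≤ Subgroup.zpowers z := by
      intro y hy
      obtain ⟨j, hj⟩ := Subgroup.mem_zpowers_iff.1 (hg ⟨y, hy⟩)
      obtain ⟨m, hm⟩ := (IsPGroup.iff_orderOf.1 (hG.to_subgroup ⁅K, K⁆)) g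
      have hco : IsCoprime ((orderOf g : ℕ) : ℤ) k := by
        rw [hm, Int.natCast_pow]
        exact (((Nat.prime_iff_prime_int.1 hp.out).coprime_iff_not_dvd).2 hpk).pow_left
      obtain ⟨u, v, huv⟩ := hco
      refine Subgroup.mem_zpowers_iff.2 ⟨v * j, ?_⟩
      have h1 : (g : ↥⁅K, K⁆) ^ (k * v) = g := by
        have : k * v = 1 + (orderOf g : ℤ) * (-u) := by linarith
        rw [this, zpow_add, zpow_one, zpow_mul, zpow_natCast, pow_orderOf_eq_one, one_zpow, mul_one]
      have h2 : (⟨z, hzD⟩ : ↥⁅K, K⁆) ^ (v * j) = ⟨y, hy⟩ := by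
        rw [← hk, ← zpow_mul, ← mul_assoc, zpow_mul, h1, hj]
      simpa using congrArg Subtype.val h2
    have heq : K.lowerCentralSeries 1 = K.lowerCentralSeries 2 :=
      le_antisymm (hD ▸ hgen.trans (Subgroup.zpowers_le.2 hz))
        (K.lowerCentralSeries_antitone (show 1 ≤ 2 by omega))
    obtain ⟨n, hn⟩ := (Subgroup.isNilpotent_iff_lowerCentralSeries K).1 inferInstance
    have hconst : ∀ m, K.lowerCentralSeries (m + 1) = K.lowerCentralSeries 1 := by
      intro m
      induction m with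
      | zero => rfl
      | succ m ihm => rw [Subgroup.lowerCentralSeries_succ, ihm, ← Subgroup.lowerCentralSeries_succ]; exact heq.symm
    exact hbot (le_bot_iff.1 (hconst n ▸ hn ▸ K.lowerCentralSeries_antitone (Nat.le_succ n)))

end Cfsg.Agent.Lib.PGroupTheory
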