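import Mathlib

/-!
# The plane over `ZMod (p ^ n)` with the determinant pairing
-/

set_option autoImplicit false

namespace Cfsg.Agent.Lib.PGroupTheory.ZModPlane

section Geom

variable {R : Type*} [CommRing R]

/-- `1 + u + ⋯ + u ^ (k - 1)`. -/
def gsum (u : R) (k : ℕ) : R := ∑ i ∈ Finset.range k, u ^ i

theorem gsum_add (u : R) (a b : ℕ) : gsum u (a + b) = gsum u a + u ^ a * gsum u b := by
  simp only [gsum, Finset.sum_range_add, pow_add, Finset.mul_sum]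

theorem gsum_mul (u : R) (a b : ℕ) : gsum u (a * b) = gsum u a * gsum (u ^ a) b := by
  induction b with
  | zero => simp [gsum]
  | succ b ih =>
    rw [Nat.mul_succ, gsum_add, ih]
    simp [gsum, Finset.sum_range_succ, pow_mul]
    ring

theorem dvd_gsum_sub (u : R) (p : R) (hu : p ∣ u - 1) (k : ℕ) : p ∣ gsum u k - k := by
  have : gsum u k - (k : R) = ∑ i ∈ Finset.range k, (u ^ i - 1) := by
    simp [gsum, Finset.sum_sub_distrib]
  rw [this]
  exact Finset.dvd_sum fun i _ => hu.trans (sub_one_dvd_pow_sub_one u i)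

theorem dvd_pow_sub_one' (u : R) (p : R) (hu : p ∣ u - 1) (k : ℕ) : p ∣ u ^ k - 1 :=
  hu.trans (sub_one_dvd_pow_sub_one u k)

theorem gsum_prime {p : ℕ} (hp : Odd p) {u : R} (hu : (p : R) ∣ u - 1) :
    ∃ w, gsum u p = (p : R) * (1 + (p : R) * w) := by
  obtain ⟨y, hy⟩ := hu
  obtain ⟨w, hw⟩ := odd_sq_dvd_geom_sum₂_sub (R := R) (a := 1) y hp
  refine ⟨w, ?_⟩
  have hu' : u = 1 + (p : R) * y := by linear_combination hy
  simp only [one_pow, mul_one] at hw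
  rw [gsum, hu']
  linear_combination hw

theorem gsum_prime_pow {p : ℕ} (hp : Odd p) {u : R} (hu : (p : R) ∣ u - 1) (s : ℕ) :
    ∃ w, gsum u (p ^ s) = (p : R) ^ s * (1 + (p : R) * w) := by
  induction s with
  | zero => exact ⟨0, by simp [gsum]⟩
  | succ s ih =>
    obtain ⟨w, hw⟩ := ih
    obtain ⟨w', hw'⟩ := gsum_prime hp (dvd_pow_sub_one' u p hu (p ^ s))
    exact ⟨w + w' + (p : R) * w * w', by rw [pow_succ, gsum_mul, hw, hw']; ring⟩

end Geom

variable {p n : ℕ} [hp : Fact p.Prime]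

instance neZero_pow : NeZero (p ^ n) := ⟨(pow_pos hp.out.pos n).ne'⟩

theorem pow_self_eq_zero : (p : ZMod (p ^ n)) ^ n = 0 := by
  rw [← Nat.cast_pow, ZMod.natCast_self]

theorem isUnit_natCast {m : ℕ} (hm : ¬ p ∣ m) : IsUnit (m : ZMod (p ^ n)) :=
  (ZMod.isUnit_iff_coprime _ _).2 (Nat.Coprime.pow_right _ ((hp.out.coprime_iff_not_dvd.2 hm).symm))

theorem isUnit_or_dvd (x : ZMod (p ^ n)) : IsUnit x ∨ (p : ZMod (p ^ n)) ∣ x := by
  rcases em (p ∣ x.val) with h | h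
  · right
    rw [← ZMod.natCast_zmod_val x]
    exact Nat.cast_dvd_cast h
  · left
    rw [← ZMod.natCast_zmod_val x]
    exact isUnit_natCast h

theorem isUnit_add_mul_self {x : ZMod (p ^ n)} (hx : IsUnit x) (w : ZMod (p ^ n)) :
    IsUnit (x + (p : ZMod (p ^ n)) * w) := by
  have h : IsNilpotent ((p : ZMod (p ^ n)) * w) := ⟨n, by rw [mul_pow, pow_self_eq_zero, zero_mul]⟩
  rw [add_comm]
  exact h.isUnit_add_right_of_commute hx (Commute.all _ _)

theorem exists_eq_pow_mul_unit (x : ZMod (p ^ n)) :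
    ∃ v ≤ n, ∃ u : ZMod (p ^ n), IsUnit u ∧ x = (p : ZMod (p ^ n)) ^ v * u := by
  by_cases hx : x = 0
  · exact ⟨n, le_rfl, 1, isUnit_one, by rw [hx, pow_self_eq_zero, zero_mul]⟩
  have hv : x.val ≠ 0 := by simpa [ZMod.val_eq_zero] using hx
  obtain ⟨v, m, hm, hvm⟩ : ∃ v m, ¬ p ∣ m ∧ x.val = p ^ v * m :=
    ⟨_, _, Nat.not_dvd_ordCompl hp.out hv, (Nat.ordProj_mul_ordCompl_eq_self _ p).symm⟩
  refine ⟨v, ?_, m, isUnit_natCast hm, ?_⟩
  · by_contra hlt
    have h1 : p ^ n ≤ p ^ v := Nat.pow_le_pow_right hp.out.pos (by omega)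
    have h2 : x.val < p ^ n := ZMod.val_lt x
    have h3 : p ^ v ≤ p ^ v * m :=
      Nat.le_mul_of_pos_right _ (Nat.pos_of_ne_zero fun h => hm (h ▸ dvd_zero p))
    omega
  · rw [← ZMod.natCast_zmod_val x, hvm, Nat.cast_mul, Nat.cast_pow]

theorem pow_mul_eq_zero_iff {v : ℕ} (hv : v ≤ n) (y : ZMod (p ^ n)) :
    (p : ZMod (p ^ n)) ^ v * y = 0 ↔ (p : ZMod (p ^ n)) ^ (n - v) ∣ y := by
  constructor
  · intro h
    rw [← ZMod.natCast_zmod_val y, ← Nat.cast_pow, ← Nat.cast_mul, ZMod.natCast_eq_zero_iff] at h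
    obtain ⟨m, rfl⟩ := Nat.exists_eq_add_of_le hv
    rw [Nat.add_sub_cancel_left, ← ZMod.natCast_zmod_val y, ← Nat.cast_pow]
    refine Nat.cast_dvd_cast ?_
    replace h : p ^ v * p ^ m ∣ p ^ v * y.val := by rwa [← pow_add]
    exact Nat.dvd_of_mul_dvd_mul_left (pow_pos hp.out.pos v) h
  · rintro ⟨z, rfl⟩
    rw [← mul_assoc, ← pow_add, Nat.add_sub_cancel' hv, pow_self_eq_zero, zero_mul]

theorem card_multiples {v : ℕ} (hv : v ≤ n) :
    Nat.card {x : ZMod (p ^ n) // (p : ZMod (p ^ n)) ^ v ∣ x} = p ^ (n - v) := by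
  have h1 : Nat.card (AddSubgroup.zmultiples ((p ^ v : ℕ) : ZMod (p ^ n))) = p ^ (n - v) := by
    rw [Nat.card_zmultiples, ZMod.addOrderOf_coe _ (NeZero.ne _),
      Nat.gcd_eq_right (pow_dvd_pow p hv), Nat.pow_div hv hp.out.pos]
  rw [← h1]
  refine Nat.card_congr (Equiv.subtypeEquivRight fun x => ?_)
  rw [AddSubgroup.mem_zmultiples_iff]
  constructor
  · rintro ⟨z, rfl⟩
    exact ⟨z.val, by rw [natCast_zsmul, nsmul_eq_mul, ZMod.natCast_zmod_val, Nat.cast_pow, mul_comm]⟩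
  · rintro ⟨k, rfl⟩
    exact ⟨k, by rw [zsmul_eq_mul, Nat.cast_pow, mul_comm]⟩

theorem pow_dvd_pow_iff' {a b : ℕ} (ha : a ≤ n) (hb : b ≤ n) :
    (p : ZMod (p ^ n)) ^ a ∣ (p : ZMod (p ^ n)) ^ b ↔ a ≤ b := by
  refine ⟨fun h => ?_, fun h => pow_dvd_pow _ h⟩
  have hle : Nat.card {x : ZMod (p ^ n) // (p : ZMod (p ^ n)) ^ b ∣ x} ≤
      Nat.card {x : ZMod (p ^ n) // (p : ZMod (p ^ n)) ^ a ∣ x} :=
    Nat.card_le_card_of_injective (fun x => ⟨x.1, h.trans x.2⟩)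
      fun x y hxy => Subtype.ext (congrArg (fun t => t.1) hxy)
  rw [card_multiples ha, card_multiples hb, Nat.pow_le_pow_iff_right hp.out.one_lt] at hle
  omega

/-- `gsum u k` is `p ^ s` times a unit when `p ^ s` exactly divides `k`. -/
theorem gsum_eq_pow_mul_unit (hodd : Odd p) {u : ZMod (p ^ n)} (hu : (p : ZMod (p ^ n)) ∣ u - 1)
    {s m : ℕ} (hm : ¬ p ∣ m) :
    ∃ w, IsUnit w ∧ gsum u (p ^ s * m) = (p : ZMod (p ^ n)) ^ s * w := by
  obtain ⟨w, hw⟩ := gsum_prime_pow hodd hu s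
  obtain ⟨z, hz⟩ := dvd_gsum_sub (u ^ p ^ s) _ (dvd_pow_sub_one' u _ hu _) m
  refine ⟨(1 + (p : ZMod (p ^ n)) * w) * gsum (u ^ p ^ s) m,
    (isUnit_add_mul_self isUnit_one w).mul ?_, by rw [gsum_mul, hw]; ring⟩
  rw [show gsum (u ^ p ^ s) m = (m : ZMod (p ^ n)) + (p : ZMod (p ^ n)) * z by linear_combination hz]
  exact isUnit_add_mul_self (isUnit_natCast hm) z

theorem gsum_eq_zero_iff (hodd : Odd p) {u : ZMod (p ^ n)} (hu : (p : ZMod (p ^ n)) ∣ u - 1) (k : ℕ) :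
    gsum u k = 0 ↔ p ^ n ∣ k := by
  rcases eq_or_ne k 0 with rfl | hk
  · simp [gsum]
  obtain ⟨s, m, hm, rfl⟩ : ∃ s m, ¬ p ∣ m ∧ k = p ^ s * m :=
    ⟨_, _, Nat.not_dvd_ordCompl hp.out hk, (Nat.ordProj_mul_ordCompl_eq_self _ p).symm⟩
  obtain ⟨w, hw, hk'⟩ := gsum_eq_pow_mul_unit hodd hu (s := s) hm
  rw [hk', hw.mul_left_eq_zero, ← Nat.cast_pow, ZMod.natCast_eq_zero_iff]
  exact ⟨fun h => h.mul_right m, fun h => (Nat.Coprime.dvd_mul_right
    (((hp.out.coprime_iff_not_dvd).2 hm).pow_left n)).1 h⟩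

theorem gsum_surjective (hodd : Odd p) {u : ZMod (p ^ n)} (hu : (p : ZMod (p ^ n)) ∣ u - 1)
    (x : ZMod (p ^ n)) : ∃ k : ℕ, gsum u k = x := by
  have hu' : IsUnit u := by
    obtain ⟨z, hz⟩ := hu
    rw [show u = 1 + (p : ZMod (p ^ n)) * z by linear_combination hz]
    exact isUnit_add_mul_self isUnit_one z
  let f : Fin (p ^ n) → ZMod (p ^ n) := fun k => gsum u k
  have key : ∀ i j : ℕ, i ≤ j → j < p ^ n → gsum u i = gsum u j → i = j := by
    intro i j hij hj h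
    obtain ⟨d, rfl⟩ := Nat.exists_eq_add_of_le hij
    rw [gsum_add, left_eq_add, (hu'.pow i).mul_right_eq_zero, gsum_eq_zero_iff hodd hu] at h
    rcases eq_or_ne d 0 with rfl | hd
    · rfl
    · exact absurd (Nat.le_of_dvd (Nat.pos_of_ne_zero hd) h) (by omega)
  have hinj : Function.Injective f := by
    intro i j h
    rcases le_total (i : ℕ) j with h' | h'
    · exact Fin.ext (key i j h' j.2 h)
    · exact (Fin.ext (key j i h' i.2 h.symm)).symm
  obtain ⟨k, hk⟩ := ((Nat.bijective_iff_injective_and_card f).2 ⟨hinj, by simp⟩).2 x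
  exact ⟨k, hk⟩

/-! ### Submodules of the plane -/

/-- The determinant pairing. -/
def det2 (x y : ZMod (p ^ n) × ZMod (p ^ n)) : ZMod (p ^ n) := x.1 * y.2 - x.2 * y.1

/-- The orthogonal submodule for the determinant pairing. -/
def perp (M : Submodule (ZMod (p ^ n)) (ZMod (p ^ n) × ZMod (p ^ n))) :
    Submodule (ZMod (p ^ n)) (ZMod (p ^ n) × ZMod (p ^ n)) where
  carrier := {x | ∀ m ∈ M, det2 x m = 0}
  add_mem' {x y} hx hy m hm := by
    have h1 := hx m hm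
    have h2 := hy m hm
    simp only [det2, Prod.fst_add, Prod.snd_add] at *
    linear_combination h1 + h2
  zero_mem' m _ := by simp [det2]
  smul_mem' c x hx m hm := by
    have h1 := hx m hm
    simp only [det2, Prod.smul_fst, Prod.smul_snd, smul_eq_mul] at *
    linear_combination c * h1

omit hp in
theorem mem_perp {M : Submodule (ZMod (p ^ n)) (ZMod (p ^ n) × ZMod (p ^ n))}
    {x : ZMod (p ^ n) × ZMod (p ^ n)} : x ∈ perp M ↔ ∀ m ∈ M, det2 x m = 0 := Iff.rfl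

omit hp in
theorem le_perp_perp (M : Submodule (ZMod (p ^ n)) (ZMod (p ^ n) × ZMod (p ^ n))) :
    M ≤ perp (perp M) := fun m hm x hx => by
  have := hx m hm
  simp only [det2] at *
  linear_combination -this

/-- Coordinates in a basis of determinant one: `M = p^v R e + p^b R f`. -/
theorem exists_basis (M : Submodule (ZMod (p ^ n)) (ZMod (p ^ n) × ZMod (p ^ n))) :
    ∃ (v b : ℕ) (T : (ZMod (p ^ n) × ZMod (p ^ n)) ≃ₗ[ZMod (p ^ n)] (ZMod (p ^ n) × ZMod (p ^ n))),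
      v ≤ n ∧ b ≤ n ∧ v ≤ b ∧ (∀ x y, det2 (T x) (T y) = det2 x y) ∧
      ∀ z, T z ∈ M ↔ (p : ZMod (p ^ n)) ^ v ∣ z.1 ∧ (p : ZMod (p ^ n)) ^ b ∣ z.2 := by
  classical
  set q : ZMod (p ^ n) := (p : ZMod (p ^ n)) with hq
  -- the least valuation occurring in M
  have hex : ∃ v, v ≤ n ∧ ∀ m ∈ M, q ^ v ∣ m.1 ∧ q ^ v ∣ m.2 := ⟨0, Nat.zero_le _, fun m _ => by simp⟩
  let S := (Finset.range (n + 1)).filter fun v => ∀ m ∈ M, q ^ v ∣ m.1 ∧ q ^ v ∣ m.2
  have hS : S.Nonempty := ⟨0, by simp [S]⟩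
  set v := S.max' hS
  have hvS := Finset.max'_mem S hS
  have hvn : v ≤ n := by
    have := (Finset.mem_filter.1 hvS).1
    simp only [Finset.mem_range] at this
    exact Nat.lt_succ_iff.1 this
  have hvdiv : ∀ m ∈ M, q ^ v ∣ m.1 ∧ q ^ v ∣ m.2 := (Finset.mem_filter.1 hvS).2
  -- an element of that valuation, with its primitive vector
  obtain ⟨e, he, hem⟩ : ∃ e : ZMod (p ^ n) × ZMod (p ^ n),
      (IsUnit e.1 ∨ IsUnit e.2) ∧ q ^ v • e ∈ M := by
    by_cases hv : v = n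
    · exact ⟨(1, 0), Or.inl isUnit_one, by rw [hv, hq, pow_self_eq_zero, zero_smul]; exact M.zero_mem⟩
    by_contra hcon
    push Not at hcon
    have hmem : v + 1 ∈ S := by
      refine Finset.mem_filter.2 ⟨Finset.mem_range.2 (by omega), fun m hm => ?_⟩
      obtain ⟨⟨c1, h1⟩, c2, h2⟩ := hvdiv m hm
      have hm' : q ^ v • (c1, c2) ∈ M := by
        have : m = q ^ v • (c1, c2) := Prod.ext (by simpa using h1) (by simpa using h2)
        rwa [← this]
      have hn1 : ¬ IsUnit c1 := fun h => hcon (c1, c2) (Or.inl h) hm'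
      have hn2 : ¬ IsUnit c2 := fun h => hcon (c1, c2) (Or.inr h) hm'
      rw [h1, h2, pow_succ]
      exact ⟨mul_dvd_mul_left _ ((isUnit_or_dvd c1).resolve_left hn1),
        mul_dvd_mul_left _ ((isUnit_or_dvd c2).resolve_left hn2)⟩
    have h' : v + 1 ≤ v := Finset.le_max' S _ hmem
    omega
  obtain ⟨f, hef⟩ : ∃ f, det2 e f = 1 := by
    rcases he with h | h
    · exact ⟨(0, (↑(h.unit⁻¹) : ZMod (p ^ n))), by simp [det2]⟩
    · exact ⟨(-(↑(h.unit⁻¹) : ZMod (p ^ n)), 0), by simp [det2]⟩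
  simp only [det2] at hef
  let T : (ZMod (p ^ n) × ZMod (p ^ n)) ≃ₗ[ZMod (p ^ n)] (ZMod (p ^ n) × ZMod (p ^ n)) :=
    { toFun := fun z => z.1 • e + z.2 • f
      map_add' := fun x y => by simp only [Prod.fst_add, Prod.snd_add, add_smul]; abel
      map_smul' := fun c x => by simp [smul_add, smul_smul]
      invFun := fun z => (z.1 * f.2 - z.2 * f.1, z.2 * e.1 - z.1 * e.2)
      left_inv := fun z => by
        ext <;> simp
        · linear_combination z.1 * hef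
        · linear_combination z.2 * hef
      right_inv := fun z => by
        ext <;> simp
        · linear_combination z.1 * hef
        · linear_combination z.2 * hef }
  have hTdet : ∀ x y, det2 (T x) (T y) = det2 x y := by
    intro x y
    simp [T, det2]
    linear_combination (x.1 * y.2 - x.2 * y.1) * hef
  -- the second valuation
  let S' := (Finset.range (n + 1)).filter fun b => (q ^ b) • f ∈ M
  have hS' : S'.Nonempty := ⟨n, by simp [S', hq, pow_self_eq_zero]⟩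
  set b := S'.min' hS'
  have hbS := Finset.min'_mem S' hS'
  have hbn : b ≤ n := by
    have := (Finset.mem_filter.1 hbS).1
    simp only [Finset.mem_range] at this
    exact Nat.lt_succ_iff.1 this
  have hbmem : q ^ b • f ∈ M := (Finset.mem_filter.1 hbS).2
  have hvb : v ≤ b := by
    obtain ⟨⟨c1, h1⟩, c2, h2⟩ := hvdiv _ hbmem
    simp only [Prod.smul_fst, Prod.smul_snd, smul_eq_mul] at h1 h2
    rw [← pow_dvd_pow_iff' (p := p) hvn hbn]
    exact ⟨e.1 * c2 - e.2 * c1, by rw [← hq]; linear_combination (-(q ^ b)) * hef + e.1 * h2 - e.2 * h1⟩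
  refine ⟨v, b, T, hvn, hbn, hvb, hTdet, fun z => ?_⟩
  have hmemT : T z = z.1 • e + z.2 • f := rfl
  constructor
  · intro hz
    obtain ⟨⟨d1, h1⟩, d2, h2⟩ := hvdiv _ hz
    simp [hmemT] at h1 h2
    have hz1 : q ^ v ∣ z.1 :=
      ⟨f.2 * d1 - f.1 * d2, by linear_combination (-z.1) * hef + f.2 * h1 - f.1 * h2⟩
    refine ⟨hz1, ?_⟩
    obtain ⟨c, hc⟩ := hz1
    have hz2 : z.2 • f ∈ M := by
      have h3 : z.1 • e ∈ M := by
        rw [hc, mul_comm, mul_smul]; exact M.smul_mem c hem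
      have h4 := M.sub_mem hz h3
      rwa [hmemT, add_sub_cancel_left] at h4
    obtain ⟨w, hw, u, hu, hwu⟩ := exists_eq_pow_mul_unit z.2
    have hfw : q ^ w • f ∈ M := by
      have h5 := M.smul_mem (↑(hu.unit⁻¹) : ZMod (p ^ n)) hz2
      rwa [smul_smul, hwu, mul_left_comm, IsUnit.val_inv_mul hu, mul_one] at h5
    have hbw : b ≤ w := Finset.min'_le S' _ (Finset.mem_filter.2 ⟨Finset.mem_range.2 (by omega), hfw⟩)
    rw [hwu]
    exact (pow_dvd_pow q hbw).trans (dvd_mul_right _ _)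
  · rintro ⟨⟨c, hc⟩, d, hd⟩
    rw [hmemT, hc, hd, mul_comm (q ^ v), mul_comm (q ^ b), mul_smul, mul_smul]
    exact M.add_mem (M.smul_mem c hem) (M.smul_mem d hbmem)

theorem perp_basis {M : Submodule (ZMod (p ^ n)) (ZMod (p ^ n) × ZMod (p ^ n))} {v b : ℕ}
    {T : (ZMod (p ^ n) × ZMod (p ^ n)) ≃ₗ[ZMod (p ^ n)] (ZMod (p ^ n) × ZMod (p ^ n))}
    (hv : v ≤ n) (hb : b ≤ n) (hdet : ∀ x y, det2 (T x) (T y) = det2 x y)
    (hM : ∀ z, T z ∈ M ↔ (p : ZMod (p ^ n)) ^ v ∣ z.1 ∧ (p : ZMod (p ^ n)) ^ b ∣ z.2)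
    (z : ZMod (p ^ n) × ZMod (p ^ n)) :
    T z ∈ perp M ↔ (p : ZMod (p ^ n)) ^ (n - b) ∣ z.1 ∧ (p : ZMod (p ^ n)) ^ (n - v) ∣ z.2 := by
  rw [mem_perp, ← pow_mul_eq_zero_iff hb, ← pow_mul_eq_zero_iff hv]
  constructor
  · intro h
    have h1 := h _ ((hM (0, (p : ZMod (p ^ n)) ^ b)).2 ⟨dvd_zero _, dvd_rfl⟩)
    have h2 := h _ ((hM ((p : ZMod (p ^ n)) ^ v, 0)).2 ⟨dvd_rfl, dvd_zero _⟩)
    rw [hdet] at h1 h2
    simp [det2] at h1 h2
    exact ⟨by linear_combination h1, by linear_combination h2⟩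
  · rintro ⟨h1, h2⟩ m hm
    obtain ⟨m, rfl⟩ := T.surjective m
    obtain ⟨⟨c, hc⟩, d, hd⟩ := (hM m).1 hm
    rw [hdet]
    simp only [det2, hc, hd]
    linear_combination d * h1 - c * h2

theorem card_basis {M : Submodule (ZMod (p ^ n)) (ZMod (p ^ n) × ZMod (p ^ n))} {v b : ℕ}
    {T : (ZMod (p ^ n) × ZMod (p ^ n)) ≃ₗ[ZMod (p ^ n)] (ZMod (p ^ n) × ZMod (p ^ n))}
    (hv : v ≤ n) (hb : b ≤ n)
    (hM : ∀ z, T z ∈ M ↔ (p : ZMod (p ^ n)) ^ v ∣ z.1 ∧ (p : ZMod (p ^ n)) ^ b ∣ z.2) :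
    Nat.card M = p ^ (n - v) * p ^ (n - b) := by
  rw [← card_multiples hv, ← card_multiples hb, ← Nat.card_prod]
  exact Nat.card_congr (((T.toEquiv.subtypeEquiv fun z => (hM z).symm).symm).trans
    (Equiv.subtypeProdEquivProd (p := fun x => (p : ZMod (p ^ n)) ^ v ∣ x)
      (q := fun y => (p : ZMod (p ^ n)) ^ b ∣ y)))

theorem card_mul_card_perp (M : Submodule (ZMod (p ^ n)) (ZMod (p ^ n) × ZMod (p ^ n))) :
    Nat.card M * Nat.card (perp M) = p ^ (2 * n) := by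
  obtain ⟨v, b, T, hv, hb, _, hdet, hM⟩ := exists_basis M
  rw [card_basis hv hb hM, card_basis (n.sub_le b) (n.sub_le v) (perp_basis hv hb hdet hM),
    ← pow_add, ← pow_add, ← pow_add]
  congr 1
  omega

theorem le_perp_or_perp_le (M : Submodule (ZMod (p ^ n)) (ZMod (p ^ n) × ZMod (p ^ n))) :
    M ≤ perp M ∨ perp M ≤ M := by
  obtain ⟨v, b, T, hv, hb, _, hdet, hM⟩ := exists_basis M
  rcases le_total n (v + b) with h | h
  · left
    intro m hm
    obtain ⟨z, rfl⟩ := T.surjective m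
    obtain ⟨h1, h2⟩ := (hM z).1 hm
    exact (perp_basis hv hb hdet hM z).2
      ⟨(pow_dvd_pow _ (by omega)).trans h1, (pow_dvd_pow _ (by omega)).trans h2⟩
  · right
    intro m hm
    obtain ⟨z, rfl⟩ := T.surjective m
    obtain ⟨h1, h2⟩ := (perp_basis hv hb hdet hM z).1 hm
    exact (hM z).2 ⟨(pow_dvd_pow _ (by omega)).trans h1, (pow_dvd_pow _ (by omega)).trans h2⟩

theorem perp_perp (M : Submodule (ZMod (p ^ n)) (ZMod (p ^ n) × ZMod (p ^ n))) :
    perp (perp M) = M := by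
  apply le_antisymm _ (le_perp_perp M)
  have h1 := card_mul_card_perp M
  have h2 := card_mul_card_perp (perp M)
  have hpos : 0 < Nat.card (perp M) := Nat.card_pos
  have h3 : Nat.card (perp (perp M)) = Nat.card M :=
    Nat.eq_of_mul_eq_mul_left hpos (h2.trans (h1.symm.trans (mul_comm _ _)))
  exact (SetLike.coe_injective (Set.eq_of_subset_of_ncard_le (le_perp_perp M)
    (by rw [← Nat.card_coe_set_eq, ← Nat.card_coe_set_eq]; exact h3.le) (Set.toFinite _))).ge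

/-- The multiples of `p ^ s` in the plane. -/
def layer (s : ℕ) : Set (ZMod (p ^ n) × ZMod (p ^ n)) :=
  {x | (p : ZMod (p ^ n)) ^ s ∣ x.1 ∧ (p : ZMod (p ^ n)) ^ s ∣ x.2}

theorem card_layer {s : ℕ} (hs : s ≤ n) :
    Nat.card (layer (p := p) (n := n) s) = p ^ (2 * (n - s)) := by
  rw [two_mul, pow_add, ← card_multiples hs, ← Nat.card_prod]
  exact Nat.card_congr (Equiv.subtypeProdEquivProd (p := fun x => (p : ZMod (p ^ n)) ^ s ∣ x)
    (q := fun y => (p : ZMod (p ^ n)) ^ s ∣ y))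

/-- The image of `det2 x` is exactly the multiples of `p ^ v` when `x` is `p ^ v` times a primitive vector. -/
theorem exists_image_det2 (x : ZMod (p ^ n) × ZMod (p ^ n)) :
    ∃ v ≤ n, (∀ s ≤ n, x ∈ layer (p := p) (n := n) s ↔ s ≤ v) ∧
      Nat.card (Set.range (det2 x)) = p ^ (n - v) := by
  obtain ⟨v1, hv1, u1, hu1, h1⟩ := exists_eq_pow_mul_unit x.1
  obtain ⟨v2, hv2, u2, hu2, h2⟩ := exists_eq_pow_mul_unit x.2
  refine ⟨min v1 v2, by omega, fun s hs => ?_, ?_⟩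
  · simp only [layer, Set.mem_setOf_eq]
    rw [h1, h2, IsUnit.dvd_mul_right hu1, IsUnit.dvd_mul_right hu2, pow_dvd_pow_iff' hs hv1,
      pow_dvd_pow_iff' hs hv2]
    omega
  · rw [← card_multiples (show min v1 v2 ≤ n by omega)]
    refine Nat.card_congr (Equiv.setCongr (Set.ext fun y => ?_))
    simp only [Set.mem_range, det2, h1, h2]
    constructor
    · rintro ⟨z, rfl⟩
      exact dvd_sub (((pow_dvd_pow _ (min_le_left _ _)).trans (dvd_mul_right _ _)).trans (dvd_mul_right _ _))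
        (((pow_dvd_pow _ (min_le_right _ _)).trans (dvd_mul_right _ _)).trans (dvd_mul_right _ _))
    · rintro ⟨c, rfl⟩
      rcases le_total v1 v2 with h | h
      · rw [min_eq_left h]
        exact ⟨(0, ↑(hu1.unit⁻¹) * c), by simp [← mul_assoc]; rw [mul_assoc _ u1, IsUnit.mul_val_inv, mul_one]⟩
      · rw [min_eq_right h]
        exact ⟨(-(↑(hu2.unit⁻¹) * c), 0), by simp [← mul_assoc]; rw [mul_assoc _ u2, IsUnit.mul_val_inv, mul_one]⟩

end Cfsg.Agent.Lib.PGroupTheory.ZModPlane
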