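import Cfsg.Prelude.Def_OddOrderLocal
import Cfsg.Agent.Lib.PGroupTheory.Regular
import Cfsg.Agent.Lib.PGroupTheory.ZModPlane

/-!
# Metacyclic `p`-groups, `p` odd

With `|G'| = p^n` there is a surjective crossed homomorphism `φ : G → (ℤ/p^n)²` with kernel `Z(G)` such
that commutators are given by the determinant. Subgroups map to submodules, centralizers to orthogonals.
-/

set_option autoImplicit false

namespace Cfsg.Agent.Lib.PGroupTheory.Metacyclic

open scoped commutatorElement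
open Cfsg Cfsg.Agent.Lib.PGroupTheory Cfsg.Agent.Lib.PGroupTheory.ZModPlane

/-- Coordinates of a metacyclic `p`-group modulo its centre. -/
structure Coord (G : Type*) [Group G] (p n : ℕ) where
  /-- the crossed homomorphism -/
  φ : G → ZMod (p ^ n) × ZMod (p ^ n)
  /-- the multiplier -/
  χ : G → ZMod (p ^ n)
  /-- a generator of the derived group -/
  c : G
  φ_mul : ∀ x y, φ (x * y) = φ x + χ x • φ y
  χ_sub_one : ∀ x, (p : ZMod (p ^ n)) ∣ χ x - 1
  χ_pow : ∀ (x : G) (k : ℕ), χ (x ^ k) = χ x ^ k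
  φ_surj : Function.Surjective φ
  c_order : orderOf c = p ^ n
  c_gen : commutator G = Subgroup.zpowers c
  comm_eq : ∀ x y, ∃ k : ℤ, ⁅x, y⁆ = c ^ k ∧ (k : ZMod (p ^ n)) = det2 (φ y) (φ x)
  center_le : Subgroup.center G ≤ Cfsg.powerClosure p n (⊤ : Subgroup G)

/-! ### Existence -/

theorem exists_coord {G : Type*} [Group G] [Finite G] {p : ℕ} [hp : Fact p.Prime] (hp2 : p ≠ 2)
    (hG : IsPGroup p G) (hmc : Cfsg.IsMetacyclic G) :
    ∃ n, Nat.card ↥(commutator G) = p ^ n ∧ Nonempty (Coord G p n) := by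
  classical
  obtain ⟨A, hA, hAc, hQc⟩ := hmc
  have hodd : Odd p := hp.out.odd_of_ne_two hp2
  obtain ⟨a, ha⟩ := IsCyclic.exists_generator (α := ↥A)
  obtain ⟨b', hb⟩ := IsCyclic.exists_generator (α := G ⧸ A)
  obtain ⟨b, rfl⟩ := QuotientGroup.mk'_surjective A b'
  set α : G := (a : G)
  have hAmem : ∀ z, z ∈ A ↔ ∃ i : ℕ, z = α ^ i := fun z => by
    constructor
    · intro hz
      obtain ⟨i, hi⟩ := Submonoid.mem_powers_iff _ _ |>.1 ((mem_powers_iff_mem_zpowers).2 (ha ⟨z, hz⟩))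
      exact ⟨i, by simpa using (congrArg Subtype.val hi).symm⟩
    · rintro ⟨i, rfl⟩; exact pow_mem a.2 i
  have hrep : ∀ g : G, ∃ i j : ℕ, g = α ^ i * b ^ j := by
    intro g
    obtain ⟨j, hj⟩ := Submonoid.mem_powers_iff _ _ |>.1
      ((mem_powers_iff_mem_zpowers).2 (hb (QuotientGroup.mk' A g)))
    have hmem : g * (b ^ j)⁻¹ ∈ A := by
      rw [← QuotientGroup.eq_one_iff]
      rw [← map_pow] at hj
      change QuotientGroup.mk' A (g * (b ^ j)⁻¹) = 1
      rw [map_mul, map_inv, hj, mul_inv_cancel]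
    obtain ⟨i, hi⟩ := (hAmem _).1 hmem
    exact ⟨i, j, by rw [← hi, inv_mul_cancel_right]⟩
  set c : G := ⁅b, α⁆
  have hcA : c ∈ A := by
    change b * α * b⁻¹ * α⁻¹ ∈ A
    exact mul_mem (hA.conj_mem α a.2 b) (inv_mem a.2)
  obtain ⟨i0, hi0⟩ := (hAmem c).1 hcA
  set C := Subgroup.zpowers c
  have hαc : ∀ k : ℕ, Commute (α ^ k) c := fun k => by
    rw [hi0]; exact Commute.pow_pow (Commute.refl α) k i0
  have hbc : ∃ m : ℕ, b * c * b⁻¹ = c ^ m := by
    obtain ⟨r, hr⟩ := (hAmem (b * α * b⁻¹)).1 (hA.conj_mem α a.2 b)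
    refine ⟨r, ?_⟩
    rw [hi0, ← conj_pow, hr, ← pow_mul, ← pow_mul, mul_comm]
  obtain ⟨n, hn⟩ := IsPGroup.iff_orderOf.1 hG c
  -- the derived group
  have hCn : C.Normal := by
    refine ⟨fun z hz g => ?_⟩
    obtain ⟨i, j, rfl⟩ := hrep g
    obtain ⟨m, hm⟩ := hbc
    have hbC : ∀ z ∈ C, b * z * b⁻¹ ∈ C := by
      intro z hz
      obtain ⟨k, rfl⟩ := Subgroup.mem_zpowers_iff.1 hz
      rw [← conj_zpow, hm]
      exact zpow_mem (pow_mem (Subgroup.mem_zpowers c) m) k
    have hbjC : ∀ (j : ℕ) (z : G), z ∈ C → b ^ j * z * (b ^ j)⁻¹ ∈ C := by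
      intro j
      induction j with
      | zero => intro z hz; simpa using hz
      | succ j ih =>
        intro z hz
        have := hbC _ (ih z hz)
        convert this using 1
        rw [pow_succ']
        group
    obtain ⟨k, hk⟩ := Subgroup.mem_zpowers_iff.1 (hbjC j z hz)
    have : α ^ i * b ^ j * z * (α ^ i * b ^ j)⁻¹ = α ^ i * c ^ k * (α ^ i)⁻¹ := by
      rw [hk]; group
    rw [this, ((hαc i).zpow_right k).eq, mul_inv_cancel_right]
    exact zpow_mem (Subgroup.mem_zpowers c) k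
  have hder : commutator G = C := by
    refine le_antisymm ?_ (Subgroup.zpowers_le.2
      (Subgroup.commutator_mem_commutator (Subgroup.mem_top b) (Subgroup.mem_top α)))
    have hclos : Subgroup.closure ({b, α} : Set G) = ⊤ := by
      refine eq_top_iff.2 fun g _ => ?_
      obtain ⟨i, j, rfl⟩ := hrep g
      exact mul_mem (pow_mem (Subgroup.subset_closure (by simp)) i)
        (pow_mem (Subgroup.subset_closure (by simp)) j)
    have hN : ∀ g : G, g ∈ Subgroup.normalizer (C : Set G) := fun g => by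
      rw [Subgroup.normalizer_eq_top_iff.2 hCn]; trivial
    have := commutator_closure_pair_le (T := C) (hN b) (hN α) (Subgroup.mem_zpowers c)
    rwa [hclos] at this
  refine ⟨n, by rw [hder, Nat.card_zpowers, hn], ?_⟩
  -- logarithm to base c
  have hcomm_mem : ∀ x y : G, ⁅x, y⁆ ∈ C := fun x y =>
    hder ▸ Subgroup.commutator_mem_commutator (Subgroup.mem_top x) (Subgroup.mem_top y)
  have hmod : ∀ k l : ℤ, c ^ k = c ^ l ↔ (k : ZMod (p ^ n)) = l := fun k l => by
    rw [zpow_eq_zpow_iff_modEq, ZMod.intCast_eq_intCast_iff, hn]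
  let lg : G → ZMod (p ^ n) := fun x =>
    if h : x ∈ C then ((Subgroup.mem_zpowers_iff.1 h).choose : ZMod (p ^ n)) else 0
  have lg_zpow : ∀ k : ℤ, lg (c ^ k) = k := fun k => by
    have h : c ^ k ∈ C := zpow_mem (Subgroup.mem_zpowers c) k
    simp only [lg, dif_pos h]
    exact (hmod _ _).1 (Subgroup.mem_zpowers_iff.1 h).choose_spec
  have lg_mul : ∀ x ∈ C, ∀ y ∈ C, lg (x * y) = lg x + lg y := by
    intro x hx y hy
    obtain ⟨k, rfl⟩ := Subgroup.mem_zpowers_iff.1 hx
    obtain ⟨l, rfl⟩ := Subgroup.mem_zpowers_iff.1 hy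
    rw [← zpow_add, lg_zpow, lg_zpow, lg_zpow]
    push_cast; rfl
  have lg_one : lg 1 = 0 := by rw [← zpow_zero c, lg_zpow]; simp
  have lg_eq_zero : ∀ x ∈ C, lg x = 0 → x = 1 := by
    intro x hx h
    obtain ⟨k, rfl⟩ := Subgroup.mem_zpowers_iff.1 hx
    rw [lg_zpow] at h
    rw [← zpow_zero c, hmod]
    simpa using h
  have lg_inv : ∀ x ∈ C, lg x⁻¹ = -lg x := fun x hx => by
    have := lg_mul x⁻¹ (inv_mem hx) x hx
    rw [inv_mul_cancel, lg_one] at this
    linear_combination -this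
  -- the multiplier
  let χ : G → ZMod (p ^ n) := fun g => lg (g * c * g⁻¹)
  have hconjC : ∀ g, g * c * g⁻¹ ∈ C := fun g => hCn.conj_mem c (Subgroup.mem_zpowers c) g
  have lg_conj : ∀ g, ∀ x ∈ C, lg (g * x * g⁻¹) = χ g * lg x := by
    intro g x hx
    obtain ⟨k, rfl⟩ := Subgroup.mem_zpowers_iff.1 hx
    obtain ⟨m, hm⟩ := Subgroup.mem_zpowers_iff.1 (hconjC g)
    simp only [χ]
    rw [← conj_zpow, ← hm, ← zpow_mul, lg_zpow, lg_zpow, lg_zpow]
    push_cast; rfl
  have χ_one : χ 1 = 1 := by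
    have := lg_zpow 1
    simpa [χ] using this
  have χ_mul : ∀ g h, χ (g * h) = χ g * χ h := fun g h => by
    have := lg_conj g _ (hconjC h)
    simp only [χ] at this ⊢
    rw [← this]
    congr 1
    group
  have χ_pow : ∀ g (k : ℕ), χ (g ^ k) = χ g ^ k := fun g k => by
    induction k with
    | zero => simp [χ_one]
    | succ k ih => rw [pow_succ, χ_mul, ih, pow_succ]
  have χ_sub_one : ∀ g, (p : ZMod (p ^ n)) ∣ χ g - 1 := by
    intro g
    rcases Nat.eq_zero_or_pos n with hn0 | hn0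
    · subst hn0
      exact ⟨0, (ZMod.subsingleton_iff.2 (pow_zero p)).elim _ _⟩
    let ψ : ZMod (p ^ n) →+* ZMod p := ZMod.castHom (dvd_pow_self p hn0.ne') (ZMod p)
    obtain ⟨k, hk⟩ := IsPGroup.iff_orderOf.1 hG g
    have h1 : ψ (χ g) ^ p ^ k = 1 := by
      rw [← map_pow, ← χ_pow, ← hk, pow_orderOf_eq_one, χ_one, map_one]
    rw [ZMod.pow_card_pow] at h1
    obtain ⟨z, hz⟩ : ∃ z : ℤ, (z : ZMod (p ^ n)) = χ g - 1 := ZMod.intCast_surjective _
    have h2 : ((z : ℤ) : ZMod p) = 0 := by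
      have := congrArg ψ hz
      rw [map_intCast, map_sub, h1, map_one, sub_self] at this
      exact this
    obtain ⟨w, hw⟩ := (ZMod.intCast_zmod_eq_zero_iff_dvd z p).1 h2
    exact ⟨(w : ZMod (p ^ n)), by rw [← hz, hw]; push_cast; rfl⟩
  -- the bracket
  let L : G → G → ZMod (p ^ n) := fun g x => lg ⁅g, x⁆
  have L_mul : ∀ g x y, L g (x * y) = L g x + χ x * L g y := fun g x y => by
    simp only [L]
    rw [← lg_conj x _ (hcomm_mem g y), ← lg_mul _ (hcomm_mem g x) _ (hCn.conj_mem _ (hcomm_mem g y) x)]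
    congr 1
    simp only [commutatorElement_def]
    group
  have L_skew : ∀ g x, L g x = -L x g := fun g x => by
    simp only [L]
    rw [← lg_inv _ (hcomm_mem x g), commutatorElement_inv]
  have L_one : ∀ g, L g 1 = 0 := fun g => by simp [L, lg_one]
  have L_pow : ∀ g x (k : ℕ), L g (x ^ k) = gsum (χ x) k * L g x := fun g x k => by
    induction k with
    | zero => simp [L_one, gsum]
    | succ k ih =>
      rw [pow_succ, L_mul, ih, χ_pow]
      simp [gsum, Finset.sum_range_succ]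
      ring
  have χα : χ α = 1 := by
    have : α * c * α⁻¹ = c ^ (1 : ℤ) := by
      rw [zpow_one]
      simpa [mul_inv_eq_iff_eq_mul] using (hαc 1).eq
    simp only [χ, this, lg_zpow, Int.cast_one]
  have gsum_one : ∀ k : ℕ, gsum (1 : ZMod (p ^ n)) k = k := fun k => by simp [gsum]
  have L_rep : ∀ g (i j : ℕ), L g (α ^ i * b ^ j) = (i : ZMod (p ^ n)) * L g α + gsum (χ b) j * L g b := by
    intro g i j
    rw [L_mul, L_pow, L_pow, χ_pow, χα, gsum_one, one_pow, one_mul]
  have Lbα : L b α = 1 := by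
    have := lg_zpow 1
    simpa [L, c] using this
  let φ : G → ZMod (p ^ n) × ZMod (p ^ n) := fun g => (L b g, L g α)
  have hLαα : L α α = 0 := by simp [L, lg_one]
  have hLbb : L b b = 0 := by simp [L, lg_one]
  have φ_rep : ∀ i j : ℕ, φ (α ^ i * b ^ j) = ((i : ZMod (p ^ n)), gsum (χ b) j) := by
    intro i j
    have h1 : L b (α ^ i * b ^ j) = (i : ZMod (p ^ n)) := by
      rw [L_rep, Lbα, hLbb]; ring
    have h2 : L (α ^ i * b ^ j) α = gsum (χ b) j := by
      rw [L_skew, L_rep, hLαα, L_skew α b, Lbα]; ring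
    simp only [φ, h1, h2]
  have L_det : ∀ g x, L g x = det2 (φ x) (φ g) := by
    intro g x
    obtain ⟨i, j, rfl⟩ := hrep x
    rw [φ_rep, L_rep]
    simp only [det2, φ]
    rw [L_skew g b]
    ring
  refine ⟨⟨φ, χ, c, ?_, χ_sub_one, χ_pow, ?_, hn, hder, ?_, ?_⟩⟩
  · intro x y
    simp only [φ, Prod.smul_mk, smul_eq_mul, Prod.mk_add_mk, L_mul]
    rw [L_skew (x * y) α, L_mul, L_skew α x, L_skew α y]
    refine Prod.ext rfl ?_
    ring
  · rintro ⟨u, w⟩
    obtain ⟨j, hj⟩ := gsum_surjective hodd (χ_sub_one b) w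
    exact ⟨α ^ u.val * b ^ j, by rw [φ_rep, hj, ZMod.natCast_zmod_val]⟩
  · intro x y
    obtain ⟨k, hk⟩ := Subgroup.mem_zpowers_iff.1 (hcomm_mem x y)
    refine ⟨k, hk.symm, ?_⟩
    rw [← L_det]
    simp only [L]
    rw [← hk, lg_zpow]
  · intro z hz
    obtain ⟨i, j, rfl⟩ := hrep z
    have h0 : ∀ g, L g (α ^ i * b ^ j) = 0 := fun g => by
      simp only [L]
      rw [commutatorElement_eq_one_iff_mul_comm.2 (Subgroup.mem_center_iff.1 hz g), lg_one]
    have h1 : p ^ n ∣ i := by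
      rw [← ZMod.natCast_eq_zero_iff]
      have := h0 b
      rwa [L_rep, Lbα, hLbb, mul_one, mul_zero, add_zero] at this
    have h2 : p ^ n ∣ j := by
      rw [← gsum_eq_zero_iff hodd (χ_sub_one b)]
      have := h0 α
      rw [L_rep, hLαα, L_skew α b, Lbα] at this
      linear_combination -this
    obtain ⟨i', rfl⟩ := h1
    obtain ⟨j', rfl⟩ := h2
    rw [mul_comm _ i', mul_comm _ j', pow_mul, pow_mul]
    exact mul_mem (pow_mem_powerClosure (Subgroup.mem_top _)) (pow_mem_powerClosure (Subgroup.mem_top _))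

namespace Coord

variable {G : Type*} [Group G] {p n : ℕ} [hp : Fact p.Prime] (D : Coord G p n)

theorem isUnit_χ (x : G) : IsUnit (D.χ x) := by
  obtain ⟨z, hz⟩ := D.χ_sub_one x
  rw [show D.χ x = 1 + (p : ZMod (p ^ n)) * z by linear_combination hz]
  exact isUnit_add_mul_self isUnit_one z

omit hp in
theorem χ_one : D.χ 1 = 1 := by simpa using D.χ_pow 1 0

omit hp in
theorem φ_one : D.φ 1 = 0 := by
  have h := D.φ_mul 1 1
  rw [mul_one, D.χ_one, one_smul] at h
  exact left_eq_add.1 h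

omit hp in
theorem commute_iff (x y : G) : x * y = y * x ↔ det2 (D.φ y) (D.φ x) = 0 := by
  obtain ⟨k, hk, hkd⟩ := D.comm_eq x y
  rw [← commutatorElement_eq_one_iff_mul_comm, hk, ← hkd, ← orderOf_dvd_iff_zpow_eq_one, D.c_order,
    ZMod.intCast_zmod_eq_zero_iff_dvd]

omit hp in
theorem mem_center_of_φ {x : G} (h : D.φ x = 0) : x ∈ Subgroup.center G :=
  Subgroup.mem_center_iff.2 fun y => (D.commute_iff y x).2 (by simp [det2, h])

omit hp in
theorem φ_eq_zero_iff {x : G} : D.φ x = 0 ↔ x ∈ Subgroup.center G := by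
  refine ⟨D.mem_center_of_φ, fun h => ?_⟩
  obtain ⟨y, hy⟩ := D.φ_surj (1, 0)
  obtain ⟨z, hz⟩ := D.φ_surj (0, 1)
  have h1 := (D.commute_iff y x).1 (Subgroup.mem_center_iff.1 h y)
  have h2 := (D.commute_iff z x).1 (Subgroup.mem_center_iff.1 h z)
  simp [det2, hy, hz] at h1 h2
  exact Prod.ext h2 h1

theorem φ_eq_iff {x y : G} : D.φ x = D.φ y ↔ x⁻¹ * y ∈ Subgroup.center G := by
  rw [← D.φ_eq_zero_iff]
  have h := D.φ_mul x (x⁻¹ * y)
  rw [mul_inv_cancel_left] at h
  rw [h, left_eq_add, (D.isUnit_χ x).smul_eq_zero]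

omit hp in
theorem φ_pow (x : G) (k : ℕ) : D.φ (x ^ k) = gsum (D.χ x) k • D.φ x := by
  induction k with
  | zero => simp [gsum, D.φ_one]
  | succ k ih =>
    rw [pow_succ, D.φ_mul, ih, D.χ_pow, ← add_smul]
    congr 1
    simp [gsum, Finset.sum_range_succ]

theorem exists_smul (hodd : Odd p) {H : Subgroup G} {x : G} (hx : x ∈ H) (r : ZMod (p ^ n)) :
    ∃ y ∈ H, D.φ y = r • D.φ x := by
  obtain ⟨k, hk⟩ := gsum_surjective hodd (D.χ_sub_one x) r
  exact ⟨x ^ k, pow_mem hx k, by rw [D.φ_pow, hk]⟩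

/-- The image of a subgroup. -/
def img (hodd : Odd p) (H : Subgroup G) : Submodule (ZMod (p ^ n)) (ZMod (p ^ n) × ZMod (p ^ n)) where
  carrier := D.φ '' (H : Set G)
  zero_mem' := ⟨1, one_mem H, D.φ_one⟩
  add_mem' := by
    rintro _ _ ⟨x, hx, rfl⟩ ⟨y, hy, rfl⟩
    obtain ⟨z, hz, hzy⟩ := D.exists_smul hodd hy ((D.isUnit_χ x).unit⁻¹ : (ZMod (p ^ n))ˣ).val
    refine ⟨x * z, mul_mem hx hz, ?_⟩
    rw [D.φ_mul, hzy, smul_smul, IsUnit.mul_val_inv, one_smul]
  smul_mem' := by
    rintro r _ ⟨x, hx, rfl⟩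
    obtain ⟨y, hy, hyx⟩ := D.exists_smul hodd hx r
    exact ⟨y, hy, hyx⟩

theorem mem_img {hodd : Odd p} {H : Subgroup G} {u : ZMod (p ^ n) × ZMod (p ^ n)} :
    u ∈ D.img hodd H ↔ ∃ x ∈ H, D.φ x = u := Iff.rfl

theorem img_top (hodd : Odd p) : D.img hodd ⊤ = ⊤ :=
  eq_top_iff.2 fun u _ => by
    obtain ⟨x, hx⟩ := D.φ_surj u
    exact D.mem_img.2 ⟨x, Subgroup.mem_top x, hx⟩

theorem card_eq [Finite G] (hodd : Odd p) (H : Subgroup G) :
    Nat.card H = Nat.card ↥(H ⊓ Subgroup.center G) * Nat.card (D.img hodd H) := by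
  let f : ↥H ⧸ (Subgroup.center G).subgroupOf H → D.img hodd H :=
    Quotient.lift (fun x : H => (⟨D.φ x, D.mem_img.2 ⟨x, x.2, rfl⟩⟩ : D.img hodd H)) fun x y hxy =>
      Subtype.ext (D.φ_eq_iff.2 (by
        have := QuotientGroup.leftRel_apply.1 hxy
        simpa [Subgroup.mem_subgroupOf] using this))
  have hf : Function.Bijective f := by
    refine ⟨?_, ?_⟩
    · intro x y
      induction x using Quotient.inductionOn with
      | _ x =>
        induction y using Quotient.inductionOn with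
        | _ y =>
          intro h
          refine Quotient.sound ?_
          change (QuotientGroup.leftRel _) x y
          rw [QuotientGroup.leftRel_apply]
          simpa [Subgroup.mem_subgroupOf] using D.φ_eq_iff.1 (congrArg Subtype.val h)
    · rintro ⟨u, hu⟩
      obtain ⟨x, hx, rfl⟩ := D.mem_img.1 hu
      exact ⟨QuotientGroup.mk ⟨x, hx⟩, rfl⟩
  have h1 := ((Subgroup.center G).subgroupOf H).card_mul_index
  rw [Subgroup.index_eq_card, Nat.card_eq_of_bijective f hf] at h1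
  rw [← h1]
  congr 1
  rw [inf_comm]
  exact Nat.card_congr ((Subgroup.subgroupOfEquivOfLe
    (inf_le_right : Subgroup.center G ⊓ H ≤ H)).toEquiv.symm.trans (Equiv.subtypeEquivRight (by simp [Subgroup.mem_subgroupOf]))).symm

theorem card_of_center_le [Finite G] (hodd : Odd p) {H : Subgroup G} (hH : Subgroup.center G ≤ H) :
    Nat.card H = Nat.card ↥(Subgroup.center G) * Nat.card (D.img hodd H) := by
  rw [D.card_eq hodd H, inf_eq_right.2 hH]

omit [Group G] in
theorem card_plane : Nat.card (ZMod (p ^ n) × ZMod (p ^ n)) = p ^ (2 * n) := by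
  simp [Nat.card_prod, ← pow_add, two_mul]

include D in
theorem card_G [Finite G] (hodd : Odd p) :
    Nat.card G = Nat.card ↥(Subgroup.center G) * p ^ (2 * n) := by
  have h := D.card_of_center_le hodd (H := ⊤) le_top
  rw [Nat.card_congr Subgroup.topEquiv.toEquiv, D.img_top hodd] at h
  rw [h, Nat.card_congr Submodule.topEquiv.toEquiv, card_plane]

include D in
theorem card_commutator : Nat.card ↥(commutator G) = p ^ n := by
  rw [D.c_gen, Nat.card_zpowers, D.c_order]

include D in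
theorem index_commutator [Finite G] (hodd : Odd p) :
    (commutator G).index = Nat.card ↥(Subgroup.center G) * p ^ n := by
  have h := (commutator G).card_mul_index
  rw [D.card_commutator, D.card_G hodd, two_mul, pow_add] at h
  exact Nat.eq_of_mul_eq_mul_left (pow_pos hp.out.pos n) (h.trans (by ring))

theorem mem_centralizer_iff (hodd : Odd p) {H : Subgroup G} {x : G} :
    x ∈ Subgroup.centralizer (H : Set G) ↔ D.φ x ∈ perp (D.img hodd H) := by
  rw [Subgroup.mem_centralizer_iff, mem_perp]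
  constructor
  · rintro h _ ⟨y, hy, rfl⟩
    exact (D.commute_iff y x).1 (h y hy)
  · intro h y hy
    exact (D.commute_iff y x).2 (h _ ⟨y, hy, rfl⟩)

theorem img_centralizer (hodd : Odd p) (H : Subgroup G) :
    D.img hodd (Subgroup.centralizer (H : Set G)) = perp (D.img hodd H) := by
  refine le_antisymm ?_ fun u hu => ?_
  · rintro _ ⟨x, hx, rfl⟩
    exact (D.mem_centralizer_iff hodd).1 hx
  · obtain ⟨x, rfl⟩ := D.φ_surj u
    exact ⟨x, (D.mem_centralizer_iff hodd).2 hu, rfl⟩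

theorem card_centralizer [Finite G] (hodd : Odd p) (H : Subgroup G) :
    Nat.card ↥(Subgroup.centralizer (H : Set G)) =
      Nat.card ↥(Subgroup.center G) * Nat.card (perp (D.img hodd H)) := by
  rw [D.card_of_center_le hodd (Subgroup.center_le_centralizer _), D.img_centralizer hodd]

theorem isMulCommutative_iff (hodd : Odd p) (H : Subgroup G) :
    IsMulCommutative ↥H ↔ D.img hodd H ≤ perp (D.img hodd H) := by
  constructor
  · rintro h _ ⟨x, hx, rfl⟩
    rw [← D.mem_centralizer_iff hodd]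
    exact Subgroup.mem_centralizer_iff.2 fun y hy => congrArg Subtype.val (h.1.1 ⟨y, hy⟩ ⟨x, hx⟩)
  · intro h
    refine ⟨⟨fun x y => Subtype.ext ?_⟩⟩
    exact (Subgroup.mem_centralizer_iff.1 ((D.mem_centralizer_iff hodd).2 (h ⟨y.1, y.2, rfl⟩)) x x.2)

theorem pow_mem_layer (hodd : Odd p) (x : G) (s : ℕ) :
    D.φ (x ^ p ^ s) ∈ layer (p := p) (n := n) s := by
  obtain ⟨w, -, hw⟩ := gsum_eq_pow_mul_unit hodd (D.χ_sub_one x) (s := s) (m := 1)
    (by simpa using hp.out.ne_one)
  rw [mul_one] at hw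
  rw [D.φ_pow, hw]
  simp [layer, Prod.smul_fst, Prod.smul_snd, mul_assoc]

/-- `℧_s(G)` is the preimage of the layer `p^s`. -/
theorem mem_powerClosure_iff (hodd : Odd p) {s : ℕ} (hs : s ≤ n) {g : G} :
    g ∈ Cfsg.powerClosure p s (⊤ : Subgroup G) ↔ D.φ g ∈ layer (p := p) (n := n) s := by
  constructor
  · intro hg
    let S : Subgroup G :=
      { carrier := {g | D.φ g ∈ layer (p := p) (n := n) s}
        one_mem' := by simp [layer, D.φ_one]
        mul_mem' := fun {x y} hx hy => by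
          simp only [layer, Set.mem_setOf_eq] at hx hy ⊢
          rw [D.φ_mul]
          exact ⟨dvd_add hx.1 (dvd_mul_of_dvd_right hy.1 _), dvd_add hx.2 (dvd_mul_of_dvd_right hy.2 _)⟩
        inv_mem' := fun {x} hx => by
          simp only [layer, Set.mem_setOf_eq] at hx ⊢
          have h := D.φ_mul x x⁻¹
          rw [mul_inv_cancel, D.φ_one] at h
          have h1 := congrArg Prod.fst h
          have h2 := congrArg Prod.snd h
          simp at h1 h2
          exact ⟨(D.isUnit_χ x).dvd_mul_left.1 ((dvd_add_right hx.1).1 (h1 ▸ dvd_zero _)),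
            (D.isUnit_χ x).dvd_mul_left.1 ((dvd_add_right hx.2).1 (h2 ▸ dvd_zero _))⟩ }
    refine (Subgroup.closure_le S).2 ?_ hg
    rintro _ ⟨x, -, rfl⟩
    exact D.pow_mem_layer hodd x s
  · rintro ⟨⟨u, hu⟩, w, hw⟩
    obtain ⟨x, hx⟩ := D.φ_surj (u, w)
    obtain ⟨v, hv, hvp⟩ := gsum_eq_pow_mul_unit hodd (D.χ_sub_one x) (s := s) (m := 1)
      (by simpa using hp.out.ne_one)
    obtain ⟨y, -, hy⟩ := D.exists_smul hodd (H := Subgroup.zpowers x) (Subgroup.mem_zpowers x)
      (1 : ZMod (p ^ n))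
    -- rescale `x` so that its `p ^ s` power has the prescribed image
    obtain ⟨k, hk⟩ := gsum_surjective hodd (D.χ_sub_one (x ^ p ^ s)) (↑(hv.unit⁻¹) : ZMod (p ^ n))
    rw [mul_one] at hvp
    have hφ : D.φ g = D.φ ((x ^ p ^ s) ^ k) := by
      rw [D.φ_pow, hk, D.φ_pow, hvp, smul_smul, mul_left_comm, IsUnit.val_inv_mul, mul_one, hx]
      exact Prod.ext (by simpa using hu) (by simpa using hw)
    have hz := D.center_le (D.φ_eq_iff.1 hφ.symm)
    have hle : Cfsg.powerClosure p n (⊤ : Subgroup G) ≤ Cfsg.powerClosure p s (⊤ : Subgroup G) := by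
      refine (Subgroup.closure_le _).2 ?_
      rintro _ ⟨z, -, rfl⟩
      rw [SetLike.mem_coe, show p ^ n = p ^ (n - s) * p ^ s by rw [← pow_add, Nat.sub_add_cancel hs],
        pow_mul]
      exact pow_mem_powerClosure (Subgroup.mem_top _)
    have := mul_mem (pow_mem (pow_mem_powerClosure (p := p) (e := s) (Subgroup.mem_top x)) k) (hle hz)
    rwa [mul_inv_cancel_left] at this

/-- The class size is the size of the image of the pairing. -/
theorem index_centralizer_singleton (g : G) :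
    (Subgroup.centralizer ({g} : Set G)).index = Nat.card (Set.range (det2 (D.φ g))) := by
  rw [Subgroup.index_eq_card]
  let f : G ⧸ Subgroup.centralizer ({g} : Set G) → Set.range (det2 (D.φ g)) :=
    fun q => ⟨det2 (D.φ g) (D.φ q.out), _, rfl⟩
  have key : ∀ x y : G, det2 (D.φ g) (D.φ x) = det2 (D.φ g) (D.φ y) ↔
      x⁻¹ * y ∈ Subgroup.centralizer ({g} : Set G) := by
    intro x y
    rw [Subgroup.mem_centralizer_singleton_iff, D.commute_iff]
    have h := D.φ_mul x (x⁻¹ * y)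
    rw [mul_inv_cancel_left] at h
    rw [h, ← (D.isUnit_χ x).mul_right_eq_zero (b := det2 (D.φ g) (D.φ (x⁻¹ * y)))]
    simp only [det2, Prod.fst_add, Prod.snd_add, Prod.smul_fst, Prod.smul_snd, smul_eq_mul]
    constructor <;> intro h' <;> linear_combination -h'
  refine Nat.card_eq_of_bijective f ⟨fun a b h => ?_, ?_⟩
  · have h1 := (key _ _).1 (congrArg Subtype.val h)
    rw [← QuotientGroup.eq, QuotientGroup.out_eq', QuotientGroup.out_eq'] at h1
    exact h1
  · rintro ⟨_, u, rfl⟩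
    obtain ⟨x, rfl⟩ := D.φ_surj u
    refine ⟨QuotientGroup.mk x, Subtype.ext ?_⟩
    exact (key _ _).2 (QuotientGroup.eq.1 (QuotientGroup.out_eq' _))

end Coord

/-- A non-abelian subgroup of a metacyclic `p`-group, `p` odd, contains the centre. -/
theorem center_le_of_not_comm {G : Type*} [Group G] [Finite G] {p n : ℕ} [hp : Fact p.Prime]
    (hodd : Odd p) (hG : IsPGroup p G) (D : Coord G p n) {L : Subgroup G}
    (hL : ¬ IsMulCommutative ↥L) : Subgroup.center G ≤ L := by
  have hp2 : p ≠ 2 := by rintro rfl; exact absurd hodd (by decide)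
  have hreg : Cfsg.IsRegularPGroup p G := isRegularPGroup_of_commutator_cyclic hG hp2
    (by rw [D.c_gen]; infer_instance)
  have hR := (isRegularPGroup_iff.1 hreg).2
  -- the layer contained in the image
  obtain ⟨v, b, T, hv, hb, hvb, hdet, hM⟩ := exists_basis (D.img hodd L)
  have hbn : b < n := by
    by_contra hge
    refine hL ((D.isMulCommutative_iff hodd L).2 fun m hm => ?_)
    obtain ⟨z, rfl⟩ := T.surjective m
    obtain ⟨h1, h2⟩ := (hM z).1 hm
    exact (perp_basis hv hb hdet hM z).2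
      ⟨(pow_dvd_pow _ (by omega)).trans h1, (pow_dvd_pow _ (by omega)).trans h2⟩
  have step : ∀ z ∈ Subgroup.center G, ∃ l ∈ L, ∃ w ∈ Subgroup.center G, z = l * w ^ p := by
    intro z hz
    obtain ⟨y, -, hy⟩ := exists_eq_pow_of_mem_powerClosure hG (hR n) (D.center_le hz)
    -- `y ^ p ^ b` lies in `L Z`
    have hyb : D.φ (y ^ p ^ b) ∈ D.img hodd L := by
      obtain ⟨w, hw⟩ := T.surjective (D.φ (y ^ p ^ b))
      rw [← hw, hM]
      obtain ⟨⟨a1, h1⟩, a2, h2⟩ := D.pow_mem_layer hodd y b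
      have hwd : w = T.symm (D.φ (y ^ p ^ b)) := by rw [← hw, LinearEquiv.symm_apply_apply]
      have hs : D.φ (y ^ p ^ b) = (p : ZMod (p ^ n)) ^ b • (a1, a2) :=
        Prod.ext (by simpa using h1) (by simpa using h2)
      rw [hwd, hs, map_smul]
      exact ⟨(pow_dvd_pow _ hvb).trans (dvd_mul_right _ _), dvd_mul_right _ _⟩
    obtain ⟨l, hl, hlφ⟩ := D.mem_img.1 hyb
    have hc := D.φ_eq_iff.1 hlφ
    set w := l⁻¹ * y ^ p ^ b
    have hy' : y ^ p ^ b = l * w := by simp [w]
    have hz' : z = l ^ p ^ (n - b) * w ^ p ^ (n - b) := by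
      rw [← (show Commute l w from Subgroup.mem_center_iff.1 hc l).mul_pow, ← hy', ← pow_mul, ← pow_add,
        Nat.add_sub_cancel' hb, hy]
    refine ⟨l ^ p ^ (n - b), pow_mem hl _, w ^ p ^ (n - b - 1), pow_mem hc _, ?_⟩
    rw [hz', ← pow_mul, ← pow_succ, show n - b - 1 + 1 = n - b by omega]
  have iter : ∀ k : ℕ, ∀ z ∈ Subgroup.center G, ∃ l ∈ L, ∃ w ∈ Subgroup.center G, z = l * w ^ p ^ k := by
    intro k
    induction k with
    | zero => intro z hz; exact ⟨1, one_mem L, z, hz, by simp⟩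
    | succ k ih =>
      intro z hz
      obtain ⟨l, hl, w, hw, rfl⟩ := ih z hz
      obtain ⟨l', hl', w', hw', rfl⟩ := step w hw
      refine ⟨l * l' ^ p ^ k, mul_mem hl (pow_mem hl' _), w', hw', ?_⟩
      rw [Commute.mul_pow (Subgroup.mem_center_iff.1 (pow_mem hw' p) l'), ← pow_mul,
        ← pow_succ', mul_assoc]
  intro z hz
  obtain ⟨e, he⟩ := IsPGroup.iff_card.1 hG
  obtain ⟨l, hl, w, -, rfl⟩ := iter e z hz
  rw [← he, pow_card_eq_one', mul_one]
  exact hl

end Cfsg.Agent.Lib.PGroupTheory.Metacyclic
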