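import Cfsg.Prelude.Def_OddOrderLocal
import Cfsg.Agent.Lib.PGroupTheory.Metacyclic
import Cfsg.Agent.Lib.PGroups.Frattini

/-!
# Consequences of the coordinates of a metacyclic `p`-group
-/

set_option autoImplicit false

namespace Cfsg.Agent.Lib.PGroupTheory.Metacyclic

open scoped commutatorElement
open Cfsg Cfsg.Agent.Lib.PGroupTheory Cfsg.Agent.Lib.PGroupTheory.ZModPlane

namespace Coord

variable {G : Type*} [Group G] [Finite G] {p n : ℕ} [hp : Fact p.Prime] (D : Coord G p n)

include D in
theorem center_index (hodd : Odd p) : (Subgroup.center G).index = p ^ (2 * n) := by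
  have h := (Subgroup.center G).card_mul_index
  rw [D.card_G hodd] at h
  exact Nat.eq_of_mul_eq_mul_left Nat.card_pos h

include D in
theorem n_eq {m : ℕ} (h : Nat.card ↥(commutator G) = p ^ m) : m = n :=
  Nat.pow_right_injective hp.out.two_le (h.symm.trans D.card_commutator)

include D in
theorem card_le_of_comm (hodd : Odd p) {L : Subgroup G} (h : IsMulCommutative ↥L) :
    Nat.card L ≤ (commutator G).index := by
  rw [D.card_eq hodd L, D.index_commutator hodd]
  refine Nat.mul_le_mul (Subgroup.card_le_of_le inf_le_right) ?_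
  have h1 := (D.isMulCommutative_iff hodd L).1 h
  have h2 := card_mul_card_perp (D.img hodd L)
  have h3 : Nat.card (D.img hodd L) ≤ Nat.card (perp (D.img hodd L)) :=
    Nat.card_mono (Set.toFinite _) h1
  by_contra hlt
  have hlt' := not_le.1 hlt
  rw [two_mul, pow_add] at h2
  have : p ^ n * p ^ n < Nat.card (D.img hodd L) * Nat.card (perp (D.img hodd L)) :=
    Nat.mul_lt_mul'' hlt' (hlt'.trans_le h3)
  omega

theorem perp_le_of_not_comm (hodd : Odd p) {L : Subgroup G} (h : ¬ IsMulCommutative ↥L) :
    perp (D.img hodd L) ≤ D.img hodd L :=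
  (le_perp_or_perp_le _).resolve_left fun h' => h ((D.isMulCommutative_iff hodd L).2 h')

include D in
theorem lt_card_of_not_comm (hodd : Odd p) (hG : IsPGroup p G) {L : Subgroup G}
    (h : ¬ IsMulCommutative ↥L) : (commutator G).index < Nat.card L := by
  rw [D.card_of_center_le hodd (center_le_of_not_comm hodd hG D h), D.index_commutator hodd]
  refine Nat.mul_lt_mul_of_pos_left ?_ Nat.card_pos
  have h1 : perp (D.img hodd L) < D.img hodd L :=
    lt_of_le_of_ne (D.perp_le_of_not_comm hodd h)
      fun e => h ((D.isMulCommutative_iff hodd L).2 e.ge)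
  have h2 := card_mul_card_perp (D.img hodd L)
  have h3 : Nat.card (perp (D.img hodd L)) < Nat.card (D.img hodd L) :=
    Set.ncard_lt_ncard (SetLike.coe_ssubset_coe.2 h1) (Set.toFinite _)
  by_contra hle
  have hle' := not_lt.1 hle
  rw [two_mul, pow_add] at h2
  have : Nat.card (D.img hodd L) * Nat.card (perp (D.img hodd L)) < p ^ n * p ^ n :=
    Nat.mul_lt_mul_of_le_of_lt hle' (h3.trans_le hle') (pow_pos hp.out.pos n)
  omega

include D in
theorem comm_iff_card_le (hodd : Odd p) (hG : IsPGroup p G) (L : Subgroup G) :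
    IsMulCommutative ↥L ↔ Nat.card L ≤ (commutator G).index :=
  ⟨D.card_le_of_comm hodd, fun h => by
    by_contra hL
    exact absurd h (D.lt_card_of_not_comm hodd hG hL).not_ge⟩

include D in
theorem maximal_comm_iff (hodd : Odd p) (hG : IsPGroup p G) (L : Subgroup G) :
    Maximal (fun K : Subgroup G => IsMulCommutative ↥K) L ↔ Nat.card L = (commutator G).index := by
  constructor
  · intro hL
    have hLC : L ≤ Subgroup.centralizer (L : Set G) :=
      Subgroup.le_centralizer_iff_isMulCommutative.2 hL.prop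
    have hC : Subgroup.centralizer (L : Set G) ≤ L := by
      intro x hx
      set K := L ⊔ Subgroup.zpowers x
      have hK : K ≤ Subgroup.centralizer (K : Set G) := by
        have h1 : K ≤ Subgroup.centralizer (L : Set G) := sup_le hLC (Subgroup.zpowers_le.2 hx)
        have h2 : K ≤ Subgroup.centralizer (Subgroup.zpowers x : Set G) :=
          sup_le (Subgroup.le_centralizer_iff.1 (Subgroup.zpowers_le.2 hx))
            (Subgroup.le_centralizer _)
        exact sup_le (Subgroup.le_centralizer_iff.1 h1) (Subgroup.le_centralizer_iff.1 h2)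
      exact hL.le_of_ge (Subgroup.le_centralizer_iff_isMulCommutative.1 hK) le_sup_left
        (Subgroup.mem_sup_right (Subgroup.mem_zpowers x))
    have heq := le_antisymm hLC hC
    have hZ : Subgroup.center G ≤ L := (Subgroup.center_le_centralizer _).trans heq.ge
    have h1 := D.card_centralizer hodd L
    rw [← heq, D.card_of_center_le hodd hZ] at h1
    have h2 := card_mul_card_perp (D.img hodd L)
    rw [← Nat.eq_of_mul_eq_mul_left Nat.card_pos h1, two_mul, pow_add] at h2
    rw [D.card_of_center_le hodd hZ, D.index_commutator hodd, Nat.mul_self_inj.1 h2]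
  · intro hL
    refine ⟨(D.comm_iff_card_le hodd hG L).2 hL.le, fun K hK hLK => ?_⟩
    exact (Subgroup.eq_of_le_of_card_ge hLK (hL ▸ (D.comm_iff_card_le hodd hG K).1 hK)).ge

/-- Counting elements through their coordinates. -/
theorem card_fiber (P : ZMod (p ^ n) × ZMod (p ^ n) → Prop) :
    Nat.card {g : G // P (D.φ g)} = Nat.card ↥(Subgroup.center G) * Nat.card {u // P u} := by
  choose s hs using D.φ_surj
  rw [← Nat.card_prod]
  have hφ : ∀ (u : ZMod (p ^ n) × ZMod (p ^ n)) (z : ↥(Subgroup.center G)), D.φ (s u * z) = u := by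
    intro u z
    rw [D.φ_mul, D.φ_eq_zero_iff.2 z.2, smul_zero, add_zero, hs]
  refine (Nat.card_congr ?_).symm
  exact
    { toFun := fun x => ⟨s x.2.1 * x.1.1, by rw [hφ]; exact x.2.2⟩
      invFun := fun g => (⟨(s (D.φ g.1))⁻¹ * g.1, D.φ_eq_iff.1 (hs _)⟩, ⟨D.φ g.1, g.2⟩)
      left_inv := fun x => by
        refine Prod.ext (Subtype.ext ?_) (Subtype.ext ?_)
        · simp [hφ]
        · simp [hφ]
      right_inv := fun g => by simp }

/-- The class size of `g` in terms of the layer of its coordinates. -/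
theorem exists_level (g : G) :
    ∃ v ≤ n, (∀ s ≤ n, D.φ g ∈ layer (p := p) (n := n) s ↔ s ≤ v) ∧
      (Subgroup.centralizer ({g} : Set G)).index = p ^ (n - v) := by
  obtain ⟨v, hv, h1, h2⟩ := exists_image_det2 (D.φ g)
  exact ⟨v, hv, h1, by rw [D.index_centralizer_singleton g, h2]⟩

theorem index_le_iff (g : G) {s : ℕ} (hs : s ≤ n) :
    (Subgroup.centralizer ({g} : Set G)).index ≤ p ^ (n - s) ↔ D.φ g ∈ layer (p := p) (n := n) s := by
  obtain ⟨v, hv, h1, h2⟩ := D.exists_level g
  rw [h2, h1 s hs, Nat.pow_le_pow_iff_right hp.out.one_lt]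
  omega

theorem mem_layer_top_iff (g : G) :
    D.φ g ∈ layer (p := p) (n := n) n ↔ g ∈ Subgroup.center G := by
  rw [← D.φ_eq_zero_iff]
  simp only [layer, Set.mem_setOf_eq, pow_self_eq_zero, zero_dvd_iff]
  exact ⟨fun h => Prod.ext h.1 h.2, fun h => by simp [h]⟩

theorem mem_frattini_iff (hodd : Odd p) (hG : IsPGroup p G) (hn : n ≠ 0) (g : G) :
    g ∈ frattini G ↔ D.φ g ∈ layer (p := p) (n := n) 1 := by
  rw [← D.mem_powerClosure_iff hodd (Nat.one_le_iff_ne_zero.2 hn)]
  constructor
  · have : (Cfsg.powerClosure p 1 (⊤ : Subgroup G)).Normal :=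
      ⟨fun z hz k => conj_mem_powerClosure (by rw [Subgroup.normalizer_eq_top_iff.2 inferInstance]; trivial) hz⟩
    refine fun hg => Cfsg.Agent.Lib.PGroups.frattini_le_of_pow_commutator (p := p) _ ?_ ?_ hg
    · intro x
      simpa using pow_mem_powerClosure (p := p) (e := 1) (Subgroup.mem_top x)
    · rw [commutator_def, Subgroup.commutator_le]
      rintro x - y -
      rw [D.mem_powerClosure_iff hodd (Nat.one_le_iff_ne_zero.2 hn)]
      let π := ZMod.castHom (dvd_pow_self p hn) (ZMod p)
      have hπ : ∀ a : ZMod (p ^ n), π a = 0 → (p : ZMod (p ^ n)) ∣ a := by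
        intro a ha
        rcases isUnit_or_dvd a with h | h
        · exact absurd ha (h.map π).ne_zero
        · exact h
      have hπp : π (p : ZMod (p ^ n)) = 0 := by rw [map_natCast, ZMod.natCast_self]
      have hπχ : ∀ x, π (D.χ x) = 1 := fun x => by
        obtain ⟨z, hz⟩ := D.χ_sub_one x
        rw [show D.χ x = 1 + (p : ZMod (p ^ n)) * z by linear_combination hz, map_add, map_mul, hπp,
          zero_mul, add_zero, map_one]
      let ψ : G →* Multiplicative (ZMod p × ZMod p) :=
        MonoidHom.mk' (fun g => Multiplicative.ofAdd (π (D.φ g).1, π (D.φ g).2)) fun a b => by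
          simp only [← ofAdd_add, D.φ_mul, Prod.fst_add, Prod.snd_add, Prod.smul_fst, Prod.smul_snd,
            smul_eq_mul, map_add, map_mul, hπχ, one_mul, Prod.mk_add_mk]
      have h : ψ ⁅x, y⁆ = 1 := by
        rw [map_commutatorElement, commutatorElement_eq_one_iff_mul_comm, mul_comm]
      simp only [ψ, MonoidHom.mk'_apply, ofAdd_eq_one, Prod.mk_eq_zero] at h
      simp only [layer, Set.mem_setOf_eq, pow_one]
      exact ⟨hπ _ h.1, hπ _ h.2⟩
  · refine fun hg => (Subgroup.closure_le _).2 ?_ hg
    rintro _ ⟨x, -, rfl⟩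
    rw [SetLike.mem_coe, pow_one]
    exact Cfsg.Agent.Lib.PGroups.pow_mem_frattini hG x

theorem card_center_subtype (R : Subgroup G) :
    Nat.card ↥(Subgroup.center ↥R) = Nat.card ↥(R ⊓ Subgroup.centralizer (R : Set G)) := by
  refine (Nat.card_congr
    ((Subgroup.center ↥R).equivMapOfInjective R.subtype Subtype.coe_injective).toEquiv).trans ?_
  suffices h : (Subgroup.center ↥R).map R.subtype = R ⊓ Subgroup.centralizer (R : Set G) by rw [h]
  ext x
  simp only [Subgroup.mem_map, Subgroup.mem_inf, Subgroup.mem_centralizer_iff, Subgroup.mem_center_iff]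
  constructor
  · rintro ⟨⟨y, hy⟩, h, rfl⟩
    exact ⟨hy, fun z hz => congrArg Subtype.val (h ⟨z, hz⟩)⟩
  · rintro ⟨hx, h⟩
    exact ⟨⟨x, hx⟩, fun z => Subtype.ext (h z z.2), rfl⟩

include D in
/-- The value of `|R| * |Z(R)|`. -/
theorem central_product (hodd : Odd p) (hG : IsPGroup p G) (R : Subgroup G) :
    Nat.card R * Nat.card ↥(Subgroup.center ↥R) ≤ (commutator G).index ^ 2 ∧
      (Nat.card R * Nat.card ↥(Subgroup.center ↥R) = (commutator G).index ^ 2 ↔
        ¬ IsMulCommutative ↥R ∨ Maximal (fun K : Subgroup G => IsMulCommutative ↥K) R) := by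
  rw [card_center_subtype]
  by_cases hR : IsMulCommutative ↥R
  · rw [inf_eq_left.2 (Subgroup.le_centralizer_iff_isMulCommutative.2 hR), sq,
      D.maximal_comm_iff hodd hG]
    refine ⟨Nat.mul_le_mul (D.card_le_of_comm hodd hR) (D.card_le_of_comm hodd hR), ?_⟩
    rw [Nat.mul_self_inj]
    exact ⟨Or.inr, fun h => h.resolve_left (not_not.2 hR)⟩
  · have hZ := center_le_of_not_comm hodd hG D hR
    have hC : Subgroup.centralizer (R : Set G) ≤ R := by
      intro x hx
      obtain ⟨y, hy, hxy⟩ := D.perp_le_of_not_comm hodd hR ((D.mem_centralizer_iff hodd).1 hx)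
      have := mul_mem hy (hZ (D.φ_eq_iff.1 hxy))
      rwa [mul_inv_cancel_left] at this
    have : Nat.card R * Nat.card ↥(R ⊓ Subgroup.centralizer (R : Set G)) = (commutator G).index ^ 2 := by
      rw [inf_eq_right.2 hC, D.card_centralizer hodd R, D.card_of_center_le hodd hZ,
        D.index_commutator hodd, mul_mul_mul_comm, card_mul_card_perp]
      ring
    exact ⟨this.le, iff_of_true this (Or.inl hR)⟩

include D in
theorem centralizer_product (hodd : Odd p) (R : Subgroup G) :
    Nat.card R * Nat.card ↥(Subgroup.centralizer (R : Set G)) =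
      Nat.card ↥(R ⊓ Subgroup.center G) * (Nat.card ↥(Subgroup.center G) * p ^ (2 * n)) := by
  rw [D.card_centralizer hodd R, D.card_eq hodd R, ← card_mul_card_perp (D.img hodd R)]
  ring

end Coord

end Cfsg.Agent.Lib.PGroupTheory.Metacyclic
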