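import Cfsg.Prelude.Def_OddOrderLocal
import Cfsg.Agent.Lib.PGroupTheory.Regular
import Cfsg.Agent.Lib.PGroups.Frattini
import Cfsg.Agent.Lib.PGroups.Omega

/-!
# Regular `p`-groups: power structure and metacyclicity

* `|℧₁(G)| * |{x | x^p = 1}| = |G|` in a regular group;
* a regular `p`-group, `p` odd, with `|G : ℧₁(G)| ≤ p²` is metacyclic;
* if the elements of order `p` are central and at most `p²` in number then `G` is regular.
-/

set_option autoImplicit false

namespace Cfsg.Agent.Lib.PGroupTheory

open scoped commutatorElement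
open Cfsg Cfsg.Agent.Lib

variable {G : Type*} [Group G] {p : ℕ}

theorem pow_mem_powerClosure_one {H : Subgroup G} {x : G} (hx : x ∈ H) :
    x ^ p ∈ powerClosure p 1 H := by
  simpa using pow_mem_powerClosure (p := p) (e := 1) hx

/-- The power map on a product, at level one. -/
theorem RegularAt.mul_pow_mem (h : RegularAt p 1 G) {X : Subgroup G} {a b : G} (ha : a ∈ X)
    (hb : b ∈ X) : ∃ c ∈ powerClosure p 1 ⁅X, X⁆, (a * b) ^ p = a ^ p * b ^ p * c := by
  obtain ⟨c, hc, hab⟩ := h a b
  simp only [pow_one] at hab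
  exact ⟨c, powerClosure_mono (Subgroup.commutator_mono (closure_pair_le ha hb) (closure_pair_le ha hb)) hc,
    hab⟩

theorem powerClosure_normal (H : Subgroup G) [hH : H.Normal] (e : ℕ) :
    (powerClosure p e H).Normal :=
  ⟨fun _ hz g => conj_mem_powerClosure (by rw [Subgroup.normalizer_eq_top]; trivial) hz⟩

/-- The subgroup of elements killed by `p` modulo a normal subgroup, seen in a group where this set
is a subgroup. -/
theorem exists_subgroup_of_regularAt [Finite G] [Fact p.Prime] (hG : IsPGroup p G)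
    (hR : RegularAt p 1 G) :
    ∃ K : Subgroup G, K.Normal ∧ ∀ x, x ∈ K ↔ x ^ p = 1 := by
  refine ⟨{ carrier := {x | x ^ p = 1}
            one_mem' := one_pow p
            mul_mem' := fun {a b} ha hb => by
              simpa using pow_mul_eq_one hG hR (a := a) (b := b) (by simpa using ha) (by simpa using hb)
            inv_mem' := fun {a} ha => by simpa using ha }, ⟨fun x hx g => ?_⟩, fun x => Iff.rfl⟩
  change (g * x * g⁻¹) ^ p = 1
  rw [conj_pow, show x ^ p = 1 from hx]
  simp

/-- In a regular group `|℧₁| * |Ω₁| = |G|`. -/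
theorem card_powerClosure_mul [Finite G] [Fact p.Prime] (hG : IsPGroup p G)
    (hR : RegularAt p 1 G) :
    Nat.card ↥(powerClosure p 1 (⊤ : Subgroup G)) * Nat.card {x : G // x ^ p = 1} = Nat.card G := by
  obtain ⟨K, hKn, hK⟩ := exists_subgroup_of_regularAt hG hR
  have h1 : Nat.card {x : G // x ^ p = 1} = Nat.card K :=
    Nat.card_congr (Equiv.subtypeEquivRight fun x => (hK x).symm)
  have key : ∀ a b : G, a ^ p = b ^ p ↔ a⁻¹ * b ∈ K := fun a b => by
    have := pow_eq_pow_iff hG hR (a := a) (b := b)
    simp only [pow_one] at this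
    rw [this, hK]
  let f : G ⧸ K → ↥(powerClosure p 1 (⊤ : Subgroup G)) :=
    Quotient.lift (fun x : G => ⟨x ^ p, pow_mem_powerClosure_one (Subgroup.mem_top x)⟩)
      fun a b hab => Subtype.ext ((key a b).2 (QuotientGroup.leftRel_apply.1 hab))
  have hf : Function.Bijective f := by
    refine ⟨?_, ?_⟩
    · intro x y
      induction x using Quotient.inductionOn with
      | _ x =>
        induction y using Quotient.inductionOn with
        | _ y =>
          intro h
          exact Quotient.sound (QuotientGroup.leftRel_apply.2 ((key x y).1 (congrArg Subtype.val h)))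
    · rintro ⟨z, hz⟩
      obtain ⟨x, -, rfl⟩ := exists_eq_pow_of_mem_powerClosure hG hR hz
      exact ⟨QuotientGroup.mk x, Subtype.ext (by simp [f])⟩
  rw [h1, ← Nat.card_eq_of_bijective f hf, mul_comm, ← Subgroup.index_eq_card, Subgroup.card_mul_index]

theorem index_powerClosure_eq [Finite G] [Fact p.Prime] (hG : IsPGroup p G)
    (hR : RegularAt p 1 G) :
    (powerClosure p 1 (⊤ : Subgroup G)).index = Nat.card {x : G // x ^ p = 1} :=
  Nat.eq_of_mul_eq_mul_left Nat.card_pos
    (((powerClosure p 1 (⊤ : Subgroup G)).card_mul_index).trans (card_powerClosure_mul hG hR).symm)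

/-- `℧₁(K)` consists of non-generators of `K`. -/
theorem eq_of_le_sup_powerClosure [Finite G] [Fact p.Prime] (hG : IsPGroup p G) {H K : Subgroup G}
    (h1 : H ≤ K) (h2 : K ≤ H ⊔ powerClosure p 1 K) : H = K := by
  by_contra hne
  have hlt : H.subgroupOf K ≠ ⊤ := fun h => hne (le_antisymm h1 (Subgroup.subgroupOf_eq_top.1 h))
  obtain ⟨M, hM, hle⟩ := (eq_top_or_exists_le_coatom (H.subgroupOf K)).resolve_left hlt
  refine hM.1 (eq_top_iff.2 ?_)
  rw [← Subgroup.map_le_map_iff_of_injective K.subtype_injective, ← MonoidHom.range_eq_map,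
    Subgroup.range_subtype]
  refine h2.trans (sup_le ?_ ((Subgroup.closure_le _).2 ?_))
  · intro x hx
    exact ⟨⟨x, h1 hx⟩, hle (Subgroup.mem_subgroupOf.2 hx), rfl⟩
  · rintro _ ⟨x, hx, rfl⟩
    refine ⟨⟨x, hx⟩ ^ p, ?_, by simp⟩
    have := PGroups.pow_mem_frattini (hG.to_subgroup K) (⟨x, hx⟩ : K)
    exact frattini_le_coatom hM this

/-- A subgroup generated modulo the normal subgroup `U`, central modulo `U`, contains the derived
subgroup: two-generator version. -/
theorem commutator_isCyclic_of [Finite G] [Fact p.Prime] (hG : IsPGroup p G) {a b : G}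
    (hgen : Subgroup.closure ({a, b} : Set G) ⊔ Subgroup.center G = ⊤)
    (h3 : ∀ y ∈ commutator G, ∀ x : G, ⁅y, x⁆ ∈ powerClosure p 1 (commutator G)) :
    IsCyclic ↥(commutator G) := by
  have hUn := powerClosure_normal (p := p) (commutator G) 1
  set U := powerClosure p 1 (commutator G)
  have hc : ⁅a, b⁆ ∈ commutator G :=
    Subgroup.commutator_mem_commutator (Subgroup.mem_top a) (Subgroup.mem_top b)
  set T := Subgroup.zpowers ⁅a, b⁆ ⊔ U
  have hTn : T.Normal := by
    refine ⟨fun y hy g => ?_⟩
    have hyc : y ∈ commutator G :=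
      sup_le (Subgroup.zpowers_le.2 hc) (powerClosure_le _) hy
    rw [show g * y * g⁻¹ = ⁅y, g⁆⁻¹ * y by simp [commutatorElement_def, mul_assoc]]
    exact mul_mem (inv_mem (Subgroup.mem_sup_right (h3 y hyc g))) hy
  have hle : commutator G ≤ T := by
    set K := Subgroup.closure ({a, b} : Set G)
    have hK : ⁅K, K⁆ ≤ T := commutator_closure_pair_le
      (by rw [Subgroup.normalizer_eq_top]; trivial) (by rw [Subgroup.normalizer_eq_top]; trivial)
      (Subgroup.mem_sup_left (Subgroup.mem_zpowers _))
    refine le_trans ?_ hK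
    rw [commutator_def, Subgroup.commutator_le]
    intro x _ y _
    have hx : x ∈ K ⊔ Subgroup.center G := hgen ▸ Subgroup.mem_top x
    have hy : y ∈ K ⊔ Subgroup.center G := hgen ▸ Subgroup.mem_top y
    obtain ⟨k, hk, z, hz, rfl⟩ := Subgroup.mem_sup_of_normal_right.1 hx
    obtain ⟨k', hk', z', hz', rfl⟩ := Subgroup.mem_sup_of_normal_right.1 hy
    have e1 : ⁅k * z, k' * z'⁆ = ⁅k, k'⁆ := by
      have c1 := Subgroup.mem_center_iff.1 hz
      have c2 := Subgroup.mem_center_iff.1 hz'
      have d1 : ∀ g : G, ⁅z, g⁆ = 1 := fun g => commutatorElement_eq_one_iff_mul_comm.2 (c1 g).symm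
      have d2 : ∀ g : G, ⁅g, z'⁆ = 1 := fun g => commutatorElement_eq_one_iff_mul_comm.2 (c2 g)
      rw [commutatorElement_mul_left_eq_conj_mul, d1, commutatorElement_mul_right_eq_mul_conj, d2]
      simp
    rw [e1]
    exact Subgroup.commutator_mem_commutator hk hk'
  have heq : Subgroup.zpowers ⁅a, b⁆ = commutator G :=
    eq_of_le_sup_powerClosure hG (Subgroup.zpowers_le.2 hc) hle
  rw [← heq]
  infer_instance

theorem prime_mul_index_le [Finite G] [hp : Fact p.Prime] (hG : IsPGroup p G) {A B : Subgroup G}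
    (hAB : A < B) : p * B.index ≤ A.index := by
  rw [← Subgroup.relIndex_mul_index hAB.le]
  refine Nat.mul_le_mul_right _ ?_
  obtain ⟨k, hk⟩ := (hG.to_subgroup B).index (A.subgroupOf B)
  rw [Subgroup.relIndex, hk]
  refine Nat.le_self_pow ?_ p
  rintro rfl
  rw [pow_zero, Subgroup.index_eq_one, Subgroup.subgroupOf_eq_top] at hk
  exact hAB.not_ge hk

/-- An element outside a normal subgroup of index at most `p ^ 2` extends to a generating pair modulo it. -/
theorem exists_sup_eq_top_of_notMem [Finite G] [hp : Fact p.Prime] (hG : IsPGroup p G)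
    (U : Subgroup G) (hU : U.index ≤ p ^ 2) {a : G} (ha : a ∉ U) :
    ∃ b : G, Subgroup.closure ({a, b} : Set G) ⊔ U = ⊤ := by
  by_cases hA : ∀ b : G, b ∈ Subgroup.zpowers a ⊔ U
  · exact ⟨a, eq_top_iff.2 fun x _ => sup_le_sup_right
      (Subgroup.zpowers_le.2 (Subgroup.subset_closure (by simp))) U (hA x)⟩
  push Not at hA
  obtain ⟨b, hb⟩ := hA
  refine ⟨b, Subgroup.index_eq_one.1 ?_⟩
  set X := Subgroup.zpowers a ⊔ U
  set Y := Subgroup.closure ({a, b} : Set G) ⊔ U
  have hXY : X ≤ Y := sup_le_sup_right (Subgroup.zpowers_le.2 (Subgroup.subset_closure (by simp))) U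
  have h1 := prime_mul_index_le hG (lt_of_le_of_ne (le_sup_right : U ≤ X) fun h => ha
    (h ▸ Subgroup.mem_sup_left (Subgroup.mem_zpowers a)))
  have h2 := prime_mul_index_le hG (lt_of_le_of_ne hXY fun h => hb
    (h ▸ Subgroup.mem_sup_left (Subgroup.subset_closure (by simp))))
  have hne : Y.index ≠ 0 := Subgroup.index_ne_zero_of_finite
  have : p * (p * Y.index) ≤ p * (p * 1) :=
    ((Nat.mul_le_mul_left p h2).trans h1).trans (hU.trans (by rw [sq, mul_one]))
  have := Nat.le_of_mul_le_mul_left (Nat.le_of_mul_le_mul_left this hp.out.pos) hp.out.pos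
  omega

/-- Two elements generate modulo a normal subgroup of index at most `p ^ 2`. -/
theorem exists_pair_sup_eq_top [Finite G] [hp : Fact p.Prime] (hG : IsPGroup p G) (U : Subgroup G)
    (hU : U.index ≤ p ^ 2) : ∃ a b : G, Subgroup.closure ({a, b} : Set G) ⊔ U = ⊤ := by
  by_cases hex : ∀ a : G, a ∈ U
  · exact ⟨1, 1, eq_top_iff.2 fun x _ => Subgroup.mem_sup_right (hex x)⟩
  push Not at hex
  obtain ⟨a, ha⟩ := hex
  exact ⟨a, exists_sup_eq_top_of_notMem hG U hU ha⟩

/-- In a regular `p`-group with `|G : ℧₁(G)| ≤ p²` the derived group is inside `℧₁(G)` and is cyclic. -/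
theorem commutator_cyclic_of_index_le [Finite G] [hp : Fact p.Prime] (hG : IsPGroup p G)
    (hR : RegularAt p 1 G) (hU : (powerClosure p 1 (⊤ : Subgroup G)).index ≤ p ^ 2) :
    commutator G ≤ powerClosure p 1 (⊤ : Subgroup G) ∧ IsCyclic ↥(commutator G) ∧
      ∃ a b : G, Subgroup.closure ({a, b} : Set G) = ⊤ := by
  have hUn := powerClosure_normal (p := p) (⊤ : Subgroup G) 1
  set U := powerClosure p 1 (⊤ : Subgroup G)
  have hle : commutator G ≤ U := by
    refine Subgroup.Normal.quotient_commutative_iff_commutator_le.1 ?_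
    obtain ⟨k, hk⟩ := IsPGroup.iff_card.1 (hG.to_quotient U)
    rw [← Subgroup.index_eq_card] at hk
    have hk2 : k ≤ 2 := (Nat.pow_le_pow_iff_right hp.out.one_lt).1 (hk ▸ hU)
    rw [Subgroup.index_eq_card] at hk
    refine ⟨⟨fun a b => ?_⟩⟩
    interval_cases k
    · have := (Nat.card_eq_one_iff_unique.1 (by simpa using hk : Nat.card (G ⧸ U) = 1)).1
      exact Subsingleton.elim _ _
    · have := isCyclic_of_prime_card (α := G ⧸ U) (p := p) (by simpa using hk)
      obtain ⟨g, hg⟩ := IsCyclic.exists_generator (α := G ⧸ U)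
      obtain ⟨i, rfl⟩ := Subgroup.mem_zpowers_iff.1 (hg a)
      obtain ⟨j, rfl⟩ := Subgroup.mem_zpowers_iff.1 (hg b)
      exact (Commute.zpow_zpow (Commute.refl g) i j).eq
    · have := IsPGroup.isMulCommutative_of_card_eq_prime_sq (p := p) hk
      exact this.is_comm.comm a b
  obtain ⟨a, b, hab⟩ := exists_pair_sup_eq_top hG U hU
  have htop : Subgroup.closure ({a, b} : Set G) = ⊤ :=
    eq_of_le_sup_powerClosure hG le_top hab.ge
  refine ⟨hle, commutator_isCyclic_of hG (a := a) (b := b) (by rw [htop, top_sup_eq]) ?_, a, b, htop⟩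
  intro y hy x
  exact (commutator_powerClosure_le hR ⊤)
    (Subgroup.commutator_mem_commutator (hle hy) (Subgroup.mem_top x))

/-- `G' ≤ ℧₁(G)` cyclic and `|G : ℧₁(G)| ≤ p²` make `G` metacyclic. -/
theorem isMetacyclic_of [Finite G] [hp : Fact p.Prime] (hG : IsPGroup p G) (hp2 : p ≠ 2)
    (hc : IsCyclic ↥(commutator G)) (hU : (powerClosure p 1 (⊤ : Subgroup G)).index ≤ p ^ 2) :
    Cfsg.IsMetacyclic G := by
  have hR := (isRegularPGroup_iff.1 (isRegularPGroup_of_commutator_cyclic hG hp2 hc)).2 1
  have hUn := powerClosure_normal (p := p) (⊤ : Subgroup G) 1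
  set U := powerClosure p 1 (⊤ : Subgroup G)
  obtain ⟨A, -, hAmax⟩ := Finite.exists_le_maximal
    (p := fun A : Subgroup G => commutator G ≤ A ∧ IsCyclic A) (a := commutator G) ⟨le_rfl, hc⟩
  obtain ⟨hGA, hA⟩ := hAmax.prop
  have hmax : ∀ B : Subgroup G, (commutator G ≤ B ∧ IsCyclic B) → A ≤ B → B ≤ A :=
    fun B hB hAB => hAmax.le_of_ge hB hAB
  have hAn : A.Normal := ⟨fun y hy g => by
    rw [show g * y * g⁻¹ = ⁅g, y⁆ * y by simp [commutatorElement_def, mul_assoc]]
    exact mul_mem (hGA (Subgroup.commutator_mem_commutator (Subgroup.mem_top g) (Subgroup.mem_top y))) hy⟩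
  refine ⟨A, hAn, hA, ?_⟩
  obtain ⟨a, ha⟩ := A.isCyclic_iff_exists_zpowers_eq_top.1 hA
  by_cases haU : a ∈ U
  · obtain ⟨w, -, hw⟩ := exists_eq_pow_of_mem_powerClosure hG hR haU
    rw [pow_one] at hw
    have hle : Subgroup.zpowers w ≤ A := by
      refine hmax _ ⟨hGA.trans ?_, inferInstance⟩ ?_ <;>
      · rw [← ha, Subgroup.zpowers_le, hw]; exact pow_mem (Subgroup.mem_zpowers w) p
    have hord : orderOf w ∣ orderOf a := by
      have := orderOf_dvd_of_mem_zpowers (ha ▸ hle (Subgroup.mem_zpowers w))
      exact this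
    have ha1 : a = 1 := by
      obtain ⟨k, hk⟩ := IsPGroup.iff_orderOf.1 hG w
      rcases Nat.eq_zero_or_pos k with rfl | hk0
      · rw [pow_zero, orderOf_eq_one_iff] at hk
        rw [hw, hk, one_pow]
      exfalso
      rw [hw, orderOf_pow_of_dvd hp.out.ne_zero (hk ▸ dvd_pow_self p hk0.ne'), hk] at hord
      have hle' := Nat.le_of_dvd (Nat.div_pos (Nat.le_self_pow hk0.ne' p) hp.out.pos) hord
      exact absurd hle' (Nat.div_lt_self (pow_pos hp.out.pos k) hp.out.one_lt).not_ge
    -- then `A` is trivial, so every cyclic subgroup is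
    have hA1 : A = ⊥ := by rw [← ha, ha1, Subgroup.zpowers_one_eq_bot]
    have hall : ∀ x : G, x = 1 := fun x => by
      have := hmax (Subgroup.zpowers x) ⟨(hA1 ▸ hGA).trans bot_le, inferInstance⟩ (hA1.le.trans bot_le)
      rw [hA1] at this
      exact Subgroup.mem_bot.1 (this (Subgroup.mem_zpowers x))
    exact ⟨1, fun q => by
      obtain ⟨x, rfl⟩ := QuotientGroup.mk'_surjective A q
      exact ⟨0, by simp [hall x]⟩⟩
  · -- `a` extends to a generating pair
    obtain ⟨b, hb⟩ := exists_sup_eq_top_of_notMem hG U hU haU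
    have htop : Subgroup.closure ({a, b} : Set G) = ⊤ := eq_of_le_sup_powerClosure hG le_top hb.ge
    refine ⟨QuotientGroup.mk' A b, fun q => ?_⟩
    obtain ⟨x, rfl⟩ := QuotientGroup.mk'_surjective A q
    have hx : x ∈ (Subgroup.zpowers (QuotientGroup.mk' A b)).comap (QuotientGroup.mk' A) := by
      refine (Subgroup.closure_le _).2 ?_ (htop ▸ Subgroup.mem_top x : x ∈ _)
      have haA : a ∈ A := by rw [← ha]; exact Subgroup.mem_zpowers a
      intro y hy
      rcases hy with h | h
      · rw [h, SetLike.mem_coe, Subgroup.mem_comap,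
          show QuotientGroup.mk' A a = 1 from (QuotientGroup.eq_one_iff a).2 haA]
        exact one_mem _
      · rw [Set.mem_singleton_iff.1 h]
        exact Subgroup.mem_zpowers _
    exact hx

/-- A regular `p`-group with `|G : ℧₁(G)| ≤ p²`, `p` odd, is metacyclic. -/
theorem isMetacyclic_of_regular [Finite G] [Fact p.Prime] (hG : IsPGroup p G) (hp2 : p ≠ 2)
    (hR : RegularAt p 1 G) (hU : (powerClosure p 1 (⊤ : Subgroup G)).index ≤ p ^ 2) :
    Cfsg.IsMetacyclic G :=
  isMetacyclic_of hG hp2 (commutator_cyclic_of_index_le hG hR hU).2.1 hU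

universe u in
/-- Central elements of order `p`, at most `p²` of them: the group is regular. -/
theorem isRegularPGroup_of_omega_central {p : ℕ} [hp : Fact p.Prime] (hp2 : p ≠ 2) :
    ∀ (G : Type u) [Group G] [Finite G], IsPGroup p G → (∀ x : G, x ^ p = 1 → x ∈ Subgroup.center G) →
      Nat.card {x : G // x ^ p = 1} ≤ p ^ 2 → IsRegularPGroup p G := by
  intro G
  induction hn : Nat.card G using Nat.strong_induction_on generalizing G with
  | _ n ih =>
    intro _ _ hG hcen hcard
    subst hn
    have : Group.IsNilpotent G := hG.isNilpotent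
    by_cases hab : commutator G = ⊥
    · exact isRegularPGroup_of_commutator_cyclic hG hp2 (by rw [hab]; infer_instance)
    -- subgroups generated by an element and a conjugate
    have hsub : ∀ H : Subgroup G, H ≠ ⊤ → RegularAt p 1 H := by
      intro H hH
      refine (isRegularPGroup_iff.1 (ih _ ?_ H rfl (hG.to_subgroup H) ?_ ?_)).2 1
      · refine lt_of_le_of_ne H.card_le_card_group fun h => hH (Subgroup.eq_top_of_card_eq H h)
      · intro x hx
        rw [Subgroup.mem_center_iff]
        intro y
        exact Subtype.ext (Subgroup.mem_center_iff.1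
          (hcen x (by simpa using congrArg Subtype.val hx)) y)
      · refine le_trans ?_ hcard
        exact Nat.card_le_card_of_injective (fun x => ⟨x.1.1, by simpa using congrArg Subtype.val x.2⟩)
          fun a b h => Subtype.ext (Subtype.ext (congrArg (·.1) h))
    let W : Subgroup G :=
      { carrier := {x | x ^ p = 1}
        one_mem' := one_pow p
        mul_mem' := fun {a b} ha hb => by
          change (a * b) ^ p = 1
          rw [Commute.mul_pow (Subgroup.mem_center_iff.1 (hcen a ha) b).symm, show a ^ p = 1 from ha,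
            show b ^ p = 1 from hb, one_mul]
        inv_mem' := fun {a} ha => by simpa using ha }
    have hWc : W ≤ Subgroup.center G := fun x hx => hcen x hx
    have : W.Normal := ⟨fun x hx g => by
      rw [Subgroup.mem_center_iff.1 (hWc hx) g, mul_inv_cancel_right]; exact hx⟩
    have hconj : ∀ v g : G, RegularAt p 1 (Subgroup.closure ({v, g * v * g⁻¹} : Set G)) := by
      intro v g
      refine hsub _ fun h => zpowers_sup_commutator_ne_top v hab (eq_top_iff.2 (h ▸ ?_))
      refine closure_pair_le (Subgroup.mem_sup_left (Subgroup.mem_zpowers v)) ?_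
      rw [show g * v * g⁻¹ = ⁅g, v⁆ * v by simp [commutatorElement_def, mul_assoc]]
      exact mul_mem (Subgroup.mem_sup_right
        (Subgroup.commutator_mem_commutator (Subgroup.mem_top g) (Subgroup.mem_top v)))
        (Subgroup.mem_sup_left (Subgroup.mem_zpowers v))
    -- `p`-th roots of central elements are central modulo `W`
    have hroot : ∀ x g : G, x ^ p ∈ W → ⁅x, g⁆ ∈ W := by
      intro x g hx
      set K := Subgroup.closure ({x, g * x * g⁻¹} : Set G)
      let a : K := ⟨x, Subgroup.subset_closure (by simp)⟩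
      let b : K := ⟨g * x * g⁻¹, Subgroup.subset_closure (by simp)⟩
      have he : b ^ p ^ 1 = a ^ p ^ 1 := Subtype.ext (by
        simp only [pow_one, SubgroupClass.coe_pow, a, b]
        rw [conj_pow, Subgroup.mem_center_iff.1 (hWc hx) g, mul_inv_cancel_right])
      have h1 := congrArg Subtype.val ((pow_eq_pow_iff (hG.to_subgroup K) (hconj x g)).1 he)
      simp only [pow_one, SubgroupClass.coe_pow, Subgroup.coe_mul, Subgroup.coe_inv,
        Subgroup.coe_one, a, b] at h1
      change ⁅x, g⁆ ^ p = 1
      have h2 : ⁅x, g⁆ = x * ((g * x * g⁻¹)⁻¹ * x) * x⁻¹ := by simp [commutatorElement_def, mul_assoc]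
      rw [h2, conj_pow, h1]
      simp
    -- the quotient satisfies the hypotheses
    have hWne : W ≠ ⊥ := by
      intro h
      have hne : Nontrivial G := by
        by_contra hs
        rw [not_nontrivial_iff_subsingleton] at hs
        exact hab (eq_bot_iff.2 fun x _ => Subgroup.mem_bot.2 (Subsingleton.elim _ _))
      obtain ⟨k, hk⟩ := IsPGroup.iff_card.1 hG
      have hk0 : k ≠ 0 := by
        rintro rfl
        have := Finite.one_lt_card (α := G)
        rw [hk, pow_zero] at this
        omega
      obtain ⟨x, hx⟩ := exists_prime_orderOf_dvd_card' p (hk ▸ dvd_pow_self p hk0)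
      have : x ∈ W := show x ^ p = 1 from hx ▸ pow_orderOf_eq_one x
      rw [h, Subgroup.mem_bot] at this
      rw [this, orderOf_one] at hx
      exact hp.out.one_lt.ne hx
    have hQreg : IsRegularPGroup p (G ⧸ W) ∧ Nat.card {q : G ⧸ W // q ^ p = 1} ≤ p ^ 2 := by
      have hout : ∀ q : G ⧸ W, q ^ p = 1 → q.out ^ p ∈ W := fun q hq => by
        rw [← QuotientGroup.eq_one_iff, QuotientGroup.mk_pow, QuotientGroup.out_eq', hq]
      have hcount : Nat.card {q : G ⧸ W // q ^ p = 1} ≤ p ^ 2 := by
        refine le_trans ?_ hcard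
        refine Nat.card_le_card_of_injective (β := {x : G // x ^ p = 1})
          (fun q => ⟨q.1.out ^ p, hout q.1 q.2⟩) ?_
        intro q r hqr
        have heq : q.1.out ^ p = r.1.out ^ p := congrArg Subtype.val hqr
        set K := Subgroup.closure ({q.1.out, r.1.out} : Set G)
        have hz : ⁅q.1.out, r.1.out⁆ ∈ W := hroot _ _ (hout q.1 q.2)
        have hK : ⁅K, K⁆ ≤ Subgroup.zpowers ⁅q.1.out, r.1.out⁆ := by
          have : (Subgroup.zpowers ⁅q.1.out, r.1.out⁆).Normal := ⟨fun y hy g => by
            rw [Subgroup.mem_center_iff.1 ((Subgroup.zpowers_le.2 (hWc hz)) hy) g, mul_inv_cancel_right]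
            exact hy⟩
          refine commutator_closure_pair_le ?_ ?_ (Subgroup.mem_zpowers _) <;>
            (rw [Subgroup.normalizer_eq_top]; trivial)
        have hcy : IsCyclic ↥(commutator K) := by
          have : IsCyclic ↥((commutator K).map K.subtype) := by
            rw [Subgroup.map_subtype_commutator]; exact Subgroup.isCyclic_of_le hK
          exact isCyclic_of_surjective _
            ((commutator K).equivMapOfInjective K.subtype K.subtype_injective).symm.surjective
        have hR := (isRegularPGroup_iff.1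
          (isRegularPGroup_of_commutator_cyclic (hG.to_subgroup K) hp2 hcy)).2 1
        let a : K := ⟨q.1.out, Subgroup.subset_closure (by simp)⟩
        let b : K := ⟨r.1.out, Subgroup.subset_closure (by simp)⟩
        have h1 := congrArg Subtype.val ((pow_eq_pow_iff (hG.to_subgroup K) hR (a := a) (b := b)).1
          (Subtype.ext (by simpa [a, b] using heq)))
        simp only [pow_one, SubgroupClass.coe_pow, Subgroup.coe_mul, Subgroup.coe_inv,
          Subgroup.coe_one, a, b] at h1
        apply Subtype.ext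
        rw [← QuotientGroup.out_eq' q.1, ← QuotientGroup.out_eq' r.1, QuotientGroup.eq]
        exact h1
      refine ⟨ih _ ?_ (G ⧸ W) rfl (hG.to_quotient W) ?_ hcount, hcount⟩
      · have h1 : 1 < Nat.card W := (Subgroup.one_lt_card_iff_ne_bot W).2 hWne
        rw [← Subgroup.index_eq_card, ← W.card_mul_index]
        exact lt_mul_left (Nat.pos_of_ne_zero Subgroup.index_ne_zero_of_finite) h1
      · intro q hq
        obtain ⟨x, rfl⟩ := QuotientGroup.mk'_surjective W q
        rw [Subgroup.mem_center_iff]
        intro r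
        obtain ⟨g, rfl⟩ := QuotientGroup.mk'_surjective W r
        rw [eq_comm, ← commutatorElement_eq_one_iff_mul_comm, ← map_commutatorElement,
          QuotientGroup.mk'_apply, QuotientGroup.eq_one_iff]
        refine hroot x g ?_
        rw [← QuotientGroup.eq_one_iff]
        exact hq
    have hQR := (isRegularPGroup_iff.1 hQreg.1).2 1
    obtain ⟨hQU, hQc, qa, qb, hqab⟩ := commutator_cyclic_of_index_le (hG.to_quotient W) hQR
      ((index_powerClosure_eq (hG.to_quotient W) hQR).le.trans hQreg.2)
    obtain ⟨a, rfl⟩ := QuotientGroup.mk'_surjective W qa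
    obtain ⟨b, rfl⟩ := QuotientGroup.mk'_surjective W qb
    obtain ⟨qc, hqc⟩ := (commutator (G ⧸ W)).isCyclic_iff_exists_zpowers_eq_top.1 hQc
    have hgen : Subgroup.closure ({a, b} : Set G) ⊔ Subgroup.center G = ⊤ := by
      refine eq_top_iff.2 fun x _ => ?_
      have : QuotientGroup.mk' W x ∈ (Subgroup.closure ({a, b} : Set G)).map (QuotientGroup.mk' W) := by
        rw [MonoidHom.map_closure, Set.image_pair, hqab]; trivial
      have hx := Subgroup.mem_comap.2 this
      rw [Subgroup.comap_map_eq, QuotientGroup.ker_mk'] at hx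
      exact sup_le_sup_left hWc _ hx
    have hcy : IsCyclic ↥(commutator G) := by
      refine commutator_isCyclic_of hG hgen ?_
      intro y hy x
      set U := powerClosure p 1 (commutator G)
      have hUn : U.Normal := powerClosure_normal _ _
      let π := QuotientGroup.mk' U
      suffices h : π y ∈ Subgroup.center (G ⧸ U) by
        rw [← QuotientGroup.ker_mk' U, MonoidHom.mem_ker, map_commutatorElement]
        exact commutatorElement_eq_one_iff_mul_comm.2 (Subgroup.mem_center_iff.1 h (π x)).symm
      have hWU : ∀ w ∈ W, π w ∈ Subgroup.center (G ⧸ U) := fun w hw => by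
        rw [Subgroup.mem_center_iff]
        intro r
        obtain ⟨g, rfl⟩ := QuotientGroup.mk'_surjective U r
        rw [← map_mul, ← map_mul, Subgroup.mem_center_iff.1 (hWc hw) g]
      obtain ⟨c0, hc0⟩ := QuotientGroup.mk'_surjective W qc
      obtain ⟨qv, -, hqv⟩ := exists_eq_pow_of_mem_powerClosure (hG.to_quotient W) hQR
        (hQU (hqc ▸ Subgroup.mem_zpowers qc))
      obtain ⟨v, rfl⟩ := QuotientGroup.mk'_surjective W qv
      rw [pow_one] at hqv
      have hvp : π (v ^ p) ∈ Subgroup.center (G ⧸ U) := by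
        rw [Subgroup.mem_center_iff]
        intro r
        obtain ⟨g, rfl⟩ := QuotientGroup.mk'_surjective U r
        rw [eq_comm, ← commutatorElement_eq_one_iff_mul_comm, ← map_commutatorElement, ← MonoidHom.mem_ker,
          QuotientGroup.ker_mk']
        set K := Subgroup.closure ({v, g * v * g⁻¹} : Set G)
        have hv : v ∈ K := Subgroup.subset_closure (by simp)
        have hv' : g * v⁻¹ * g⁻¹ ∈ K := by
          have : g * v * g⁻¹ ∈ K := Subgroup.subset_closure (by simp)
          simpa [mul_assoc] using inv_mem this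
        obtain ⟨c, hc, hmul⟩ := (hconj v g).mul_pow_mem (X := (⊤ : Subgroup K)) (a := ⟨v, hv⟩)
          (b := ⟨_, hv'⟩) trivial trivial
        have e := congrArg (Subtype.val) hmul
        simp only [Subgroup.coe_mul, SubgroupClass.coe_pow, conj_pow] at e
        have hc' : (c : G) ∈ U := by
          have := Subgroup.mem_map_of_mem K.subtype hc
          rw [map_powerClosure] at this
          refine powerClosure_mono ?_ this
          rw [← commutator_def, Subgroup.map_subtype_commutator]
          exact Subgroup.commutator_mono le_top le_top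
        have e2 : ⁅v ^ p, g⁆ = (v * (g * v⁻¹ * g⁻¹)) ^ p * (c : G)⁻¹ := by
          rw [e]; simp [commutatorElement_def, mul_assoc, inv_pow]
        rw [e2]
        refine mul_mem (pow_mem_powerClosure_one ?_) (inv_mem hc')
        rw [show v * (g * v⁻¹ * g⁻¹) = ⁅v, g⁆ by simp [commutatorElement_def, mul_assoc]]
        exact Subgroup.commutator_mem_commutator (Subgroup.mem_top v) (Subgroup.mem_top g)
      have hym : QuotientGroup.mk' W y ∈ Subgroup.zpowers qc := by
        rw [hqc, commutator_def, ← Subgroup.map_top_of_surjective (QuotientGroup.mk' W)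
          (QuotientGroup.mk'_surjective W), ← Subgroup.map_commutator]
        exact Subgroup.mem_map_of_mem _ hy
      obtain ⟨i, hi⟩ := Subgroup.mem_zpowers_iff.1 hym
      rw [hqv, ← map_pow, ← map_zpow] at hi
      have hw : ((v ^ p) ^ i)⁻¹ * y ∈ W := QuotientGroup.eq.1 hi
      have := mul_mem (zpow_mem hvp i) (hWU _ hw)
      rwa [← map_zpow, ← map_mul, mul_inv_cancel_left] at this
    exact isRegularPGroup_of_commutator_cyclic hG hp2 hcy

end Cfsg.Agent.Lib.PGroupTheory
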