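import Cfsg.Agent.Lib.PGroupTheory.RankTwo

/-!
# `3`-groups of rank at most two

With `T = C(W)` (regular, metacyclic, index `3`) and `T₁ = ⁅T, G⁆ ℧₁(T)`: if `⁅T₁, G⁆ ≤ ℧₁(T₁)` the group is
metacyclic or in one of the two families; otherwise it has maximal class.
-/

set_option autoImplicit false

namespace Cfsg.Agent.Lib.PGroupTheory.RankTwo

open scoped commutatorElement
open Cfsg Cfsg.Agent.Lib Cfsg.Agent.Lib.PGroupTheory

local notation "℧" => powerClosure 3 1

section Generic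

variable {G : Type*} [Group G]

/-- Centrality modulo a normal subgroup can be checked on generators. -/
theorem commutator_closure_top_le {S : Set G} {N : Subgroup G} [N.Normal]
    (h : ∀ s ∈ S, ∀ g : G, ⁅s, g⁆ ∈ N) : ⁅Subgroup.closure S, (⊤ : Subgroup G)⁆ ≤ N := by
  have hc : Subgroup.closure S ≤ (Subgroup.center (G ⧸ N)).comap (QuotientGroup.mk' N) := by
    refine (Subgroup.closure_le _).2 fun s hs => ?_
    rw [SetLike.mem_coe, Subgroup.mem_comap, Subgroup.mem_center_iff]
    intro q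
    obtain ⟨g, rfl⟩ := QuotientGroup.mk'_surjective N q
    rw [eq_comm, ← commutatorElement_eq_one_iff_mul_comm, ← map_commutatorElement, ← MonoidHom.mem_ker,
      QuotientGroup.ker_mk']
    exact h s hs g
  rw [Subgroup.commutator_le]
  intro y hy g _
  rw [← QuotientGroup.ker_mk' N, MonoidHom.mem_ker, map_commutatorElement]
  exact commutatorElement_eq_one_iff_mul_comm.2 (Subgroup.mem_center_iff.1 (hc hy) _).symm

theorem map_center_of_commutator_le {X N : Subgroup G} [N.Normal]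
    (h : ⁅X, (⊤ : Subgroup G)⁆ ≤ N) {x : G} (hx : x ∈ X) (q : G ⧸ N) :
    QuotientGroup.mk' N x * q = q * QuotientGroup.mk' N x := by
  obtain ⟨g, rfl⟩ := QuotientGroup.mk'_surjective N q
  rw [← commutatorElement_eq_one_iff_mul_comm, ← map_commutatorElement, ← MonoidHom.mem_ker,
    QuotientGroup.ker_mk']
  exact h (Subgroup.commutator_mem_commutator hx (Subgroup.mem_top g))

variable [Finite G]

/-- In a nilpotent group `X ≤ ⁅X, G⁆ N` forces `X ≤ N`. -/
theorem le_of_le_commutator_sup [Group.IsNilpotent G] {X N : Subgroup G} [N.Normal]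
    (h : X ≤ ⁅X, (⊤ : Subgroup G)⁆ ⊔ N) : X ≤ N := by
  obtain ⟨m, hm⟩ := Subgroup.nilpotent_iff_lowerCentralSeries.1 (inferInstance : Group.IsNilpotent G)
  have key : ∀ i, X ≤ (⊤ : Subgroup G).lowerCentralSeries i ⊔ N := by
    intro i
    induction i with
    | zero => exact le_top.trans le_sup_left
    | succ i ih =>
      refine h.trans (sup_le ?_ le_sup_right)
      rw [Subgroup.commutator_le]
      intro x hx g _
      obtain ⟨a, ha, b, hb, rfl⟩ := Subgroup.mem_sup_of_normal_right.1 (ih hx)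
      rw [commutatorElement_mul_left_eq_conj_mul]
      refine mul_mem (Subgroup.mem_sup_right ?_) (Subgroup.mem_sup_left
        (Subgroup.commutator_mem_commutator ha (Subgroup.mem_top g)))
      refine (inferInstance : N.Normal).conj_mem _ ?_ a
      rw [show ⁅b, g⁆ = b * (g * b⁻¹ * g⁻¹) by simp [commutatorElement_def, mul_assoc]]
      exact mul_mem hb ((inferInstance : N.Normal).conj_mem _ (inv_mem hb) g)
  simpa [hm] using key m

theorem card_mul_le {p : ℕ} [Fact p.Prime] (hG : IsPGroup p G) {A B : Subgroup G} (hAB : A < B) :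
    p * Nat.card A ≤ Nat.card B := by
  have h1 := prime_mul_index_le hG hAB
  have hA := A.card_mul_index
  rw [← B.card_mul_index] at hA
  have : p * Nat.card A * B.index ≤ Nat.card B * B.index := by
    rw [mul_comm p, mul_assoc]
    exact (Nat.mul_le_mul_left _ h1).trans hA.le
  exact Nat.le_of_mul_le_mul_right this (Nat.pos_of_ne_zero Subgroup.index_ne_zero_of_finite)

theorem powerClosure_lt {p : ℕ} [Fact p.Prime] (hG : IsPGroup p G) {X : Subgroup G} (h : X ≠ ⊥) :
    powerClosure p 1 X < X :=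
  lt_of_le_of_ne (powerClosure_le X) fun he =>
    h (eq_of_le_sup_powerClosure hG bot_le (by rw [he]; exact le_sup_right)).symm

end Generic

variable {G : Type*} [Group G] [Finite G] [Fact (Nat.Prime 3)] {T : Subgroup G}

theorem exists_eq_pow (hG : IsPGroup 3 G) (hTR : RegularAt 3 1 T) {X : Subgroup G} (hX : X ≤ T) {z : G}
    (hz : z ∈ ℧ X) : ∃ x ∈ X, z = x ^ 3 := by
  have hm : (℧ (X.subgroupOf T)).map T.subtype = ℧ X := by
    rw [map_powerClosure, Subgroup.subgroupOf_map_subtype, inf_eq_left.2 hX]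
  rw [← hm] at hz
  obtain ⟨u, hu, rfl⟩ := hz
  obtain ⟨x, hx, rfl⟩ := exists_eq_pow_of_mem_powerClosure (hG.to_subgroup T) hTR hu
  exact ⟨x, hx, by simp⟩

omit [Finite G] in
theorem mul_pow_three (hTR : RegularAt 3 1 T) {a b : G} (ha : a ∈ T) (hb : b ∈ T) :
    ∃ c ∈ ℧ ⁅Subgroup.closure ({a, b} : Set G), Subgroup.closure ({a, b} : Set G)⁆,
      (a * b) ^ 3 = a ^ 3 * b ^ 3 * c := by
  obtain ⟨c, hc, h⟩ := hTR ⟨a, ha⟩ ⟨b, hb⟩
  refine ⟨c, ?_, by simpa using congrArg Subtype.val h⟩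
  have := Subgroup.mem_map_of_mem T.subtype hc
  rwa [map_powerClosure, Subgroup.map_commutator, MonoidHom.map_closure, Set.image_pair] at this

omit [Finite G] in
/-- The commutator with a cube. -/
theorem comm_cube (hTR : RegularAt 3 1 T) [hT : T.Normal] {g y : G} (hy : y ∈ T) {N : Subgroup G}
    [hN : N.Normal] (h : ⁅⁅g, y⁆, y⁆ ∈ N) : ∃ c ∈ ℧ N, ⁅g, y ^ 3⁆ = ⁅g, y⁆ ^ 3 * c := by
  have ha : g * y * g⁻¹ ∈ T := hT.conj_mem y hy g
  obtain ⟨c, hc, hpow⟩ := mul_pow_three hTR ha (inv_mem hy)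
  refine ⟨c⁻¹, inv_mem (powerClosure_mono ?_ hc), ?_⟩
  · refine commutator_closure_pair_le (by rw [Subgroup.normalizer_eq_top]; trivial)
      (by rw [Subgroup.normalizer_eq_top]; trivial) ?_
    have h2 := hN.conj_mem _ (inv_mem h) y⁻¹
    convert h2 using 1
    simp [commutatorElement_def, mul_assoc]
  · rw [show ⁅g, y⁆ = g * y * g⁻¹ * y⁻¹ from commutatorElement_def g y, hpow, mul_inv_cancel_right,
      commutatorElement_def, conj_pow, inv_pow]

omit [Finite G] in
/-- `⁅℧(X), G⁆ ≤ ℧⁅X, G⁆`. -/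
theorem commutator_powerClosure_top_le (hTR : RegularAt 3 1 T) [T.Normal] {X : Subgroup G} [X.Normal]
    (hX : X ≤ T) : ⁅℧ X, (⊤ : Subgroup G)⁆ ≤ ℧ ⁅X, (⊤ : Subgroup G)⁆ := by
  have := powerClosure_normal (p := 3) ⁅X, (⊤ : Subgroup G)⁆ 1
  refine commutator_closure_top_le ?_
  rintro _ ⟨y, hy, rfl⟩ g
  have hgy : ⁅g, y⁆ ∈ ⁅X, (⊤ : Subgroup G)⁆ := by
    rw [← commutatorElement_inv]
    exact inv_mem (Subgroup.commutator_mem_commutator hy (Subgroup.mem_top g))
  obtain ⟨c, hc, h⟩ := comm_cube hTR (g := g) (hX hy) (N := ⁅X, (⊤ : Subgroup G)⁆) (by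
    rw [← commutatorElement_inv]
    exact inv_mem (Subgroup.commutator_mem_commutator hy (Subgroup.mem_top _)))
  rw [pow_one, ← commutatorElement_inv, h]
  exact inv_mem (mul_mem (pow_mem_powerClosure_one hgy) hc)

/-- Cubes in a normal subgroup are inherited by the generated subgroup. -/
theorem pow_mem_of_closure (hG : IsPGroup 3 G) (hTR : RegularAt 3 1 T) {S : Set G} (hS : S ⊆ T)
    {K : Subgroup G} [K.Normal] (h : ∀ s ∈ S, s ^ 3 ∈ K) {y : G} (hy : y ∈ Subgroup.closure S) :
    y ^ 3 ∈ K := by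
  obtain ⟨Ω, -, hΩ⟩ := exists_subgroup_of_regularAt ((hG.to_subgroup T).to_quotient (K.subgroupOf T))
    (hTR.quotient (K.subgroupOf T))
  have hle : Subgroup.closure S ≤ (Ω.comap (QuotientGroup.mk' _)).map T.subtype := by
    refine (Subgroup.closure_le _).2 fun s hs => ⟨⟨s, hS hs⟩, ?_, rfl⟩
    rw [SetLike.mem_coe, Subgroup.mem_comap, hΩ, ← map_pow, QuotientGroup.mk'_apply,
      QuotientGroup.eq_one_iff, Subgroup.mem_subgroupOf]
    simpa using h s hs
  obtain ⟨t, ht, rfl⟩ := hle hy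
  rw [SetLike.mem_coe, Subgroup.mem_comap, hΩ, ← map_pow, QuotientGroup.mk'_apply,
    QuotientGroup.eq_one_iff, Subgroup.mem_subgroupOf] at ht
  simpa using ht

theorem card_mul_omega (hG : IsPGroup 3 G) (hTR : RegularAt 3 1 T) {X : Subgroup G} (hX : X ≤ T) :
    Nat.card ↥(℧ X) * Nat.card {x : X // x ^ 3 = 1} = Nat.card X := by
  have hR' : RegularAt 3 1 X := by
    intro a b
    obtain ⟨c, hc, h⟩ := mul_pow_three hTR (hX a.2) (hX b.2)
    have himg : (powerClosure 3 1 ⁅Subgroup.closure ({a, b} : Set X), Subgroup.closure ({a, b} : Set X)⁆).map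
        X.subtype = ℧ ⁅Subgroup.closure ({(a : G), (b : G)} : Set G),
          Subgroup.closure ({(a : G), (b : G)} : Set G)⁆ := by
      rw [map_powerClosure, Subgroup.map_commutator, MonoidHom.map_closure, Set.image_pair]
      rfl
    rw [← himg] at hc
    obtain ⟨c', hc', rfl⟩ := hc
    exact ⟨c', hc', Subtype.ext (by simpa using h)⟩
  have := card_powerClosure_mul (hG.to_subgroup X) hR'
  rwa [Nat.card_congr ((℧ (⊤ : Subgroup X)).equivMapOfInjective X.subtype X.subtype_injective).toEquiv,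
    powerClosure_top_map] at this

theorem card_powerClosure_le (hG : IsPGroup 3 G) (hTR : RegularAt 3 1 T) {X Y : Subgroup G}
    (hX : X ≤ T) (hYX : Y ≤ X) {k : ℕ} (h : Nat.card X ≤ k * Nat.card Y) :
    Nat.card ↥(℧ X) ≤ k * Nat.card ↥(℧ Y) := by
  have h1 := card_mul_omega hG hTR hX
  have h2 := card_mul_omega hG hTR (hYX.trans hX)
  have hle : Nat.card {y : Y // y ^ 3 = 1} ≤ Nat.card {x : X // x ^ 3 = 1} :=
    Nat.card_le_card_of_injective
      (fun y => ⟨⟨y.1.1, hYX y.1.2⟩, Subtype.ext (by simpa using congrArg Subtype.val y.2)⟩)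
      fun a b e => Subtype.ext (Subtype.ext (congrArg (fun z => (z.1 : G)) e))
  have hpos : 0 < Nat.card {x : X // x ^ 3 = 1} := by
    have : Nonempty {x : X // x ^ 3 = 1} := ⟨⟨1, one_pow _⟩⟩
    exact Nat.card_pos
  refine Nat.le_of_mul_le_mul_right (h1.le.trans (h.trans ?_)) hpos
  rw [← h2, mul_assoc]
  exact Nat.mul_le_mul_left k (Nat.mul_le_mul_left _ hle)

/-- Iterated power subgroups of `T`. -/
def D (T : Subgroup G) : ℕ → Subgroup G
  | 0 => T
  | k + 1 => ℧ (D T k)

omit [Finite G] [Fact (Nat.Prime 3)] in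
theorem D_le : ∀ k, D T k ≤ T
  | 0 => le_rfl
  | k + 1 => (powerClosure_le _).trans (D_le k)

omit [Finite G] [Fact (Nat.Prime 3)] in
theorem D_normal [T.Normal] : ∀ k, (D T k).Normal
  | 0 => inferInstanceAs T.Normal
  | k + 1 => by have := D_normal k; exact powerClosure_normal _ _

omit [Finite G] [Fact (Nat.Prime 3)] in
theorem D_succ_le (k : ℕ) : D T (k + 1) ≤ D T k := powerClosure_le _

theorem exists_D_eq_bot (hG : IsPGroup 3 G) : ∃ m, D T m = ⊥ := by
  have key : ∀ m, D T m = ⊥ ∨ Nat.card ↥(D T m) + m ≤ Nat.card T := by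
    intro m
    induction m with
    | zero => exact Or.inr le_rfl
    | succ m ih =>
      rcases ih with ih | ih
      · exact Or.inl (eq_bot_iff.2 ((D_succ_le m).trans ih.le))
      by_cases hb : D T m = ⊥
      · exact Or.inl (eq_bot_iff.2 ((D_succ_le m).trans hb.le))
      refine Or.inr ?_
      have h := Set.ncard_lt_ncard (SetLike.coe_ssubset_coe.2 (powerClosure_lt hG hb)) (Set.toFinite _)
      rw [← Nat.card_coe_set_eq, ← Nat.card_coe_set_eq] at h
      have h2 : Nat.card ↥(D T (m + 1)) = Nat.card ↥(℧ (D T m)) := rfl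
      have h3 : Nat.card ↥(℧ (D T m)) < Nat.card ↥(D T m) := h
      omega
  exact ⟨Nat.card T + 1, (key _).resolve_right (by omega)⟩

/-- The data of the construction. -/
structure Setup (G : Type*) [Group G] (W T : Subgroup G) : Prop where
  isPGroup : IsPGroup 3 G
  rank : PRankLE 3 2 G
  elem : IsElementaryAbelian 3 W
  card_W : Nat.card W = 3 ^ 2
  eq_T : T = Subgroup.centralizer (W : Set G)
  index_T : T.index = 3
  regular : RegularAt 3 1 T
  omega : Nat.card {t : T // t ^ 3 = 1} = 3 ^ 2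

variable {W : Subgroup G}

omit [Fact (Nat.Prime 3)] in
theorem Setup.W_le (S : Setup G W T) : W ≤ T := by
  rw [S.eq_T]
  exact fun v hv => Subgroup.mem_centralizer_iff.2 fun w hw => PGroups.elemAb_comm S.elem hw hv

omit [Fact (Nat.Prime 3)] in
theorem Setup.mem_W (S : Setup G W T) {t : G} (ht : t ∈ T) (h : t ^ 3 = 1) : t ∈ W :=
  mem_of_commute S.rank S.elem S.card_W h fun w hw =>
    (Subgroup.mem_centralizer_iff.1 (S.eq_T ▸ ht) w hw).symm

/-- `|T : ℧(T)| = 9`. -/
theorem Setup.card_T (S : Setup G W T) : Nat.card T = 9 * Nat.card ↥(℧ T) := by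
  rw [← card_mul_omega S.isPGroup S.regular le_rfl, S.omega]
  ring

theorem Setup.commutator_T_le (S : Setup G W T) : ⁅T, T⁆ ≤ ℧ T := by
  have h := (commutator_cyclic_of_index_le (S.isPGroup.to_subgroup T) S.regular
    (by rw [index_powerClosure_eq (S.isPGroup.to_subgroup T) S.regular, S.omega])).1
  have h' := Subgroup.map_mono (f := T.subtype) h
  rwa [Subgroup.map_subtype_commutator, powerClosure_top_map] at h'

theorem Setup.commutator_D_le (S : Setup G W T) [T.Normal] (k : ℕ) : ⁅D T k, T⁆ ≤ D T (k + 1) := by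
  induction k with
  | zero => exact S.commutator_T_le
  | succ k ih =>
    rw [Subgroup.commutator_comm, Subgroup.commutator_le]
    intro g hg y hy
    obtain ⟨x, hx, rfl⟩ := exists_eq_pow S.isPGroup S.regular (D_le k) hy
    have := D_normal (T := T) (k + 1)
    have hgx : ⁅g, x⁆ ∈ D T (k + 1) := by
      rw [← commutatorElement_inv]
      exact inv_mem (ih (Subgroup.commutator_mem_commutator hx hg))
    obtain ⟨c, hc, h⟩ := comm_cube S.regular (g := g) (D_le k hx) (N := D T (k + 1)) (by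
      rw [show ⁅⁅g, x⁆, x⁆ = ⁅g, x⁆ * (x * ⁅g, x⁆⁻¹ * x⁻¹) by simp [commutatorElement_def, mul_assoc]]
      exact mul_mem hgx (this.conj_mem _ (inv_mem hgx) x))
    rw [h]
    exact mul_mem (pow_mem_powerClosure_one hgx) hc

omit [Finite G] [Fact (Nat.Prime 3)] in
theorem conj_identity (x t : G) (hx : x ^ 3 = 1) :
    x * (x * ⁅x, t⁆ * x⁻¹) * x⁻¹ * (x * ⁅x, t⁆ * x⁻¹) * ⁅x, t⁆ = 1 := by
  have h : x * (x * ⁅x, t⁆ * x⁻¹) * x⁻¹ * (x * ⁅x, t⁆ * x⁻¹) * ⁅x, t⁆ = ⁅x ^ 3, t⁆ := by
    rw [pow_succ, pow_two]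
    simp [commutatorElement_def, mul_assoc]
  rw [h, hx, commutatorElement_one_left]

omit [Finite G] [Fact (Nat.Prime 3)] in
/-- `σ²(s) σ(s) s = 1`, `σ(s) = d s`, with `d` commuting with `x` and `s` modulo `K`. -/
theorem cube_eq {Q : Type*} [Group Q] {x s d : Q} (hd : x * s * x⁻¹ = d * s) (hdx : x * d * x⁻¹ = d)
    (hds : d * s = s * d) (hd3 : d ^ 3 = 1) (h : x * (x * s * x⁻¹) * x⁻¹ * (x * s * x⁻¹) * s = 1) :
    s ^ 3 = 1 := by
  rw [hd, show x * (d * s) * x⁻¹ = (x * d * x⁻¹) * (x * s * x⁻¹) by group, hdx, hd] at h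
  have hc : Commute d s := hds
  have : d ^ 3 * s ^ 3 = 1 := by
    rw [← h]
    simp only [pow_succ, pow_zero, one_mul, mul_assoc]
    rw [← mul_assoc s d, ← hc.eq, mul_assoc]
  rwa [hd3, one_mul] at this

/-- An element of order `3` outside `T` acts on `T` with values in `W`. -/
theorem Setup.comm_mem (S : Setup G W T) [hTn : T.Normal] {T1 : Subgroup G} [T1.Normal] (hT1 : T1 ≤ T)
    (hTT1 : ⁅T, (⊤ : Subgroup G)⁆ ≤ T1) (hstar : ⁅T1, (⊤ : Subgroup G)⁆ ≤ ℧ T1) {x : G}
    (hx : x ^ 3 = 1) {t : G} (ht : t ∈ T) : ⁅x, t⁆ ∈ W := by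
  have hG := S.isPGroup
  have hcomT : ∀ t ∈ T, ⁅x, t⁆ ∈ T := fun t ht =>
    mul_mem (hTn.conj_mem t ht x) (inv_mem ht)
  suffices hk : ∀ k, 2 ≤ k → ∀ t ∈ T, ⁅x, t⁆ ^ 3 ∈ D T k by
    obtain ⟨m, hm⟩ := exists_D_eq_bot (T := T) hG
    refine S.mem_W (hcomT t ht) (Subgroup.mem_bot.1 ?_)
    have : D T (m + 2) = ⊥ :=
      eq_bot_iff.2 ((D_succ_le _).trans ((D_succ_le _).trans hm.le))
    exact this ▸ hk (m + 2) (by omega) t ht
  intro k hk
  induction k, hk using Nat.le_induction with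
  | base =>
    intro t ht
    have hs : ⁅x, t⁆ ∈ T1 := by
      rw [← commutatorElement_inv]
      exact inv_mem (hTT1 (Subgroup.commutator_mem_commutator ht (Subgroup.mem_top x)))
    have := powerClosure_normal (p := 3) T1 1
    set K := ℧ (℧ T1)
    have : K.Normal := powerClosure_normal _ _
    let π := QuotientGroup.mk' K
    set d := ⁅x, ⁅x, t⁆⁆
    have hd : d ∈ ℧ T1 := by
      change ⁅x, ⁅x, t⁆⁆ ∈ _
      rw [← commutatorElement_inv]
      exact inv_mem (hstar (Subgroup.commutator_mem_commutator hs (Subgroup.mem_top x)))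
    have hcen : ⁅℧ T1, (⊤ : Subgroup G)⁆ ≤ K :=
      (commutator_powerClosure_top_le S.regular hT1).trans (powerClosure_mono hstar)
    have hdc := map_center_of_commutator_le hcen hd
    have h3 : (π ⁅x, t⁆) ^ 3 = 1 := by
      refine cube_eq (x := π x) (d := π d) ?_ ?_ (hdc _) ?_ ?_
      · simp only [← map_inv, ← map_mul, d]
        congr 1
        simp [commutatorElement_def, mul_assoc]
      · rw [← hdc, mul_inv_cancel_right]
      · rw [← map_pow, ← MonoidHom.mem_ker, QuotientGroup.ker_mk']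
        exact pow_mem_powerClosure_one hd
      · simp only [← map_inv, ← map_mul, conj_identity x t hx, map_one]
    rw [← map_pow, ← MonoidHom.mem_ker, QuotientGroup.ker_mk'] at h3
    exact powerClosure_mono (powerClosure_mono hT1) h3
  | succ k hk ih =>
    obtain ⟨k, rfl⟩ : ∃ j, k = j + 2 := ⟨k - 2, by omega⟩
    have := D_normal (T := T) (k + 2)
    have := D_normal (T := T) (k + 1)
    -- decomposition of `⁅x, t⁆`
    have hdec : ∀ t ∈ T, ∃ v ∈ D T (k + 1), ∃ w ∈ W, ⁅x, t⁆ = w * v := by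
      intro t ht
      obtain ⟨v, hv, hvp⟩ := exists_eq_pow hG S.regular (D_le _) (ih t ht)
      refine ⟨v, hv, ⁅x, t⁆ * v⁻¹, S.mem_W (mul_mem (hcomT t ht) (inv_mem (D_le _ hv))) ?_, by group⟩
      have hpe : ((⟨v, D_le _ hv⟩ : T)) ^ 3 ^ 1 = (⟨⁅x, t⁆, hcomT t ht⟩ : T) ^ 3 ^ 1 :=
        Subtype.ext (by simpa using hvp.symm)
      have h' := congrArg Subtype.val ((pow_eq_pow_iff (hG.to_subgroup T) S.regular).1 hpe)
      simp only [pow_one, SubgroupClass.coe_pow, Subgroup.coe_mul, Subgroup.coe_inv, Subgroup.coe_one] at h'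
      rw [show ⁅x, t⁆ * v⁻¹ = v * (v⁻¹ * ⁅x, t⁆) * v⁻¹ by group, conj_pow, h']
      simp
    have hWc : ∀ w ∈ W, ∀ u ∈ T, u * w = w * u := fun w hw u hu =>
      (Subgroup.mem_centralizer_iff.1 (S.eq_T ▸ hu) w hw).symm
    have hcube : ∀ y ∈ T, ∃ c ∈ D T (k + 3), ⁅x, y ^ 3⁆ = ⁅x, y⁆ ^ 3 * c := by
      intro y hy
      obtain ⟨v, hv, w, hw, hs⟩ := hdec y hy
      refine comm_cube S.regular (g := x) hy (N := D T (k + 2)) ?_
      rw [hs, commutatorElement_mul_left_eq_conj_mul,
        commutatorElement_eq_one_iff_mul_comm.2 (hWc w hw y hy).symm, mul_one]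
      exact (inferInstance : (D T (k + 2)).Normal).conj_mem _
        (S.commutator_D_le (k + 1) (Subgroup.commutator_mem_commutator hv hy)) w
    have hA : ∀ y ∈ D T 1, ⁅x, y⁆ ∈ D T (k + 2) := by
      intro y hy
      obtain ⟨u, hu, rfl⟩ := exists_eq_pow hG S.regular (D_le 0) hy
      obtain ⟨c, hc, h⟩ := hcube u hu
      rw [h]
      exact mul_mem (ih u hu) (D_succ_le _ hc)
    have hD1 : ∀ j, D T (j + 1) ≤ D T 1 := fun j => by
      induction j with
      | zero => exact le_rfl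
      | succ j ihj => exact (D_succ_le _).trans ihj
    intro t ht
    obtain ⟨v, hv, w, hw, hs⟩ := hdec t ht
    obtain ⟨ζ, w0, hζW, hζc, hζo, hw0, hw0n, hgen, hcomm⟩ :=
      haveI : W.Normal := by
        refine ⟨fun y hy g => S.mem_W (hTn.conj_mem y (S.W_le hy) g) ?_⟩
        rw [conj_pow, PGroups.elemAb_pow S.elem hy]; simp
      exists_frame hG S.elem S.card_W
    have hxw : ⁅x, w⁆ ∈ Subgroup.center G ∧ ⁅x, w⁆ ∈ W := by
      obtain ⟨i, j, rfl⟩ := hgen w hw
      have h0 : ⁅x, w0 ^ i * ζ ^ j⁆ = ⁅x, w0⁆ ^ i := by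
        have hz : ⁅x, ζ ^ j⁆ = 1 := commutatorElement_eq_one_iff_mul_comm.2
          (Subgroup.mem_center_iff.1 (zpow_mem hζc j) x)
        rw [commutatorElement_mul_right_eq_mul_conj, hz]
        have hcen : ⁅x, w0⁆ ∈ Subgroup.center G := Subgroup.zpowers_le.2 hζc (hcomm x)
        have hstep : ∀ i : ℤ, x * w0 ^ i * x⁻¹ = ⁅x, w0⁆ ^ i * w0 ^ i := fun i => by
          rw [← conj_zpow, ← (show Commute ⁅x, w0⁆ w0 from
            (Subgroup.mem_center_iff.1 hcen w0).symm).mul_zpow]
          simp [commutatorElement_def, mul_assoc]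
        simp [commutatorElement_def x (w0 ^ i), hstep]
      rw [h0]
      exact ⟨zpow_mem (Subgroup.zpowers_le.2 hζc (hcomm x)) i,
        zpow_mem (Subgroup.zpowers_le.2 hζW (hcomm x)) i⟩
    set d := ⁅x, ⁅x, t⁆⁆
    obtain ⟨v', hv', hd⟩ : ∃ v' ∈ D T (k + 2), d = ⁅x, w⁆ * v' := by
      refine ⟨w * ⁅x, v⁆ * w⁻¹, (inferInstance : (D T (k + 2)).Normal).conj_mem _ (hA v (hD1 k hv)) w, ?_⟩
      simp only [d, hs, commutatorElement_mul_right_eq_mul_conj, mul_assoc]
    have := D_normal (T := T) (k + 3)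
    let π := QuotientGroup.mk' (D T (k + 3))
    have hTc : ∀ u ∈ T, π d * π u = π u * π d := by
      intro u hu
      have h1 : π v' * π u = π u * π v' := by
        rw [← commutatorElement_eq_one_iff_mul_comm, ← map_commutatorElement, ← MonoidHom.mem_ker,
          QuotientGroup.ker_mk']
        exact S.commutator_D_le _ (Subgroup.commutator_mem_commutator hv' hu)
      rw [hd, map_mul, mul_assoc, h1, ← mul_assoc, ← mul_assoc, ← map_mul π _ u, ← map_mul π u _,
        Subgroup.mem_center_iff.1 hxw.1 u]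
    have hdx : π x * π d * (π x)⁻¹ = π d := by
      have h2 : ⁅x, v'⁆ ∈ D T (k + 3) := by
        obtain ⟨u, hu, rfl⟩ := exists_eq_pow hG S.regular (D_le _) hv'
        obtain ⟨c, hc, h⟩ := hcube u (D_le _ hu)
        rw [h]
        exact mul_mem (pow_mem_powerClosure_one (hA u (hD1 k hu))) hc
      have h3 : π x * π v' * (π x)⁻¹ = π v' := by
        rw [← mul_inv_eq_one, ← map_inv, ← map_inv, ← map_mul, ← map_mul, ← map_mul,
          ← commutatorElement_def, ← MonoidHom.mem_ker, QuotientGroup.ker_mk']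
        exact h2
      rw [hd, map_mul, show π x * (π ⁅x, w⁆ * π v') * (π x)⁻¹ =
        (π x * π ⁅x, w⁆ * (π x)⁻¹) * (π x * π v' * (π x)⁻¹) by group, h3]
      congr 1
      rw [← map_mul, Subgroup.mem_center_iff.1 hxw.1 x, map_mul, mul_inv_cancel_right]
    have h3 : (π ⁅x, t⁆) ^ 3 = 1 := by
      refine cube_eq (x := π x) (d := π d) ?_ hdx (hTc _ (hcomT t ht)) ?_ ?_
      · simp only [← map_inv, ← map_mul, d]
        congr 1
        simp [commutatorElement_def, mul_assoc]
      · rw [← map_pow, ← MonoidHom.mem_ker, QuotientGroup.ker_mk', hd,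
          (show Commute ⁅x, w⁆ v' from (Subgroup.mem_center_iff.1 hxw.1 v').symm).mul_pow,
          PGroups.elemAb_pow S.elem hxw.2, one_mul]
        exact pow_mem_powerClosure_one hv'
      · simp only [← map_inv, ← map_mul, conj_identity x t hx, map_one]
    rw [← map_pow, ← MonoidHom.mem_ker, QuotientGroup.ker_mk'] at h3
    exact h3

/-- Improving a cube root inside `G \ T`. -/
theorem Setup.exists_order_three (S : Setup G W T) [T.Normal] {X : Subgroup G} [X.Normal] (hX : X ≤ T)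
    (hstar : ⁅⁅X, (⊤ : Subgroup G)⁆ ⊔ ℧ X, (⊤ : Subgroup G)⁆ ≤ ℧ (⁅X, (⊤ : Subgroup G)⁆ ⊔ ℧ X))
    {g : G} (hg : g ∉ T) (hg3 : g ^ 3 ∈ ℧ X) : ∃ x : G, x ∉ T ∧ x ^ 3 = 1 := by
  induction hn : Nat.card X using Nat.strong_induction_on generalizing X g with
  | _ m ih =>
    subst hn
    have hG := S.isPGroup
    have : Group.IsNilpotent G := hG.isNilpotent
    have := powerClosure_normal (p := 3) X 1
    set nX := ⁅X, (⊤ : Subgroup G)⁆ ⊔ ℧ X
    have hnX : nX ≤ X := by
      refine sup_le ?_ (powerClosure_le X)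
      exact Subgroup.commutator_le_left X ⊤
    have hnn : nX.Normal := Subgroup.sup_normal _ _
    by_cases hXX : nX = X
    · have h1 : X ≤ ℧ X := le_of_le_commutator_sup hXX.ge
      by_cases hb : X = ⊥
      · refine ⟨g, hg, ?_⟩
        rw [hb] at hg3
        exact Subgroup.mem_bot.1 (powerClosure_le _ hg3)
      · exact absurd h1 (powerClosure_lt hG hb).not_ge
    obtain ⟨u, hu, hup⟩ := exists_eq_pow hG S.regular hX hg3
    set g' := u⁻¹ * g
    have hg' : g' ∉ T := fun h => hg (by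
      have := mul_mem (hX hu) h
      rwa [mul_inv_cancel_left] at this)
    have := powerClosure_normal (p := 3) nX 1
    have key : g' ^ 3 ∈ ℧ nX := by
      let π := QuotientGroup.mk' (℧ nX)
      set a := u⁻¹
      have hb : ⁅g, a⁆ ∈ nX := by
        rw [← commutatorElement_inv]
        exact inv_mem (Subgroup.mem_sup_left
          (Subgroup.commutator_mem_commutator (inv_mem hu) (Subgroup.mem_top g)))
      have hbc := map_center_of_commutator_le hstar hb
      have hb3 : (π ⁅g, a⁆) ^ 3 = 1 := by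
        rw [← map_pow, ← MonoidHom.mem_ker, QuotientGroup.ker_mk']
        exact pow_mem_powerClosure_one hb
      have e : g' ^ 3 = a * (⁅g, a⁆ * a) * (g * ⁅g, a⁆ * g⁻¹ * (⁅g, a⁆ * a)) * g ^ 3 := by
        simp [g', a, pow_succ, commutatorElement_def, mul_assoc]
      rw [← QuotientGroup.ker_mk' (℧ nX), MonoidHom.mem_ker, e]
      simp only [map_mul, map_inv]
      rw [← hbc (π g), mul_inv_cancel_right]
      have hA : π a ^ 3 * π (g ^ 3) = 1 := by
        rw [← map_pow, ← map_mul, hup, inv_pow, inv_mul_cancel, map_one]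
      have hc : Commute (π ⁅g, a⁆) (π a) := hbc _
      calc π a * (π ⁅g, a⁆ * π a) * (π ⁅g, a⁆ * (π ⁅g, a⁆ * π a)) * π (g ^ 3)
          = π ⁅g, a⁆ ^ 3 * (π a ^ 3 * π (g ^ 3)) := by
            generalize π ⁅g, a⁆ = B at hc ⊢
            generalize π a = A at hc ⊢
            generalize π (g ^ 3) = C
            simp only [pow_succ, pow_zero, one_mul, mul_assoc, hc.left_comm]
        _ = 1 := by rw [hb3, hA, one_mul]
    refine ih _ ?_ (X := nX) (hnX.trans hX) ?_ hg' key rfl
    · have := Set.ncard_lt_ncard (SetLike.coe_ssubset_coe.2 (lt_of_le_of_ne hnX hXX)) (Set.toFinite _)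
      rwa [← Nat.card_coe_set_eq, ← Nat.card_coe_set_eq] at this
    · rw [sup_eq_right.2 hstar]
      exact (commutator_powerClosure_top_le S.regular (hnX.trans hX)).trans (powerClosure_mono hstar)

theorem Setup.sup_zpowers (S : Setup G W T) {g : G} (hg : g ∉ T) : T ⊔ Subgroup.zpowers g = ⊤ := by
  refine Subgroup.index_eq_one.1 ?_
  have hlt : T < T ⊔ Subgroup.zpowers g := lt_of_le_of_ne le_sup_left fun h =>
    hg (h ▸ Subgroup.mem_sup_right (Subgroup.mem_zpowers g))
  have h := prime_mul_index_le S.isPGroup hlt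
  rw [S.index_T] at h
  have : (T ⊔ Subgroup.zpowers g).index ≠ 0 := Subgroup.index_ne_zero_of_finite
  omega

theorem Setup.T1_lt (S : Setup G W T) [hTn : T.Normal] : ⁅T, (⊤ : Subgroup G)⁆ ⊔ ℧ T < T := by
  have := S.isPGroup.isNilpotent
  have := powerClosure_normal (p := 3) T 1
  refine lt_of_le_of_ne (sup_le (Subgroup.commutator_le_left T ⊤) (powerClosure_le T)) fun he => ?_
  have h2 := Subgroup.card_le_of_le (le_of_le_commutator_sup he.ge)
  have := S.card_T
  have : 0 < Nat.card ↥(℧ T) := Nat.card_pos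
  omega

/-- If all cube roots stay outside `℧(T)` the group is metacyclic. -/
theorem Setup.metacyclic (S : Setup G W T) [hTn : T.Normal]
    (hstar : ⁅⁅T, (⊤ : Subgroup G)⁆ ⊔ ℧ T, (⊤ : Subgroup G)⁆ ≤ ℧ (⁅T, (⊤ : Subgroup G)⁆ ⊔ ℧ T))
    {g : G} (hg : g ∉ T) (hg3 : g ^ 3 ∉ ℧ T) : Cfsg.IsMetacyclic G := by
  have hG := S.isPGroup
  have := hG.isNilpotent
  set T1 := ⁅T, (⊤ : Subgroup G)⁆ ⊔ ℧ T
  have hU1 := powerClosure_normal (p := 3) T 1
  have : T1.Normal := Subgroup.sup_normal _ _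
  have hTg := S.sup_zpowers hg
  have hT1T : T1 ≤ T := S.T1_lt.le
  have hg3T : g ^ 3 ∈ T := by
    rw [← QuotientGroup.eq_one_iff, QuotientGroup.mk_pow, ← S.index_T, Subgroup.index_eq_card]
    exact pow_card_eq_one'
  set X := Subgroup.zpowers (g ^ 3) ⊔ ℧ T
  have hXT : X ≤ T := sup_le (Subgroup.zpowers_le.2 hg3T) (powerClosure_le T)
  have hcT := S.card_T
  have hlt : ℧ T < X := lt_of_le_of_ne le_sup_right fun h =>
    hg3 (h ▸ Subgroup.mem_sup_left (Subgroup.mem_zpowers _))
  have hc1 := card_mul_le hG hlt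
  have hT1X : T1 ≤ X := by
    refine sup_le ?_ le_sup_right
    by_cases hXT1 : T ≤ X ⊔ T1
    · refine (?_ : ⁅T, (⊤ : Subgroup G)⁆ ≤ ℧ T).trans le_sup_right
      let π := QuotientGroup.mk' (℧ T)
      have hTc : ∀ t ∈ T, ∀ u ∈ T, π t * π u = π u * π t := fun t ht u hu => by
        rw [← commutatorElement_eq_one_iff_mul_comm, ← map_commutatorElement, ← MonoidHom.mem_ker,
          QuotientGroup.ker_mk']
        exact S.commutator_T_le (Subgroup.commutator_mem_commutator ht hu)
      have hTg' : ∀ t ∈ T, π t * π g = π g * π t := by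
        intro t ht
        have hle : X ⊔ T1 ≤ (Subgroup.centralizer ({π g} : Set (G ⧸ ℧ T))).comap π := by
          refine sup_le (sup_le (Subgroup.zpowers_le.2 ?_) ?_) ?_
          · rw [Subgroup.mem_comap, Subgroup.mem_centralizer_singleton_iff, ← map_mul, ← map_mul,
              ← pow_succ, ← pow_succ']
          · intro y hy
            rw [Subgroup.mem_comap, Subgroup.mem_centralizer_singleton_iff,
              show π y = 1 from (QuotientGroup.eq_one_iff y).2 hy, one_mul, mul_one]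
          · intro y hy
            rw [Subgroup.mem_comap, Subgroup.mem_centralizer_singleton_iff]
            exact map_center_of_commutator_le (hstar.trans (powerClosure_mono hT1T)) hy (π g)
        exact Subgroup.mem_centralizer_singleton_iff.1 (hle (hXT1 ht))
      rw [Subgroup.commutator_le]
      intro t ht h _
      obtain ⟨u, hu, z, ⟨i, rfl⟩, rfl⟩ :=
        Subgroup.mem_sup_of_normal_left.1 (hTg ▸ Subgroup.mem_top h : h ∈ T ⊔ Subgroup.zpowers g)
      rw [← QuotientGroup.ker_mk' (℧ T), MonoidHom.mem_ker, map_commutatorElement,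
        commutatorElement_eq_one_iff_mul_comm, map_mul, map_zpow]
      exact (Commute.mul_right (hTc t ht u hu) ((show Commute (π t) (π g) from hTg' t ht).zpow_right i)).eq
    · have hlt2 : X ⊔ T1 < T := lt_of_le_of_ne (sup_le hXT hT1T) fun h => hXT1 h.ge
      have hc2 := card_mul_le hG hlt2
      have : X = X ⊔ T1 := Subgroup.eq_of_le_of_card_ge le_sup_left (by omega)
      exact le_sup_left.trans (le_sup_right.trans this.ge : T1 ≤ X)
  have hXU : X ≤ ℧ (⊤ : Subgroup G) :=
    sup_le (Subgroup.zpowers_le.2 (pow_mem_powerClosure_one (Subgroup.mem_top g))) (powerClosure_mono le_top)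
  have hidx : (℧ (⊤ : Subgroup G)).index ≤ 3 ^ 2 := by
    refine (Nat.le_of_dvd (Nat.pos_of_ne_zero Subgroup.index_ne_zero_of_finite)
      (Subgroup.index_dvd_of_le hXU)).trans ?_
    have h1 := X.card_mul_index
    rw [← T.card_mul_index, S.index_T] at h1
    have h2 : Nat.card X * X.index ≤ Nat.card X * 3 ^ 2 := by omega
    exact Nat.le_of_mul_le_mul_left h2 Nat.card_pos
  refine isMetacyclic_of hG (by norm_num) ?_ hidx
  have := powerClosure_normal (p := 3) (⊤ : Subgroup G) 1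
  obtain ⟨a, b, hab⟩ := exists_pair_sup_eq_top hG (℧ (⊤ : Subgroup G)) hidx
  refine commutator_isCyclic_of hG (a := a) (b := b)
    (by rw [eq_of_le_sup_powerClosure hG le_top hab.ge, top_sup_eq]) ?_
  -- `G' ≤ X` is central modulo `℧(G')`
  have hGX : commutator G ≤ T1 := by
    rw [commutator_def]
    refine (Subgroup.map_eq_bot_iff (⁅(⊤ : Subgroup G), ⊤⁆) (f := QuotientGroup.mk' T1)).1 ?_ |>.trans
      (QuotientGroup.ker_mk' T1).le
    rw [Subgroup.map_commutator, Subgroup.commutator_eq_bot_iff_le_centralizer, ← hTg, Subgroup.map_sup]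
    have hT : T.map (QuotientGroup.mk' T1) ≤ Subgroup.center (G ⧸ T1) := by
      rintro _ ⟨t, ht, rfl⟩
      exact Subgroup.mem_center_iff.2 fun q =>
        (map_center_of_commutator_le (N := T1) le_sup_left ht q).symm
    refine sup_le (hT.trans (Subgroup.center_le_centralizer _)) ?_
    rw [Subgroup.le_centralizer_iff]
    refine sup_le (hT.trans (Subgroup.center_le_centralizer _)) ?_
    rw [MonoidHom.map_zpowers]
    exact Subgroup.le_centralizer _
  set U := ℧ (commutator G)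
  have hUn : U.Normal := powerClosure_normal _ _
  let π := QuotientGroup.mk' U
  have hVT : ⁅℧ T, (⊤ : Subgroup G)⁆ ≤ U :=
    (commutator_powerClosure_top_le S.regular le_rfl).trans
      (powerClosure_mono (Subgroup.commutator_mono le_top le_rfl))
  have hg3c : ∀ q, π (g ^ 3) * q = q * π (g ^ 3) := by
    intro q
    obtain ⟨h, rfl⟩ := QuotientGroup.mk'_surjective U q
    obtain ⟨t, ht, z, ⟨i, rfl⟩, rfl⟩ :=
      Subgroup.mem_sup_of_normal_left.1 (hTg ▸ Subgroup.mem_top h : h ∈ T ⊔ Subgroup.zpowers g)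
    rw [map_mul, map_zpow, map_pow]
    refine (Commute.mul_right ?_ ((Commute.refl (π g)).pow_left 3 |>.zpow_right i)).eq
    rw [← map_pow]
    -- `⁅g ^ 3, t⁆ ≡ s ^ 3`
    have hsX : ⁅g, t⁆ ∈ X :=
      hT1X (hGX (Subgroup.commutator_mem_commutator (Subgroup.mem_top g) (Subgroup.mem_top t)))
    have hsg : Commute (π g) (π ⁅g, t⁆) := by
      obtain ⟨a, ⟨j, rfl⟩, v, hv, hav⟩ := Subgroup.mem_sup_of_normal_right.1 hsX
      rw [← hav, map_mul, map_zpow, map_pow]
      exact Commute.mul_right (((Commute.refl (π g)).pow_right 3).zpow_right j)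
        (map_center_of_commutator_le hVT hv (π g)).symm
    have h3 : π ⁅g, t⁆ ^ 3 = 1 := by
      rw [← map_pow, ← MonoidHom.mem_ker, QuotientGroup.ker_mk']
      exact pow_mem_powerClosure_one
        (Subgroup.commutator_mem_commutator (Subgroup.mem_top g) (Subgroup.mem_top t))
    have hexp : ⁅g ^ 3, t⁆ = g * (g * ⁅g, t⁆ * g⁻¹) * g⁻¹ * (g * ⁅g, t⁆ * g⁻¹) * ⁅g, t⁆ := by
      rw [pow_succ, pow_two]
      simp [commutatorElement_def, mul_assoc]
    refine commutatorElement_eq_one_iff_commute.1 ?_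
    rw [← map_commutatorElement, hexp]
    simp only [map_mul, map_inv]
    rw [hsg.eq, mul_inv_cancel_right, hsg.eq, mul_inv_cancel_right, ← h3]
    simp [pow_succ]
  intro y hy x
  obtain ⟨a, ⟨i, rfl⟩, v, hv, rfl⟩ := Subgroup.mem_sup_of_normal_right.1 (hT1X (hGX hy))
  rw [← QuotientGroup.ker_mk' U, MonoidHom.mem_ker, map_commutatorElement,
    commutatorElement_eq_one_iff_mul_comm, map_mul, map_zpow]
  exact ((show Commute (π (g ^ 3)) (π x) from hg3c _).zpow_left i |>.mul_left
    (map_center_of_commutator_le hVT hv (π x))).eq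

/-- The filtration used for maximal class. -/
def Ti (T : Subgroup G) : ℕ → Subgroup G
  | 0 => T
  | 1 => ⁅T, (⊤ : Subgroup G)⁆ ⊔ ℧ T
  | i + 2 => ℧ (Ti T i)

/-- Otherwise the group has maximal class. -/
theorem Setup.maximal_class (S : Setup G W T) [hTn : T.Normal] {n : ℕ} (hn : Nat.card G = 3 ^ n)
    (hstar : ¬ ⁅⁅T, (⊤ : Subgroup G)⁆ ⊔ ℧ T, (⊤ : Subgroup G)⁆ ≤ ℧ (⁅T, (⊤ : Subgroup G)⁆ ⊔ ℧ T)) :
    (⊤ : Subgroup G).lowerCentralSeries (n - 2) ≠ ⊥ := by
  have hG := S.isPGroup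
  have := hG.isNilpotent
  have hnorm : ∀ i, (Ti T i).Normal := by
    intro i
    induction i using Nat.twoStepInduction with
    | zero => exact hTn
    | one => have := powerClosure_normal (p := 3) T 1; exact Subgroup.sup_normal _ _
    | more i ih _ => exact powerClosure_normal _ _
  have hle1 : Ti T 1 ≤ T := S.T1_lt.le
  have hle : ∀ i, Ti T i ≤ T := by
    intro i
    induction i using Nat.twoStepInduction with
    | zero => exact le_rfl
    | one => exact hle1
    | more i ih _ => exact (powerClosure_le _).trans ih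
  have hmono : ∀ i, Ti T (i + 1) ≤ Ti T i := by
    intro i
    induction i using Nat.twoStepInduction with
    | zero => exact hle1
    | one => exact le_sup_right
    | more i ih _ => exact powerClosure_mono ih
  have hcT := S.card_T
  have h21 : ℧ T < Ti T 1 := by
    refine lt_of_le_of_ne le_sup_right fun h => hstar ?_
    change ⁅Ti T 1, _⁆ ≤ ℧ (Ti T 1)
    rw [← h]
    refine (commutator_powerClosure_top_le S.regular le_rfl).trans (powerClosure_mono ?_)
    exact le_sup_left.trans h.ge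
  have hc1 := card_mul_le hG h21
  have hc2 := card_mul_le hG (show Ti T 1 < T from S.T1_lt)
  have hcard1 : Nat.card ↥(Ti T 1) = 3 * Nat.card ↥(℧ T) := by omega
  have h12 : ⁅Ti T 1, (⊤ : Subgroup G)⁆ ≤ ℧ T := by
    have := hnorm 1
    have := powerClosure_normal (p := 3) T 1
    set M := ⁅Ti T 1, (⊤ : Subgroup G)⁆ ⊔ ℧ T
    have hMle : M ≤ Ti T 1 := sup_le (Subgroup.commutator_le_left _ _) le_sup_right
    have hMlt : M < Ti T 1 := lt_of_le_of_ne hMle fun h => h21.not_ge (le_of_le_commutator_sup h.ge)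
    have hc := card_mul_le hG hMlt
    have hMc : 3 * Nat.card ↥M ≤ Nat.card ↥(Ti T 1) := hc
    have he : ℧ T = M := Subgroup.eq_of_le_of_card_ge le_sup_right
      (show Nat.card ↥M ≤ Nat.card ↥(℧ T) by omega)
    rw [he]
    exact le_sup_left
  have h23 : ℧ T ≤ ⁅Ti T 1, (⊤ : Subgroup G)⁆ ⊔ ℧ (Ti T 1) := by
    set M := ⁅Ti T 1, (⊤ : Subgroup G)⁆ ⊔ ℧ (Ti T 1)
    have hM : M ≤ ℧ T := sup_le h12 (powerClosure_mono hle1)
    have hlt : ℧ (Ti T 1) < M := lt_of_le_of_ne le_sup_right fun h => hstar (le_sup_left.trans h.ge)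
    have hc := card_mul_le hG hlt
    have hb : Nat.card ↥(℧ T) ≤ 3 * Nat.card ↥(℧ (Ti T 1)) :=
      card_powerClosure_le hG S.regular le_rfl hle1 (by omega)
    exact (Subgroup.eq_of_le_of_card_ge hM (by omega)).ge
  have A : ∀ i, ⁅Ti T i, (⊤ : Subgroup G)⁆ ≤ Ti T (i + 1) ∧
      Nat.card ↥(Ti T i) ≤ 3 * Nat.card ↥(Ti T (i + 1)) ∧
      Ti T (i + 1) ≤ ⁅Ti T i, (⊤ : Subgroup G)⁆ ⊔ Ti T (i + 2) := by
    intro i
    induction i using Nat.twoStepInduction with
    | zero =>
      refine ⟨le_sup_left, ?_, le_rfl⟩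
      change Nat.card T ≤ 3 * Nat.card ↥(Ti T 1)
      omega
    | one => exact ⟨h12, hcard1.le, h23⟩
    | more i ih0 ih1 =>
      have := hnorm i
      refine ⟨(commutator_powerClosure_top_le S.regular (hle i)).trans (powerClosure_mono ih0.1),
        card_powerClosure_le hG S.regular (hle i) (hmono i) ih0.2.1, ?_⟩
      have : ⁅Ti T (i + 2), (⊤ : Subgroup G)⁆.Normal := by have := hnorm (i + 2); infer_instance
      have := hnorm (i + 4)
      set K := ⁅Ti T (i + 2), (⊤ : Subgroup G)⁆ ⊔ Ti T (i + 4)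
      have : K.Normal := Subgroup.sup_normal _ _
      refine (Subgroup.closure_le _).2 ?_
      rintro _ ⟨y, hy, rfl⟩
      rw [pow_one, SetLike.mem_coe]
      have hy' : y ∈ Subgroup.closure ({g | ∃ t ∈ Ti T i, ∃ h : G, ⁅h, t⁆ = g} ∪ (Ti T (i + 2) : Set G)) := by
        suffices hsub : ⁅Ti T i, (⊤ : Subgroup G)⁆ ⊔ Ti T (i + 2) ≤ Subgroup.closure
            ({g | ∃ t ∈ Ti T i, ∃ h : G, ⁅h, t⁆ = g} ∪ (Ti T (i + 2) : Set G)) from hsub (ih0.2.2 hy)
        refine sup_le ?_ (fun z hz => Subgroup.subset_closure (Or.inr hz))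
        rw [Subgroup.commutator_le]
        intro t ht h _
        rw [← commutatorElement_inv]
        exact inv_mem (Subgroup.subset_closure (Or.inl ⟨t, ht, h, rfl⟩))
      refine pow_mem_of_closure hG S.regular ?_ ?_ hy'
      · rintro z (⟨t, ht, h, rfl⟩ | hz)
        · exact mul_mem (hTn.conj_mem t (hle i ht) h) (inv_mem (hle i ht))
        · exact hle _ hz
      · rintro z (⟨t, ht, h, rfl⟩ | hz)
        · have h1 : ⁅h, t⁆ ∈ Ti T (i + 1) := by
            rw [← commutatorElement_inv]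
            exact inv_mem (ih0.1 (Subgroup.commutator_mem_commutator ht (Subgroup.mem_top h)))
          have h2 : ⁅⁅h, t⁆, t⁆ ∈ Ti T (i + 2) :=
            ih1.1 (Subgroup.commutator_mem_commutator h1 (Subgroup.mem_top t))
          have := hnorm (i + 2)
          obtain ⟨c, hc, he⟩ := comm_cube S.regular (g := h) (hle i ht) h2
          have h3 : ⁅h, t⁆ ^ 3 = ⁅h, t ^ 3⁆ * c⁻¹ := by rw [he, mul_inv_cancel_right]
          rw [h3]
          refine mul_mem (Subgroup.mem_sup_left ?_) (inv_mem (Subgroup.mem_sup_right hc))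
          rw [← commutatorElement_inv]
          exact inv_mem (Subgroup.commutator_mem_commutator
            (pow_mem_powerClosure_one ht : t ^ 3 ∈ Ti T (i + 2)) (Subgroup.mem_top h))
        · exact Subgroup.mem_sup_right (pow_mem_powerClosure_one hz)
  have heq : ∀ i, Ti T (i + 1) ≤ ⁅Ti T i, (⊤ : Subgroup G)⁆ := by
    intro i
    have hj : ∀ j, Ti T (i + 1) ≤ ⁅Ti T i, (⊤ : Subgroup G)⁆ ⊔ Ti T (i + 1 + j) := by
      intro j
      induction j with
      | zero => exact le_sup_right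
      | succ j ih =>
        refine ih.trans (sup_le le_sup_left ((A (i + j)).2.2.trans' (by rw [Nat.add_right_comm]) |>.trans ?_))
        refine sup_le ((Subgroup.commutator_mono ?_ le_rfl).trans le_sup_left) ?_
        · clear ih
          induction j with
          | zero => exact le_rfl
          | succ j ihj => exact (hmono _).trans ihj
        · rw [show i + j + 2 = i + 1 + (j + 1) by omega]
          exact le_sup_right
    obtain ⟨m, hm⟩ := exists_D_eq_bot (T := T) hG
    have hD : ∀ k, Ti T (2 * k) = D T k := by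
      intro k
      induction k with
      | zero => rfl
      | succ k ih => change ℧ (Ti T (2 * k)) = ℧ (D T k); rw [ih]
    have hsmall : Ti T (i + 1 + (2 * m)) = ⊥ := by
      have hanti : ∀ a b, a ≤ b → Ti T b ≤ Ti T a := fun a b hab =>
        antitone_nat_of_succ_le hmono hab
      exact eq_bot_iff.2 ((hanti (2 * m) _ (by omega)).trans ((hD m).trans hm).le)
    simpa [hsmall] using hj (2 * m)
  have hlcs : ∀ j, Ti T (j + 1) ≤ (⊤ : Subgroup G).lowerCentralSeries (j + 1) := by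
    intro j
    induction j with
    | zero =>
      refine (heq 0).trans ?_
      rw [Subgroup.lowerCentralSeries_succ, Subgroup.lowerCentralSeries_zero]
      exact Subgroup.commutator_mono le_top le_rfl
    | succ j ih =>
      rw [Subgroup.lowerCentralSeries_succ]
      exact (heq _).trans (Subgroup.commutator_mono ih le_rfl)
  have hcard : ∀ j, Nat.card T ≤ 3 ^ j * Nat.card ↥(Ti T j) := by
    intro j
    induction j with
    | zero => simp [Ti]
    | succ j ih =>
      rw [pow_succ, mul_assoc]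
      exact ih.trans (Nat.mul_le_mul_left _ (A j).2.1)
  intro hbot
  have hTn3 : Nat.card T * 3 = 3 ^ n := by rw [← hn, ← T.card_mul_index, S.index_T]
  have h9 : 3 ^ 2 ≤ Nat.card T := S.card_W ▸ Subgroup.card_le_of_le S.W_le
  have hn3 : 3 ≤ n := by
    by_contra h
    have := Nat.pow_le_pow_right (show 0 < 3 by omega) (show n ≤ 2 by omega)
    omega
  obtain ⟨j, hj⟩ : ∃ j, n - 2 = j + 1 := ⟨n - 3, by omega⟩
  rw [hj] at hbot
  have h1 : Ti T (j + 1) = ⊥ := eq_bot_iff.2 ((hlcs j).trans hbot.le)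
  have h2 := hcard (j + 1)
  rw [h1, Subgroup.card_bot, mul_one] at h2
  have h3 : 3 ^ n = 3 ^ (j + 1) * 3 ^ 2 := by rw [← pow_add]; congr 1; omega
  have h4 : 0 < 3 ^ (j + 1) := pow_pos (by omega) _
  omega

/-- The classification for `p = 3`. -/
theorem classify_three {n : ℕ} (hn : Nat.card G = 3 ^ n) (hrk : PRankLE 3 2 G) [W.Normal]
    (hW : IsElementaryAbelian 3 W) (hWc : Nat.card W = 3 ^ 2) (hWZ : ¬ W ≤ Subgroup.center G) :
    Cfsg.IsMetacyclic G ∨ Fam1 3 n G ∨ Fam2 3 n G ∨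
      (2 ≤ n ∧ (⊤ : Subgroup G).lowerCentralSeries (n - 2) ≠ ⊥) := by
  have hG : IsPGroup 3 G := IsPGroup.of_card hn
  obtain ⟨hR, hΩ⟩ := centralizer_regular hG (by norm_num) hrk hW hWc
  have S : Setup G W (Subgroup.centralizer (W : Set G)) :=
    ⟨hG, hrk, hW, hWc, rfl, index_centralizer hG hW hWc hWZ, hR, hΩ⟩
  set T := Subgroup.centralizer (W : Set G)
  have hTn : T.Normal := inferInstance
  by_cases hstar : ⁅⁅T, (⊤ : Subgroup G)⁆ ⊔ ℧ T, (⊤ : Subgroup G)⁆ ≤ ℧ (⁅T, (⊤ : Subgroup G)⁆ ⊔ ℧ T)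
  · by_cases hex : ∃ g, g ∉ T ∧ g ^ 3 ∈ ℧ T
    · obtain ⟨g, hg, hg3⟩ := hex
      obtain ⟨x, hxT, hx⟩ := S.exists_order_three le_rfl hstar hg hg3
      have := powerClosure_normal (p := 3) T 1
      rcases families (by norm_num) hn hrk hW hWc hx hxT fun t ht =>
        S.comm_mem (T1 := ⁅T, (⊤ : Subgroup G)⁆ ⊔ ℧ T) S.T1_lt.le le_sup_left hstar hx ht with h | h
      · exact Or.inr (Or.inl h)
      · exact Or.inr (Or.inr (Or.inl h))
    · push Not at hex
      obtain ⟨g, hg⟩ : ∃ g, g ∉ T := by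
        by_contra h
        push Not at h
        have h1 := S.index_T
        rw [show T = ⊤ from eq_top_iff.2 fun g _ => h g, Subgroup.index_top] at h1
        omega
      exact Or.inl (S.metacyclic hstar hg (hex g hg))
  · refine Or.inr (Or.inr (Or.inr ⟨?_, S.maximal_class hn hstar⟩))
    have h9 : 3 ^ 2 ≤ 3 ^ n := hn ▸ hWc ▸ W.card_le_card_group
    exact (Nat.pow_le_pow_iff_right (by norm_num)).1 h9

end Cfsg.Agent.Lib.PGroupTheory.RankTwo
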