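import Cfsg.Agent.Lib.PGroupTheory.RankTwoLarge
import Cfsg.Agent.Lib.PGroupTheory.RankTwoThree

/-!
# Blackburn: `p`-groups of rank at most two, `p` odd
-/

set_option autoImplicit false

namespace Cfsg.Agent.Lib.PGroupTheory.RankTwo

open Cfsg Cfsg.Agent.Lib Cfsg.Agent.Lib.PGroupTheory

theorem isMetacyclic_of_isCyclic {G : Type*} [Group G] [IsCyclic G] : Cfsg.IsMetacyclic G :=
  ⟨⊤, inferInstance, isCyclic_of_surjective _ (Subgroup.topEquiv (G := G)).symm.surjective,
    isCyclic_of_surjective _ (QuotientGroup.mk'_surjective ⊤)⟩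

/-- The classification. -/
theorem classify {G : Type*} [Group G] [Finite G] {p : ℕ} [hp : Fact p.Prime] (hp2 : p ≠ 2) {n : ℕ}
    (hn : Nat.card G = p ^ n) (hrk : PRankLE p 2 G) :
    Cfsg.IsMetacyclic G ∨ Fam1 p n G ∨ Fam2 p n G ∨
      (p = 3 ∧ 2 ≤ n ∧ (⊤ : Subgroup G).lowerCentralSeries (n - 2) ≠ ⊥) := by
  have hG : IsPGroup p G := IsPGroup.of_card hn
  by_cases hc : IsCyclic G
  · exact Or.inl isMetacyclic_of_isCyclic
  obtain ⟨W, hWn, hW, hWc⟩ := PGroups.exists_normal_elemAb_sq hp2 hG hc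
  by_cases hWZ : W ≤ Subgroup.center G
  · left
    have hall : ∀ x : G, x ^ p = 1 → x ∈ W := fun x hx => mem_of_commute hrk hW hWc hx
      fun w hw => Subgroup.mem_center_iff.1 (hWZ hw) x
    have hcount : Nat.card {x : G // x ^ p = 1} ≤ p ^ 2 := by
      rw [← hWc]
      exact Nat.card_le_card_of_injective (fun x => ⟨x.1, hall x.1 x.2⟩)
        fun a b h => Subtype.ext (congrArg (fun z : W => (z : G)) h)
    have hR := (isRegularPGroup_iff.1
      (isRegularPGroup_of_omega_central hp2 G hG (fun x hx => hWZ (hall x hx)) hcount)).2 1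
    exact isMetacyclic_of_regular hG hp2 hR ((index_powerClosure_eq hG hR).le.trans hcount)
  by_cases h5 : 5 ≤ p
  · rcases classify_large h5 hn hrk hW hWc with h | h | h
    exacts [Or.inl h, Or.inr (Or.inl h), Or.inr (Or.inr (Or.inl h))]
  have h3 : p = 3 := by
    have := hp.out.two_le
    rcases (show p = 3 ∨ p = 4 by omega) with h | h
    · exact h
    · exact absurd (h ▸ hp.out) (by norm_num)
  subst h3
  rcases classify_three hn hrk hW hWc hWZ with h | h | h | h
  exacts [Or.inl h, Or.inr (Or.inl h), Or.inr (Or.inr (Or.inl h)), Or.inr (Or.inr (Or.inr ⟨rfl, h⟩))]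

end Cfsg.Agent.Lib.PGroupTheory.RankTwo
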