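import Cfsg.Agent.Lib.PGroupTheory.RankTwo

/-!
# `p`-groups of rank at most two, `p ≥ 5`

These are regular, which gives the classification at once.
-/

set_option autoImplicit false

namespace Cfsg.Agent.Lib.PGroupTheory.RankTwo

open scoped commutatorElement
open Cfsg Cfsg.Agent.Lib Cfsg.Agent.Lib.PGroupTheory

theorem prankLE_subgroup {G : Type*} [Group G] {p k : ℕ} (h : PRankLE p k G) (H : Subgroup G) :
    PRankLE p k H := by
  intro A hA hAp
  have hE : IsElementaryAbelian p (A.map H.subtype) := PGroups.elemAb_map H.subtype ⟨hA, hAp⟩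
  have := h _ hE.1 hE.2
  rwa [← Nat.card_congr (A.equivMapOfInjective H.subtype H.subtype_injective).toEquiv] at this

variable {p : ℕ} [hp : Fact p.Prime]

/-- A subgroup of exponent `p` in a group of rank at most two has order at most `p³`. -/
theorem card_le_of_exponent {G : Type*} [Group G] [Finite G] (hG : IsPGroup p G) (hp2 : p ≠ 2)
    (hrk : PRankLE p 2 G) (hexp : ∀ g : G, g ^ p = 1) : Nat.card G ≤ p ^ 3 := by
  have hp3 : p ^ 2 ≤ p ^ 3 := Nat.pow_le_pow_right hp.out.pos (by omega)
  by_cases hc : IsCyclic G
  · obtain ⟨g, hg⟩ := hc.exists_generator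
    rw [← orderOf_eq_card_of_forall_mem_zpowers hg]
    exact (Nat.le_of_dvd hp.out.pos (orderOf_dvd_of_pow_eq_one (hexp g))).trans
      (Nat.le_self_pow (by omega) p)
  obtain ⟨W, hWn, hW, hWc⟩ := PGroups.exists_normal_elemAb_sq hp2 hG hc
  by_cases hWZ : W ≤ Subgroup.center G
  · have : ∀ g, g ∈ W := fun g => mem_of_commute hrk hW hWc (hexp g)
      fun w hw => Subgroup.mem_center_iff.1 (hWZ hw) g
    have h1 : (⊤ : Subgroup G) ≤ W := fun g _ => this g
    have := Subgroup.card_le_of_le h1
    rw [Subgroup.card_top, hWc] at this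
    exact this.trans hp3
  · have hle : Subgroup.centralizer (W : Set G) ≤ W := fun g hg => mem_of_commute hrk hW hWc (hexp g)
      fun w hw => (Subgroup.mem_centralizer_iff.1 hg w hw).symm
    rw [← (Subgroup.centralizer (W : Set G)).card_mul_index, index_centralizer hG hW hWc hWZ, pow_succ]
    exact Nat.mul_le_mul_right _ (hWc ▸ Subgroup.card_le_of_le hle)

/-- The lower central series is short when the derived group is small. -/
theorem lowerCentralSeries_eq_bot_of_card_le {Q : Type*} [Group Q] [Finite Q] (hQ : IsPGroup p Q)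
    {k : ℕ} (h : Nat.card ↥(commutator Q) ≤ p ^ k) :
    (⊤ : Subgroup Q).lowerCentralSeries (k + 1) = ⊥ := by
  have : Group.IsNilpotent Q := hQ.isNilpotent
  obtain ⟨N, hN⟩ := Subgroup.nilpotent_iff_lowerCentralSeries.1 this
  have key : ∀ i, (⊤ : Subgroup Q).lowerCentralSeries (i + 1) = ⊥ ∨
      Nat.card ↥((⊤ : Subgroup Q).lowerCentralSeries (i + 1)) * p ^ i ≤ p ^ k := by
    intro i
    induction i with
    | zero => right; simpa [commutator_def] using h
    | succ i ih =>
      rcases ih with ih | ih
      · exact Or.inl (eq_bot_iff.2 ((Subgroup.lowerCentralSeries_antitone _ (by omega)).trans ih.le))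
      by_cases hb : (⊤ : Subgroup Q).lowerCentralSeries (i + 1 + 1) = ⊥
      · exact Or.inl hb
      right
      set A := (⊤ : Subgroup Q).lowerCentralSeries (i + 1 + 1)
      set B := (⊤ : Subgroup Q).lowerCentralSeries (i + 1)
      have hAB : A < B := by
        refine lt_of_le_of_ne (Subgroup.lowerCentralSeries_antitone _ (by omega)) fun he => hb ?_
        have hst : ∀ j, (⊤ : Subgroup Q).lowerCentralSeries (i + 1 + j) = B := by
          intro j
          induction j with
          | zero => rfl
          | succ j ihj =>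
            rw [← Nat.add_assoc, Subgroup.lowerCentralSeries_succ, ihj]
            exact he
        refine he.trans (eq_bot_iff.2 (le_trans (hst N).ge ?_))
        exact (Subgroup.lowerCentralSeries_antitone _ (by omega)).trans hN.le
      have h1 := prime_mul_index_le hQ hAB
      have hA := A.card_mul_index
      rw [← B.card_mul_index] at hA
      have h2 : Nat.card A * p ≤ Nat.card B := by
        have : Nat.card A * (p * B.index) ≤ Nat.card B * B.index :=
          (Nat.mul_le_mul_left _ h1).trans hA.le
        rw [← mul_assoc] at this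
        exact Nat.le_of_mul_le_mul_right this (Nat.pos_of_ne_zero Subgroup.index_ne_zero_of_finite)
      rw [pow_succ', ← mul_assoc]
      exact (Nat.mul_le_mul_right _ h2).trans ih
  rcases key k with hk | hk
  · exact hk
  · exact Subgroup.card_eq_one.1 (le_antisymm
      (Nat.le_of_mul_le_mul_right (hk.trans (one_mul _).ge) (pow_pos hp.out.pos k)) Nat.card_pos)

universe u in
/-- For `p ≥ 5` a group of rank at most two is regular. -/
theorem isRegularPGroup_of_prankLE (hp5 : 5 ≤ p) :
    ∀ (G : Type u) [Group G] [Finite G], IsPGroup p G → PRankLE p 2 G → IsRegularPGroup p G := by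
  intro G
  induction hn : Nat.card G using Nat.strong_induction_on generalizing G with
  | _ n ih =>
    intro _ _ hG hrk
    subst hn
    have hp2 : p ≠ 2 := by omega
    refine isRegularPGroup_of_regularAt_one hG (regularAt_of_lowerCentralSeries_le fun a b => ?_)
    set K := Subgroup.closure ({a, b} : Set G)
    by_cases hD : ⁅K, K⁆ = ⊥
    · refine le_trans (le_trans (K.lowerCentralSeries_antitone (show 1 ≤ p - 1 by omega)) ?_) bot_le
      rw [Subgroup.lowerCentralSeries_succ, Subgroup.lowerCentralSeries_zero, hD]
    set D := ⁅K, K⁆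
    have hDR : RegularAt p 1 D := (isRegularPGroup_iff.1 (ih _
      ((card_commutator_lt hG hD).trans_le K.card_le_card_group) D rfl (hG.to_subgroup D)
      (prankLE_subgroup hrk D))).2 1
    obtain ⟨Ω, -, hΩ⟩ := exists_subgroup_of_regularAt (hG.to_subgroup D) hDR
    have hindex : (powerClosure p 1 (⊤ : Subgroup D)).index ≤ p ^ 3 := by
      rw [index_powerClosure_eq (hG.to_subgroup D) hDR, Nat.card_congr
        (Equiv.subtypeEquivRight (q := fun x => x ∈ Ω) fun x => (hΩ x).symm)]
      exact card_le_of_exponent ((hG.to_subgroup D).to_subgroup Ω) hp2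
        (prankLE_subgroup (prankLE_subgroup hrk D) Ω)
        fun g => Subtype.ext (by simpa using (hΩ g).1 g.2)
    set U := powerClosure p 1 D
    have hUK : (U.subgroupOf K).Normal := by
      refine ⟨fun z hz g => ?_⟩
      simp only [Subgroup.mem_subgroupOf, Subgroup.coe_mul, Subgroup.coe_inv] at hz ⊢
      exact conj_mem_powerClosure (Subgroup.normalizer_commutator_ge_right K K g.2) hz
    let π := QuotientGroup.mk' (U.subgroupOf K)
    have hQ : Nat.card ↥(commutator (↥K ⧸ U.subgroupOf K)) ≤ p ^ 3 := by
      have h1 : commutator (↥K ⧸ U.subgroupOf K) = (commutator K).map π := by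
        rw [commutator_def, commutator_def, Subgroup.map_commutator,
          Subgroup.map_top_of_surjective π (QuotientGroup.mk'_surjective _)]
      rw [h1, ← Subgroup.relIndex_ker, QuotientGroup.ker_mk', Subgroup.subgroupOf, Subgroup.relIndex_comap,
        Subgroup.map_subtype_commutator, Subgroup.relIndex]
      refine le_trans (le_of_eq ?_) hindex
      congr 1
      rw [Subgroup.subgroupOf, show U = (powerClosure p 1 (⊤ : Subgroup D)).map D.subtype from
        (powerClosure_top_map D 1).symm]
      exact Subgroup.comap_map_eq_self_of_injective D.subtype_injective _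
    have h4 := lowerCentralSeries_eq_bot_of_card_le ((hG.to_subgroup K).to_quotient _) hQ
    have h5 : (⊤ : Subgroup K).lowerCentralSeries (p - 1) ≤ U.subgroupOf K := by
      refine le_trans (Subgroup.lowerCentralSeries_antitone _ (show 3 + 1 ≤ p - 1 by omega)) ?_
      rw [← QuotientGroup.ker_mk' (U.subgroupOf K), ← Subgroup.map_eq_bot_iff,
        Subgroup.map_lowerCentralSeries, Subgroup.map_top_of_surjective π (QuotientGroup.mk'_surjective _)]
      exact h4
    rw [← Subgroup.top_subtype_lowerCentralSeries]
    exact Subgroup.map_le_iff_le_comap.2 h5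

/-- The classification for `p ≥ 5`. -/
theorem classify_large {G : Type*} [Group G] [Finite G] (hp5 : 5 ≤ p) {n : ℕ}
    (hn : Nat.card G = p ^ n) (hrk : PRankLE p 2 G) {W : Subgroup G} [W.Normal]
    (hW : IsElementaryAbelian p W) (hWc : Nat.card W = p ^ 2) :
    Cfsg.IsMetacyclic G ∨ Fam1 p n G ∨ Fam2 p n G := by
  have hp2 : p ≠ 2 := by omega
  have hG : IsPGroup p G := IsPGroup.of_card hn
  have hR : RegularAt p 1 G := (isRegularPGroup_iff.1 (isRegularPGroup_of_prankLE hp5 G hG hrk)).2 1
  by_cases hall : ∀ x : G, x ^ p = 1 → x ∈ W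
  · left
    refine isMetacyclic_of_regular hG hp2 hR ?_
    rw [index_powerClosure_eq hG hR, ← hWc]
    exact Nat.card_le_card_of_injective (fun x => ⟨x.1, hall x.1 x.2⟩)
      fun a b h => Subtype.ext (congrArg (fun z : W => (z : G)) h)
  push Not at hall
  obtain ⟨x, hx, hxW⟩ := hall
  set T := Subgroup.centralizer (W : Set G)
  have hxT : x ∉ T := fun h => hxW (mem_of_commute hrk hW hWc hx
    fun w hw => (Subgroup.mem_centralizer_iff.1 h w hw).symm)
  refine Or.inr (families hp2 hn hrk hW hWc hx hxT fun t ht => ?_)
  have hs : ⁅x, t⁆ ^ p = 1 := by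
    have h := pow_mul_eq_one hG hR (a := x) (b := t * x⁻¹ * t⁻¹) (by simpa using hx)
      (by rw [conj_pow, pow_one, inv_pow, hx]; simp)
    simpa [commutatorElement_def, mul_assoc] using h
  refine mem_of_commute hrk hW hWc hs fun w hw => ?_
  have : x * t * x⁻¹ * t⁻¹ ∈ T := mul_mem ((inferInstance : T.Normal).conj_mem t ht x) (inv_mem ht)
  exact (Subgroup.mem_centralizer_iff.1 this w hw).symm

end Cfsg.Agent.Lib.PGroupTheory.RankTwo
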