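import Cfsg.Prelude.Def_CaseTheorems
import Cfsg.Prelude.Def_OddOrderLocal
import Cfsg.Agent.Lib.PGroupTheory.RegularExtra
import Cfsg.Agent.Lib.PGroups.UniqueInvolution

/-!
# `p`-groups of rank at most two, `p` odd: setup and the two non-metacyclic families

With `W` a non-central normal elementary abelian subgroup of order `p²` the centralizer `T = C(W)` has
index `p` and is metacyclic. If some `x ∉ T` of order `p` has `⁅x, T⁆ ≤ W` we obtain the presentations.
-/

set_option autoImplicit false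

namespace Cfsg.Agent.Lib.PGroupTheory.RankTwo

open scoped commutatorElement
open Cfsg Cfsg.Agent.Lib Cfsg.Agent.Lib.PGroupTheory

variable {G : Type*} [Group G] [Finite G] {p : ℕ} [hp : Fact p.Prime]

/-- The first family. -/
def Fam1 (p n : ℕ) (G : Type*) [Group G] : Prop :=
  3 ≤ n ∧ ∃ x y z : G, Subgroup.closure ({x, y, z} : Set G) = ⊤ ∧ x ^ p = 1 ∧ y ^ p = 1 ∧
    z ^ p ^ (n - 2) = 1 ∧ x * z = z * x ∧ y * z = z * y ∧ x⁻¹ * y * x = y * z ^ p ^ (n - 3)

/-- The second family. -/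
def Fam2 (p n : ℕ) (G : Type*) [Group G] : Prop :=
  4 ≤ n ∧ ∃ (s : ℕ) (x y z : G), (s = 1 ∨ ¬ IsSquare (s : ZMod p)) ∧
    Subgroup.closure ({x, y, z} : Set G) = ⊤ ∧ x ^ p = 1 ∧ y ^ p = 1 ∧ z ^ p ^ (n - 2) = 1 ∧
    y * z = z * y ∧ x⁻¹ * y * x = y * z ^ (s * p ^ (n - 3)) ∧ x⁻¹ * z * x = y * z

theorem powerClosure_top_map (H : Subgroup G) (e : ℕ) :
    (powerClosure p e (⊤ : Subgroup H)).map H.subtype = powerClosure p e H := by
  rw [map_powerClosure, ← MonoidHom.range_eq_map, Subgroup.range_subtype]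

theorem zpowers_eq_of_prime {a b : G} (ha : orderOf a = p) (hb : b ∈ Subgroup.zpowers a) (hb1 : b ≠ 1) :
    a ∈ Subgroup.zpowers b := by
  have hle : Subgroup.zpowers b ≤ Subgroup.zpowers a := Subgroup.zpowers_le.2 hb
  have hd := orderOf_dvd_of_mem_zpowers hb
  rw [ha] at hd
  have hob : orderOf b = p :=
    (hp.out.eq_one_or_self_of_dvd _ hd).resolve_left fun h => hb1 (orderOf_eq_one_iff.1 h)
  rw [Subgroup.eq_of_le_of_card_ge hle (by rw [Nat.card_zpowers, Nat.card_zpowers, ha, hob])]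
  exact Subgroup.mem_zpowers a

/-- An element of order `p` centralizing an elementary abelian subgroup of order `p²` lies in it. -/
theorem mem_of_commute (hrk : PRankLE p 2 G) {W : Subgroup G} (hW : IsElementaryAbelian p W)
    (hWc : Nat.card W = p ^ 2) {x : G} (hx : x ^ p = 1) (hxc : ∀ w ∈ W, x * w = w * x) : x ∈ W := by
  have hA : IsElementaryAbelian p (Subgroup.closure ((W : Set G) ∪ {x})) := by
    refine PGroups.elemAb_closure ?_ ?_
    · rintro a (ha | rfl) b (hb | rfl)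
      · exact PGroups.elemAb_comm hW ha hb
      · exact (hxc a ha).symm
      · exact hxc b hb
      · rfl
    · rintro a (ha | rfl)
      · exact PGroups.elemAb_pow hW ha
      · exact hx
  have hle : W ≤ Subgroup.closure ((W : Set G) ∪ {x}) := fun w hw => Subgroup.subset_closure (Or.inl hw)
  have heq := Subgroup.eq_of_le_of_card_ge hle (by rw [hWc]; exact hrk _ hA.1 hA.2)
  rw [heq]
  exact Subgroup.subset_closure (Or.inr rfl)

/-- A basis of a normal elementary abelian subgroup of order `p²` adapted to the action of `G`. -/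
theorem exists_frame (hG : IsPGroup p G) {W : Subgroup G} [W.Normal] (hW : IsElementaryAbelian p W)
    (hWc : Nat.card W = p ^ 2) :
    ∃ ζ w : G, ζ ∈ W ∧ ζ ∈ Subgroup.center G ∧ orderOf ζ = p ∧ w ∈ W ∧ w ∉ Subgroup.zpowers ζ ∧
      (∀ v ∈ W, ∃ i j : ℤ, v = w ^ i * ζ ^ j) ∧ ∀ g : G, ⁅g, w⁆ ∈ Subgroup.zpowers ζ := by
  have hWne : W ≠ ⊥ := by
    rintro rfl
    rw [Subgroup.card_bot] at hWc
    exact (Nat.one_lt_pow two_ne_zero hp.out.one_lt).ne hWc
  obtain ⟨Z, hZW, hZc, hZn, hZp⟩ := PGroups.exists_central_card_prime hG W hWne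
  obtain ⟨⟨ζ, hζ⟩, hζgen⟩ := (isCyclic_of_prime_card hZp).exists_generator
  have hZeq : Z = Subgroup.zpowers ζ := by
    refine le_antisymm (fun z hz => ?_) (Subgroup.zpowers_le.2 hζ)
    obtain ⟨k, hk⟩ := Subgroup.mem_zpowers_iff.1 (hζgen ⟨z, hz⟩)
    exact ⟨k, by simpa using congrArg Subtype.val hk⟩
  have hζo : orderOf ζ = p := by rw [← Nat.card_zpowers, ← hZeq, hZp]
  obtain ⟨w, hwW, hw⟩ : ∃ w ∈ W, w ∉ Subgroup.zpowers ζ := by
    by_contra h
    push Not at h
    have := Subgroup.card_le_of_le (show W ≤ Z from fun v hv => hZeq ▸ h v hv)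
    rw [hWc, hZp] at this
    exact absurd this (lt_self_pow₀ hp.out.one_lt one_lt_two).not_ge
  have hwp : orderOf w = p :=
    orderOf_eq_prime (PGroups.elemAb_pow hW hwW) fun h => hw (h ▸ one_mem _)
  -- the subgroup they generate is `W`
  have hgen : ∀ v ∈ W, ∃ i j : ℤ, v = w ^ i * ζ ^ j := by
    set L := Subgroup.zpowers w ⊔ Subgroup.zpowers ζ
    have hLW : L ≤ W := sup_le (Subgroup.zpowers_le.2 hwW) (Subgroup.zpowers_le.2 (hZW hζ))
    have hlt : Subgroup.zpowers ζ < L :=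
      lt_of_le_of_ne le_sup_right fun h => hw (h ▸ Subgroup.mem_sup_left (Subgroup.mem_zpowers w))
    have h1 := prime_mul_index_le hG hlt
    have h2 := Subgroup.card_mul_index (Subgroup.zpowers ζ)
    rw [Nat.card_zpowers, hζo, ← L.card_mul_index] at h2
    have h3 : p ^ 2 ≤ Nat.card L := by
      have : p * (p * L.index) ≤ Nat.card L * L.index := (Nat.mul_le_mul_left p h1).trans h2.le
      rw [← mul_assoc, ← sq] at this
      exact Nat.le_of_mul_le_mul_right this (Nat.pos_of_ne_zero Subgroup.index_ne_zero_of_finite)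
    have hLe : L = W := Subgroup.eq_of_le_of_card_ge hLW (hWc ▸ h3)
    intro v hv
    rw [← hLe] at hv
    have : (Subgroup.zpowers ζ).Normal := hZeq ▸ hZn
    obtain ⟨a, ⟨i, rfl⟩, b, ⟨j, rfl⟩, rfl⟩ := Subgroup.mem_sup_of_normal_right.1 hv
    exact ⟨i, j, rfl⟩
  refine ⟨ζ, w, hZW hζ, hZc hζ, hζo, hwW, hw, hgen, fun g => ?_⟩
  -- `W / Z` is central in `G / Z`
  have : (Subgroup.zpowers ζ).Normal := hZeq ▸ hZn
  let π := QuotientGroup.mk' (Subgroup.zpowers ζ)
  have hmap : (W.map π) ≠ ⊥ := fun h => hw (by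
    have : π w ∈ W.map π := Subgroup.mem_map_of_mem π hwW
    rw [h, Subgroup.mem_bot] at this
    exact (QuotientGroup.eq_one_iff w).1 this)
  have : (W.map π).Normal := Subgroup.Normal.map inferInstance π (QuotientGroup.mk'_surjective _)
  obtain ⟨Z', hZ'W, hZ'c, -, hZ'p⟩ := PGroups.exists_central_card_prime (hG.to_quotient _) _ hmap
  have hcardW : Nat.card (W.map π) ≤ p := by
    have : W.map π ≤ Subgroup.zpowers (π w) := by
      rintro _ ⟨v, hv, rfl⟩
      obtain ⟨i, j, rfl⟩ := hgen v hv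
      rw [map_mul, map_zpow, map_zpow,
        show π ζ = 1 from (QuotientGroup.eq_one_iff ζ).2 (Subgroup.mem_zpowers ζ), one_zpow, mul_one]
      exact zpow_mem (Subgroup.mem_zpowers _) i
    refine (Subgroup.card_le_of_le this).trans ?_
    rw [Nat.card_zpowers]
    exact Nat.le_of_dvd hp.out.pos (hwp ▸ orderOf_map_dvd π w)
  have heq : Z' = W.map π := Subgroup.eq_of_le_of_card_ge hZ'W (hZ'p ▸ hcardW)
  have hc := hZ'c (heq ▸ Subgroup.mem_map_of_mem π hwW)
  rw [← QuotientGroup.eq_one_iff, ← QuotientGroup.mk'_apply, map_commutatorElement]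
  exact commutatorElement_eq_one_iff_mul_comm.2 (Subgroup.mem_center_iff.1 hc (π g))

omit [Finite G] hp in
theorem commutatorElement_mul_left_central {ζ w : G} (hζc : ζ ∈ Subgroup.center G) {a b : G}
    (hb : ⁅b, w⁆ ∈ Subgroup.zpowers ζ) : ⁅a * b, w⁆ = ⁅b, w⁆ * ⁅a, w⁆ := by
  rw [commutatorElement_mul_left_eq_conj_mul]
  congr 1
  rw [Subgroup.mem_center_iff.1 (Subgroup.zpowers_le.2 hζc hb) a, mul_inv_cancel_right]

/-- The centralizer of a non-central normal subgroup of type `(p, p)` has index `p`. -/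
theorem index_centralizer (hG : IsPGroup p G) {W : Subgroup G} [W.Normal]
    (hW : IsElementaryAbelian p W) (hWc : Nat.card W = p ^ 2) (hWZ : ¬ W ≤ Subgroup.center G) :
    (Subgroup.centralizer (W : Set G)).index = p := by
  obtain ⟨ζ, w, hζW, hζc, hζo, hwW, -, hgen, hcomm⟩ := exists_frame hG hW hWc
  let ψ : G →* ↥(Subgroup.zpowers ζ) :=
    MonoidHom.mk' (fun g => ⟨⁅g, w⁆, hcomm g⟩) fun a b => Subtype.ext (by
      rw [Subgroup.coe_mul]
      exact (commutatorElement_mul_left_central hζc (hcomm b)).trans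
        (Subgroup.mem_center_iff.1 (Subgroup.zpowers_le.2 hζc (hcomm a)) _))
  have hker : ψ.ker = Subgroup.centralizer (W : Set G) := by
    ext g
    rw [MonoidHom.mem_ker, Subgroup.mem_centralizer_iff]
    constructor
    · intro h v hv
      have h' : Commute g w := commutatorElement_eq_one_iff_mul_comm.1 (congrArg Subtype.val h)
      obtain ⟨i, j, rfl⟩ := hgen v hv
      exact ((h'.zpow_right i).mul_right
        ((show Commute g ζ from Subgroup.mem_center_iff.1 hζc g).zpow_right j)).eq.symm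
    · intro h
      exact Subtype.ext (commutatorElement_eq_one_iff_mul_comm.2 (h w hwW).symm)
  have hne : (Subgroup.centralizer (W : Set G)).index ≠ 1 := by
    rw [Ne, Subgroup.index_eq_one, Subgroup.centralizer_eq_top_iff_subset]
    exact hWZ
  rw [← hker, Subgroup.index_ker] at hne ⊢
  refine (hp.out.eq_one_or_self_of_dvd _ ?_).resolve_left hne
  rw [← hζo, ← Nat.card_zpowers ζ]
  exact Subgroup.card_subgroup_dvd_card _

/-- `C(W)` is regular and has exactly `p²` elements of exponent `p`. -/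
theorem centralizer_regular (hG : IsPGroup p G) (hp2 : p ≠ 2) (hrk : PRankLE p 2 G) {W : Subgroup G}
    (hW : IsElementaryAbelian p W) (hWc : Nat.card W = p ^ 2) :
    RegularAt p 1 ↥(Subgroup.centralizer (W : Set G)) ∧
      Nat.card {t : ↥(Subgroup.centralizer (W : Set G)) // t ^ p = 1} = p ^ 2 := by
  set T := Subgroup.centralizer (W : Set G)
  have hmem : ∀ t : T, t ^ p = 1 → (t : G) ∈ W := fun t ht =>
    mem_of_commute hrk hW hWc (by simpa using congrArg Subtype.val ht)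
      fun w hw => (Subgroup.mem_centralizer_iff.1 t.2 w hw).symm
  have hWT : W ≤ T := fun v hv =>
    Subgroup.mem_centralizer_iff.2 fun w hw => PGroups.elemAb_comm hW hw hv
  have hcard : Nat.card {t : T // t ^ p = 1} = p ^ 2 := by
    rw [← hWc]
    refine Nat.card_eq_of_bijective (fun t => (⟨t.1.1, hmem t.1 t.2⟩ : W)) ⟨?_, ?_⟩
    · intro a b h
      exact Subtype.ext (Subtype.ext (congrArg (·.1) h))
    · rintro ⟨v, hv⟩
      exact ⟨⟨⟨v, hWT hv⟩, Subtype.ext (by simpa using PGroups.elemAb_pow hW hv)⟩, rfl⟩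
  refine ⟨(isRegularPGroup_iff.1 (isRegularPGroup_of_omega_central hp2 T (hG.to_subgroup T) ?_
    hcard.le)).2 1, hcard⟩
  intro t ht
  rw [Subgroup.mem_center_iff]
  intro u
  exact Subtype.ext (Subgroup.mem_centralizer_iff.1 u.2 t (hmem t ht)).symm

omit [Finite G] hp in
theorem commutatorElement_zpow_right {x : G} {T : Subgroup G}
    (hδ : ∀ t ∈ T, ∀ u ∈ T, ⁅x, t * u⁆ = ⁅x, t⁆ * ⁅x, u⁆) {t : G} (ht : t ∈ T) (k : ℤ) :
    ⁅x, t ^ k⁆ = ⁅x, t⁆ ^ k := by
  let f : T →* G := MonoidHom.mk' (fun u => ⁅x, (u : G)⁆) fun a b => hδ a a.2 b b.2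
  have := map_zpow f ⟨t, ht⟩ k
  simpa [f] using this

/-- The two families. -/
theorem families (hp2 : p ≠ 2) {n : ℕ} (hn : Nat.card G = p ^ n) (hrk : PRankLE p 2 G)
    {W : Subgroup G} [W.Normal] (hW : IsElementaryAbelian p W) (hWc : Nat.card W = p ^ 2)
    {x : G} (hx : x ^ p = 1) (hxT : x ∉ Subgroup.centralizer (W : Set G))
    (hδW : ∀ t ∈ Subgroup.centralizer (W : Set G), ⁅x, t⁆ ∈ W) : Fam1 p n G ∨ Fam2 p n G := by
  classical
  have hG : IsPGroup p G := IsPGroup.of_card hn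
  set T := Subgroup.centralizer (W : Set G)
  have hTC : ∀ t ∈ T, ∀ v ∈ W, t * v = v * t := fun t ht v hv =>
    (Subgroup.mem_centralizer_iff.1 ht v hv).symm
  have hWT : W ≤ T := fun v hv =>
    Subgroup.mem_centralizer_iff.2 fun u hu => PGroups.elemAb_comm hW hu hv
  have hWZ : ¬ W ≤ Subgroup.center G := fun h => hxT (Subgroup.mem_centralizer_iff.2 fun v hv =>
    (Subgroup.mem_center_iff.1 (h hv) x).symm)
  obtain ⟨ζ₀, w, hζW, hζc, hζo, hwW, hw, hgen, hcomm⟩ := exists_frame hG hW hWc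
  have hidx : T.index = p := index_centralizer hG hW hWc hWZ
  obtain ⟨hTR, hTΩ⟩ := centralizer_regular hG hp2 hrk hW hWc
  have hTcard : Nat.card T * p = p ^ n := by rw [← hn, ← T.card_mul_index, hidx]
  have hδ : ∀ t ∈ T, ∀ u ∈ T, ⁅x, t * u⁆ = ⁅x, t⁆ * ⁅x, u⁆ := by
    intro t ht u hu
    rw [commutatorElement_mul_right_eq_mul_conj, mul_assoc (⁅x, t⁆), hTC t ht _ (hδW u hu)]
    group
  -- the `p`-th powers form a cyclic subgroup centralized by `x`
  set V := powerClosure p 1 T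
  have hVT : V ≤ T := powerClosure_le T
  have hVpow : ∀ v ∈ V, ∃ t ∈ T, v = t ^ p := by
    intro v hv
    rw [show V = (powerClosure p 1 (⊤ : Subgroup T)).map T.subtype from (powerClosure_top_map T 1).symm]
      at hv
    obtain ⟨u, hu, rfl⟩ := hv
    obtain ⟨t, -, ht⟩ := exists_eq_pow_of_mem_powerClosure (hG.to_subgroup T) hTR hu
    exact ⟨t, t.2, by simp [ht]⟩
  have hVx : ∀ v ∈ V, ⁅x, v⁆ = 1 := by
    intro v hv
    obtain ⟨t, ht, rfl⟩ := hVpow v hv
    rw [← zpow_natCast, commutatorElement_zpow_right hδ ht, zpow_natCast]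
    exact PGroups.elemAb_pow hW (hδW t ht)
  obtain ⟨k₀, hk₀⟩ : ∃ k : ℤ, ⁅x, w⁆ = ζ₀ ^ k := by
    obtain ⟨k, hk⟩ := Subgroup.mem_zpowers_iff.1 (hcomm x)
    exact ⟨k, hk.symm⟩
  have hk0ne : ⁅x, w⁆ ≠ 1 := by
    intro h
    refine hxT (Subgroup.mem_centralizer_iff.2 fun v hv => ?_)
    obtain ⟨i, j, rfl⟩ := hgen v hv
    have h' : Commute x w := commutatorElement_eq_one_iff_mul_comm.1 h
    exact ((h'.zpow_right i).mul_right
      ((show Commute x ζ₀ from Subgroup.mem_center_iff.1 hζc x).zpow_right j)).eq.symm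
  have hfix : ∀ v ∈ W, ⁅x, v⁆ = 1 → v ∈ Subgroup.zpowers ζ₀ := by
    intro v hv h
    obtain ⟨i, j, rfl⟩ := hgen v hv
    rw [hδ _ (zpow_mem (hWT hwW) i) _ (zpow_mem (hWT hζW) j), commutatorElement_zpow_right hδ (hWT hwW),
      commutatorElement_zpow_right hδ (hWT hζW),
      commutatorElement_eq_one_iff_mul_comm.2 (Subgroup.mem_center_iff.1 hζc x), one_zpow, mul_one] at h
    rw [← orderOf_dvd_iff_zpow_eq_one,
      orderOf_eq_prime (PGroups.elemAb_pow hW (hδW w (hWT hwW))) hk0ne] at h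
    obtain ⟨q, rfl⟩ := h
    rw [zpow_mul, zpow_natCast, PGroups.elemAb_pow hW hwW, one_zpow, one_mul]
    exact zpow_mem (Subgroup.mem_zpowers _) j
  have hVcyc : IsCyclic V := by
    refine PGroups.isCyclic_of_unique_prime hp2 (hG.to_subgroup V) fun a b ha hb => ?_
    have key : ∀ c : V, orderOf c = p → (c : G) ∈ Subgroup.zpowers ζ₀ := fun c hc => by
      refine hfix _ (mem_of_commute hrk hW hWc ?_ fun v hv => hTC _ (hVT c.2) v hv) (hVx c c.2)
      rw [← SubgroupClass.coe_pow, ← hc, pow_orderOf_eq_one]; rfl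
    have ha0 : (a : G) ≠ 1 := fun h => by
      rw [OneMemClass.coe_eq_one] at h
      rw [h, orderOf_one] at ha
      exact hp.out.one_lt.ne ha
    have hmem : (b : G) ∈ Subgroup.zpowers (a : G) :=
      Subgroup.zpowers_le.2 (zpowers_eq_of_prime hζo (key a ha) ha0) (key b hb)
    obtain ⟨i, hi⟩ := Subgroup.mem_zpowers_iff.1 hmem
    exact Subgroup.mem_zpowers_iff.2 ⟨i, Subtype.ext (by simpa using hi)⟩
  -- a generator of `T` modulo `W`
  have hVcard : Nat.card V * p ^ 2 = Nat.card T := by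
    have h := card_powerClosure_mul (hG.to_subgroup T) hTR
    rw [hTΩ] at h
    rw [show V = (powerClosure p 1 (⊤ : Subgroup T)).map T.subtype from (powerClosure_top_map T 1).symm,
      ← Nat.card_congr ((powerClosure p 1 (⊤ : Subgroup T)).equivMapOfInjective T.subtype
        T.subtype_injective).toEquiv, h]
  obtain ⟨e, he⟩ := IsPGroup.iff_card.1 (hG.to_subgroup V)
  have hne : n = e + 3 := by
    rw [← hVcard, he, ← pow_add, ← pow_succ] at hTcard
    exact (Nat.pow_right_injective hp.out.two_le hTcard).symm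
  subst hne
  obtain ⟨z, hzT, hzo, hzζ⟩ : ∃ z ∈ T, orderOf z = p ^ (e + 1) ∧ z ^ p ^ e ∈ Subgroup.zpowers ζ₀ := by
    rcases Nat.eq_zero_or_pos e with rfl | hepos
    · exact ⟨ζ₀, hWT hζW, by rw [hζo, pow_one], by simp⟩
    obtain ⟨u, hu⟩ := V.isCyclic_iff_exists_zpowers_eq_top.1 hVcyc
    have huV : u ∈ V := by rw [← hu]; exact Subgroup.mem_zpowers u
    have huo : orderOf u = p ^ e := by rw [← Nat.card_zpowers, hu, he]
    obtain ⟨t, ht, rfl⟩ := hVpow u huV
    obtain ⟨f, hf⟩ := IsPGroup.iff_orderOf.1 hG t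
    have hf1 : 1 ≤ f := by
      by_contra h
      rw [show f = 0 by omega, pow_zero, orderOf_eq_one_iff] at hf
      rw [hf, one_pow, orderOf_one] at huo
      exact (Nat.one_lt_pow hepos.ne' hp.out.one_lt).ne huo
    rw [orderOf_pow_of_dvd hp.out.ne_zero (hf ▸ dvd_pow_self p (by omega)), hf,
      show p ^ f / p = p ^ f / p ^ 1 by rw [pow_one], Nat.pow_div hf1 hp.out.pos] at huo
    have hfe : f = e + 1 := by have := Nat.pow_right_injective hp.out.two_le huo; omega
    refine ⟨t, ht, hfe ▸ hf, hfix _ ?_ ?_⟩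
    · exact mem_of_commute hrk hW hWc (by rw [← pow_mul, ← pow_succ, ← hfe, ← hf, pow_orderOf_eq_one])
        fun v hv => hTC _ (pow_mem ht _) v hv
    · refine hVx _ ?_
      rw [show p ^ e = p * p ^ (e - 1) by rw [← pow_succ', Nat.sub_add_cancel hepos], pow_mul]
      exact pow_mem huV _
  set ζ := z ^ p ^ e
  have hζ'o : orderOf ζ = p := by
    rw [orderOf_pow_of_dvd (pow_ne_zero _ hp.out.ne_zero) (hzo ▸ pow_dvd_pow p (Nat.le_succ e)), hzo,
      Nat.pow_div (Nat.le_succ e) hp.out.pos, show e + 1 - e = 1 by omega, pow_one]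
  have hζζ₀ : ζ₀ ∈ Subgroup.zpowers ζ := zpowers_eq_of_prime hζo hzζ fun h => by
    rw [h, orderOf_one] at hζ'o
    exact hp.out.one_lt.ne hζ'o
  have hζ'c : ζ ∈ Subgroup.center G := Subgroup.zpowers_le.2 hζc hzζ
  have hgen' : ∀ v ∈ W, ∃ i j : ℤ, v = w ^ i * ζ ^ j := by
    intro v hv
    obtain ⟨i, j, rfl⟩ := hgen v hv
    obtain ⟨l, hl⟩ := Subgroup.mem_zpowers_iff.1 hζζ₀
    exact ⟨i, l * j, by rw [zpow_mul, hl]⟩
  obtain ⟨k, hk⟩ : ∃ k : ℤ, ⁅x, w⁆ = ζ ^ k := by
    obtain ⟨l, hl⟩ := Subgroup.mem_zpowers_iff.1 hζζ₀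
    exact ⟨l * k₀, by rw [zpow_mul, hl, hk₀]⟩
  have hpk : ¬ (p : ℤ) ∣ k := fun h => hk0ne (by
    rw [hk, ← orderOf_dvd_iff_zpow_eq_one, hζ'o]; exact h)
  have hwz : w ∉ Subgroup.zpowers z := by
    intro h
    obtain ⟨i, hi⟩ := Subgroup.mem_zpowers_iff.1 h
    have : ((p ^ (e + 1) : ℕ) : ℤ) ∣ i * p := by
      rw [← hzo, orderOf_dvd_iff_zpow_eq_one, zpow_mul, hi, zpow_natCast]
      exact PGroups.elemAb_pow hW hwW
    rw [pow_succ, Nat.cast_mul] at this
    obtain ⟨q, hq⟩ := Int.dvd_of_mul_dvd_mul_right (by exact_mod_cast hp.out.ne_zero) this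
    refine hw ?_
    rw [← hi, hq, zpow_mul, zpow_natCast]
    exact zpow_mem hzζ q
  have hTgen : Subgroup.zpowers z ⊔ Subgroup.zpowers w = T := by
    refine Subgroup.eq_of_le_of_card_ge
      (sup_le (Subgroup.zpowers_le.2 hzT) (Subgroup.zpowers_le.2 (hWT hwW))) ?_
    set L := Subgroup.zpowers z ⊔ Subgroup.zpowers w
    have hlt : Subgroup.zpowers z < L := lt_of_le_of_ne le_sup_left fun h =>
      hwz (h ▸ Subgroup.mem_sup_right (Subgroup.mem_zpowers w))
    have h1 := prime_mul_index_le hG hlt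
    have h2 := Subgroup.card_mul_index (Subgroup.zpowers z)
    rw [Nat.card_zpowers, hzo, ← L.card_mul_index] at h2
    have h3 : p ^ (e + 1) * p ≤ Nat.card L := by
      have : p ^ (e + 1) * (p * L.index) ≤ Nat.card L * L.index :=
        (Nat.mul_le_mul_left _ h1).trans h2.le
      rw [← mul_assoc] at this
      exact Nat.le_of_mul_le_mul_right this (Nat.pos_of_ne_zero Subgroup.index_ne_zero_of_finite)
    rw [← hVcard, he]
    refine le_trans (le_of_eq ?_) h3
    rw [← pow_succ, ← pow_add]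
  have htop : ∀ a b c : G, x ∈ Subgroup.closure ({a, b, c} : Set G) →
      w ∈ Subgroup.closure ({a, b, c} : Set G) → z ∈ Subgroup.closure ({a, b, c} : Set G) →
      Subgroup.closure ({a, b, c} : Set G) = ⊤ := by
    intro a b c h1 h2 h3
    set L := Subgroup.closure ({a, b, c} : Set G)
    have hTL : T ≤ L := hTgen ▸ sup_le (Subgroup.zpowers_le.2 h3) (Subgroup.zpowers_le.2 h2)
    have hlt : T < L := lt_of_le_of_ne hTL fun h => hxT (h ▸ h1)
    have := prime_mul_index_le hG hlt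
    rw [hidx] at this
    have hne : L.index ≠ 0 := Subgroup.index_ne_zero_of_finite
    refine Subgroup.index_eq_one.1 ?_
    have := Nat.le_of_mul_le_mul_left (this.trans (mul_one p).ge) hp.out.pos
    omega
  -- commutation rules
  have hcw : ∀ q : ℤ, x * w ^ q * x⁻¹ = w ^ q * ζ ^ (k * q) := by
    intro q
    have h1 : ⁅x, w ^ q⁆ = ζ ^ (k * q) := by
      rw [commutatorElement_zpow_right hδ (hWT hwW), hk, zpow_mul]
    rw [Subgroup.mem_center_iff.1 (zpow_mem hζ'c (k * q)) (w ^ q), ← h1]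
    simp [commutatorElement_def, mul_assoc]
  have hxζ : ∀ q : ℤ, x * ζ ^ q * x⁻¹ = ζ ^ q := fun q => by
    rw [Subgroup.mem_center_iff.1 (zpow_mem hζ'c q) x, mul_inv_cancel_right]
  have hwp : ∀ q : ℤ, (p : ℤ) ∣ q → w ^ q = 1 := by
    rintro _ ⟨r, rfl⟩
    rw [zpow_mul, zpow_natCast, PGroups.elemAb_pow hW hwW, one_zpow]
  have hzw : Commute z w := hTC z hzT w hwW
  have hzpow : z ^ p ^ (e + 1) = 1 := hzo ▸ pow_orderOf_eq_one z
  obtain ⟨i, j, hij⟩ := hgen' _ (hδW z hzT)
  by_cases hpi : (p : ℤ) ∣ i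
  · -- first family
    left
    obtain ⟨a, b, hab⟩ : IsCoprime (p : ℤ) k :=
      ((Nat.prime_iff_prime_int.1 hp.out).coprime_iff_not_dvd).2 hpk
    rw [hwp i hpi, one_mul] at hij
    set z' := z * w ^ (-(j * b))
    have hxz' : ⁅x, z'⁆ = 1 := by
      rw [hδ z hzT _ (zpow_mem (hWT hwW) _), commutatorElement_zpow_right hδ (hWT hwW), hij, hk,
        ← zpow_mul, ← zpow_add, show j + k * -(j * b) = (p : ℤ) * (j * a) by linear_combination j * hab.symm,
        zpow_mul, zpow_natCast, ← hζ'o, pow_orderOf_eq_one, one_zpow]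
    have hz'pow : z' ^ p ^ e = ζ := by
      rw [(hzw.zpow_right _).mul_pow, ← zpow_natCast (w ^ _), ← zpow_mul, hwp, mul_one]
      rcases Nat.eq_zero_or_pos e with rfl | hepos
      · simp only [pow_zero, Nat.cast_one, mul_one, dvd_neg]
        have hxz : ⁅x, z⁆ = 1 := by
          refine commutatorElement_eq_one_iff_mul_comm.2 ?_
          have : ζ = z := by simp [ζ]
          rw [← this]
          exact Subgroup.mem_center_iff.1 hζ'c x
        rw [hxz, eq_comm, ← orderOf_dvd_iff_zpow_eq_one, hζ'o] at hij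
        exact dvd_mul_of_dvd_left hij b
      · exact dvd_mul_of_dvd_right (by exact_mod_cast dvd_pow_self p hepos.ne') _
    refine ⟨by omega, x⁻¹, w ^ b, z', ?_, by rw [inv_pow, hx, inv_one], ?_, ?_, ?_, ?_, ?_⟩
    · refine htop _ _ _ ?_ ?_ ?_
      · simpa using inv_mem (Subgroup.subset_closure (Set.mem_insert x⁻¹ _) :
          x⁻¹ ∈ Subgroup.closure ({x⁻¹, w ^ b, z'} : Set G))
      · have hb : w ^ b ∈ Subgroup.closure ({x⁻¹, w ^ b, z'} : Set G) := Subgroup.subset_closure (by simp)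
        have : (w ^ b) ^ k = w := by
          rw [← zpow_mul, show b * k = 1 + (p : ℤ) * (-a) by linear_combination hab, zpow_add,
            hwp _ (dvd_mul_right _ _), mul_one, zpow_one]
        exact (congrArg (· ∈ _) this).mp (zpow_mem hb k)
      · have hb : w ^ b ∈ Subgroup.closure ({x⁻¹, w ^ b, z'} : Set G) := Subgroup.subset_closure (by simp)
        have hz : z' ∈ Subgroup.closure ({x⁻¹, w ^ b, z'} : Set G) := Subgroup.subset_closure (by simp)
        have : z = z' * (w ^ b) ^ j := by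
          rw [← zpow_mul, mul_assoc, ← zpow_add, show -(j * b) + b * j = 0 by ring, zpow_zero, mul_one]
        rw [this]; exact mul_mem hz (zpow_mem hb j)
    · rw [← zpow_natCast, ← zpow_mul, hwp _ (dvd_mul_left _ _)]
    · rw [show e + 3 - 2 = e + 1 by omega, pow_succ, pow_mul, hz'pow, ← hζ'o, pow_orderOf_eq_one]
    · exact ((show Commute x z' from commutatorElement_eq_one_iff_mul_comm.1 hxz').inv_left).eq
    · exact (((hzw.zpow_right b).symm).mul_right ((Commute.refl w).zpow_zpow b _)).eq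
    · rw [show e + 3 - 3 = e by omega, hz'pow, inv_inv, hcw]
      congr 1
      rw [show k * b = 1 + (p : ℤ) * (-a) by linear_combination hab, zpow_add, zpow_one, zpow_mul,
        zpow_natCast, ← hζ'o, pow_orderOf_eq_one, one_zpow, mul_one]
  · -- second family
    right
    have he1 : 1 ≤ e := by
      by_contra h
      apply hpi
      have h0 : e = 0 := by omega
      have : ⁅x, z⁆ = 1 := by
        refine commutatorElement_eq_one_iff_mul_comm.2 ?_
        have : ζ = z := by simp [ζ, h0]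
        rw [← this]
        exact Subgroup.mem_center_iff.1 hζ'c x
      rw [this] at hij
      by_contra hi'
      obtain ⟨a, b, hab⟩ : IsCoprime (p : ℤ) i :=
        ((Nat.prime_iff_prime_int.1 hp.out).coprime_iff_not_dvd).2 hi'
      refine hw (?_ : w ∈ Subgroup.zpowers ζ₀)
      have h2 : w ^ i ∈ Subgroup.zpowers ζ₀ := by
        rw [eq_inv_of_mul_eq_one_left hij.symm]
        exact inv_mem (zpow_mem hzζ j)
      have : w = (w ^ i) ^ b := by
        rw [← zpow_mul, show i * b = 1 + (p : ℤ) * (-a) by linear_combination hab, zpow_add,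
          hwp _ (dvd_mul_right _ _), mul_one, zpow_one]
      rw [this]; exact zpow_mem h2 b
    -- choose the power of `x`
    have hki : ((k : ZMod p) * i) ≠ 0 := by
      refine mul_ne_zero ?_ ?_ <;> rw [Ne, ZMod.intCast_zmod_eq_zero_iff_dvd] <;> assumption
    obtain ⟨m, s, hs, hm, hms⟩ : ∃ m s : ℕ, (s = 1 ∨ ¬ IsSquare (s : ZMod p)) ∧ ¬ p ∣ m ∧
        (m : ZMod p) * m * (k * i) = s := by
      by_cases hsq : IsSquare ((k : ZMod p) * i)
      · obtain ⟨r, hr⟩ := hsq
        have hr0 : r ≠ 0 := fun h => hki (by rw [hr, h, mul_zero])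
        refine ⟨(r⁻¹).val, 1, Or.inl rfl, fun h => ?_, ?_⟩
        · rw [← ZMod.natCast_eq_zero_iff, ZMod.natCast_zmod_val] at h
          exact inv_ne_zero hr0 h
        · rw [ZMod.natCast_zmod_val, hr]; field_simp; simp
      · exact ⟨1, ((k : ZMod p) * i).val, Or.inr (by rwa [ZMod.natCast_zmod_val]),
          hp.out.not_dvd_one, by rw [ZMod.natCast_zmod_val]; simp⟩
    have hstep : ∀ q : ℕ, (∀ r : ℤ, x ^ q * w ^ r * (x ^ q)⁻¹ = w ^ r * ζ ^ (k * q * r)) ∧
        ∃ a : ℤ, ⁅x ^ q, z⁆ = w ^ (i * q) * ζ ^ a := by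
      intro q
      induction q with
      | zero => exact ⟨fun r => by simp, 0, by simp⟩
      | succ q ih =>
        obtain ⟨ih1, a, iha⟩ := ih
        refine ⟨fun r => ?_, k * (i * q) + a + j, ?_⟩
        · rw [pow_succ', mul_inv_rev, show x * x ^ q * w ^ r * ((x ^ q)⁻¹ * x⁻¹) =
            x * (x ^ q * w ^ r * (x ^ q)⁻¹) * x⁻¹ by group, ih1, ← conj_mul, hcw, hxζ, mul_assoc,
            ← zpow_add]
          congr 2; push_cast; ring
        · rw [pow_succ', commutatorElement_mul_left_eq_conj_mul, iha, ← conj_mul, hcw, hxζ, hij]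
          have e1 : Commute (ζ ^ a) (w ^ i) := (Subgroup.mem_center_iff.1 (zpow_mem hζ'c a) _).symm
          have e2 : Commute (ζ ^ (k * (i * q))) (w ^ i) :=
            (Subgroup.mem_center_iff.1 (zpow_mem hζ'c _) _).symm
          rw [mul_assoc (w ^ (i * ↑q)), ← zpow_add, mul_assoc, ← mul_assoc (ζ ^ _) (w ^ i),
            show ζ ^ (k * (i * ↑q) + a) * w ^ i = w ^ i * ζ ^ (k * (i * ↑q) + a) by
              rw [zpow_add]; exact (e2.mul_left e1).eq, mul_assoc, ← zpow_add, ← mul_assoc, ← zpow_add]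
          congr 2 <;> push_cast <;> ring
    obtain ⟨h1, a, ha⟩ := hstep m
    set y := ⁅x ^ m, z⁆
    have hyW : y ∈ W := by
      rw [ha]; exact mul_mem (zpow_mem hwW _) (zpow_mem (Subgroup.zpowers_le.2 hζW hzζ) _)
    have hxm : x ^ m * z * (x ^ m)⁻¹ = y * z := by simp [y, commutatorElement_def, mul_assoc]
    refine ⟨by omega, s, (x ^ m)⁻¹, y, z, hs, ?_, ?_, PGroups.elemAb_pow hW hyW, ?_,
      (hTC z hzT y hyW).symm, ?_, by rw [inv_inv, hxm]⟩
    · refine htop _ _ _ ?_ ?_ (Subgroup.subset_closure (by simp))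
      · have hxm' : x ^ m ∈ Subgroup.closure ({(x ^ m)⁻¹, y, z} : Set G) := by
          simpa using inv_mem (Subgroup.subset_closure (Set.mem_insert (x ^ m)⁻¹ _) :
            (x ^ m)⁻¹ ∈ Subgroup.closure ({(x ^ m)⁻¹, y, z} : Set G))
        have hx1 : x ≠ 1 := fun h => hxT (h ▸ one_mem _)
        have hxo : orderOf x = p := orderOf_eq_prime hx hx1
        obtain ⟨c, hc⟩ := exists_pow_eq_self_of_coprime (x := x) (n := m)
          (hxo ▸ (hp.out.coprime_iff_not_dvd.2 hm).symm)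
        exact (congrArg (· ∈ _) hc).mp (pow_mem hxm' c)
      · have hy : y ∈ Subgroup.closure ({(x ^ m)⁻¹, y, z} : Set G) := Subgroup.subset_closure (by simp)
        have hζm : ζ ∈ Subgroup.closure ({(x ^ m)⁻¹, y, z} : Set G) :=
          pow_mem (Subgroup.subset_closure (by simp)) _
        have hwim : w ^ (i * m) ∈ Subgroup.closure ({(x ^ m)⁻¹, y, z} : Set G) := by
          rw [show w ^ (i * (m : ℤ)) = y * (ζ ^ a)⁻¹ by rw [ha, mul_inv_cancel_right]]
          exact mul_mem hy (inv_mem (zpow_mem hζm a))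
        obtain ⟨c, d, hcd⟩ : IsCoprime (p : ℤ) (i * m) :=
          ((Nat.prime_iff_prime_int.1 hp.out).coprime_iff_not_dvd).2 fun h =>
            ((Nat.prime_iff_prime_int.1 hp.out).dvd_or_dvd h).elim hpi fun h' => hm (by exact_mod_cast h')
        have : w = (w ^ (i * (m : ℤ))) ^ d := by
          rw [← zpow_mul, show i * (m : ℤ) * d = 1 + (p : ℤ) * (-c) by linear_combination hcd, zpow_add,
            hwp _ (dvd_mul_right _ _), mul_one, zpow_one]
        rw [this]; exact zpow_mem hwim d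
    · rw [inv_pow, ← pow_mul, mul_comm, pow_mul, hx, one_pow, inv_one]
    · rw [show e + 3 - 2 = e + 1 by omega]; exact hzpow
    · rw [inv_inv, ha, ← conj_mul, h1, show x ^ m * ζ ^ a * (x ^ m)⁻¹ = ζ ^ a by
        rw [Subgroup.mem_center_iff.1 (zpow_mem hζ'c a) _, mul_inv_cancel_right],
        show e + 3 - 3 = e by omega, mul_comm s, pow_mul, mul_assoc, mul_assoc, ← zpow_natCast (z ^ p ^ e) s]
      change _ = w ^ (i * (m : ℤ)) * ζ ^ a * ζ ^ (s : ℤ)
      rw [mul_assoc, ← zpow_add, ← zpow_add]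
      congr 1
      rw [zpow_eq_zpow_iff_modEq, hζ'o, ← ZMod.intCast_eq_intCast_iff]
      push_cast
      linear_combination hms

end Cfsg.Agent.Lib.PGroupTheory.RankTwo
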